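import Mathlib
import Cfsg.Agent.Lib.Helper24.ChevTorus

/-!
# Involution classes of E6/F4 in characteristic 2, piece CH (helper19 for helper25, S2175/S2174):
the diagonal subgroup is commutative of odd exponent.
-/

set_option autoImplicit false

namespace Cfsg.Agent.Lib.Helper25

open Cfsg Cfsg.Lie Matrix
open Cfsg.Agent.Lib.Helper24

section

variable {F : Type*} [Field F]

/-- CH -/
theorem inv_chev_torus [Fintype F] [CharP F 2]
    (D : ChevalleyDatum) (hD : D ∈ [chevG2, chevB2, chevD4, chevF4, chevE6, chevE7, chevE8]) :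
    (∀ a ∈ D.diagonalSubgroup F, ∀ b ∈ D.diagonalSubgroup F, a * b = b * a) ∧
    ∃ e : ℕ, ∀ a ∈ D.diagonalSubgroup F, a ^ (2 * e + 1) = 1 := by
  have hle := diagonalSubgroup_le_gradedTorus (F := F) D hD
  constructor
  · intro a ha b hb
    obtain ⟨d, hd, hda⟩ := hle ha
    obtain ⟨d', hd', hdb⟩ := hle hb
    apply Units.ext
    rw [Units.val_mul, Units.val_mul, hda, hdb]
    unfold torus
    rw [Matrix.diagonal_mul_diagonal, Matrix.diagonal_mul_diagonal]
    congr 1
    funext j
    exact mul_comm _ _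
  · obtain ⟨k, hk2, hcard⟩ := FiniteField.card F 2
    refine ⟨2 ^ ((k : ℕ) - 1) - 1, fun a ha => ?_⟩
    obtain ⟨d, hd, hda⟩ := hle ha
    have hk1 : 1 ≤ (k : ℕ) := k.pos
    have hexp : 2 * (2 ^ ((k : ℕ) - 1) - 1) + 1 = Fintype.card F - 1 := by
      rw [hcard]
      have h1 : (2 : ℕ) ^ (k : ℕ) = 2 * 2 ^ ((k : ℕ) - 1) := by
        rw [← pow_succ']
        congr 1
        omega
      have h2 : 1 ≤ 2 ^ ((k : ℕ) - 1) := Nat.one_le_two_pow
      omega
    rw [hexp]
    apply Units.ext
    rw [Units.val_pow_eq_pow_val, hda, Units.val_one]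
    unfold torus
    rw [Matrix.diagonal_pow, ← Matrix.diagonal_one]
    congr 1
    funext j
    rcases j with v | v
    · simp
    · show d v.val ^ (Fintype.card F - 1) = 1
      exact FiniteField.pow_card_sub_one_eq_one _ (mulGraded_ne_zero D d hd v.val v.isLt)

end

end Cfsg.Agent.Lib.Helper25
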