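import Mathlib

set_option autoImplicit false

/-!
# The (2,3,5) presentation of `A₅`

A group generated by `a`, `x` with `a² = x⁵ = (a x)³ = 1` has at most `60` elements (coset
enumeration over `⟨x⟩`), the presented group is `A₅`, and so any such pair with `x ≠ 1` generates a
copy of `A₅`.
-/

namespace Cfsg.Agent.Lib.Helper19.A5P

section Enum

variable {H : Type*} [Group H] {a x : H}

theorem a_inv (ha : a * a = 1) : a⁻¹ = a := inv_eq_of_mul_eq_one_right ha

theorem r0 (ha : a * a = 1) (h3 : a * x * a * x * a * x = 1) : a * x * a = x⁻¹ * a * x⁻¹ := by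
  have h1 : a⁻¹ = a := a_inv ha
  have h2 : a * x * a = (x * a * x)⁻¹ := eq_inv_of_mul_eq_one_left (by simpa [mul_assoc] using h3)
  rw [h2]
  simp [mul_assoc, h1]

theorem r0' (ha : a * a = 1) (h3 : a * x * a * x * a * x = 1) : a * x⁻¹ * a = x * a * x := by
  have h1 : a⁻¹ = a := a_inv ha
  have h := congrArg (fun g => g⁻¹) (r0 ha h3)
  simpa [mul_assoc, h1] using h

theorem hx3 (hx : x ^ 5 = 1) : x ^ 3 = x⁻¹ ^ 2 := by
  have h : x ^ 3 * x ^ 2 = 1 := by rw [← pow_add]; exact hx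
  rw [inv_pow]
  exact eq_inv_of_mul_eq_one_left h

theorem hxi3 (hx : x ^ 5 = 1) : x⁻¹ ^ 3 = x ^ 2 := by
  have h : x ^ 2 * x ^ 3 = 1 := by rw [← pow_add]; exact hx
  rw [inv_pow]
  exact (eq_inv_of_mul_eq_one_left h).symm

theorem i2 (ha : a * a = 1) (h3 : a * x * a * x * a * x = 1) :
    a * x⁻¹ ^ 2 * a = x * (a * x ^ 2 * a) * x := by
  calc a * x⁻¹ ^ 2 * a = a * x⁻¹ * (a * a) * x⁻¹ * a := by rw [ha]; simp only [pow_succ, pow_zero, one_mul, mul_one, mul_assoc, mul_inv_cancel_left, inv_mul_cancel_left, mul_inv_cancel, inv_mul_cancel]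
    _ = (a * x⁻¹ * a) * (a * x⁻¹ * a) := by simp only [pow_succ, pow_zero, one_mul, mul_one, mul_assoc, mul_inv_cancel_left, inv_mul_cancel_left, mul_inv_cancel, inv_mul_cancel]
    _ = (x * a * x) * (x * a * x) := by rw [r0' ha h3]
    _ = x * (a * x ^ 2 * a) * x := by simp only [pow_succ, pow_zero, one_mul, mul_one, mul_assoc, mul_inv_cancel_left, inv_mul_cancel_left, mul_inv_cancel, inv_mul_cancel]

theorem i3 (ha : a * a = 1) (h3 : a * x * a * x * a * x = 1) :
    a * x ^ 2 * a * x * a = x⁻¹ * a * x⁻¹ ^ 2 := by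
  calc a * x ^ 2 * a * x * a = a * x ^ 2 * (a * x * a) := by simp only [pow_succ, pow_zero, one_mul, mul_one, mul_assoc, mul_inv_cancel_left, inv_mul_cancel_left, mul_inv_cancel, inv_mul_cancel]
    _ = a * x ^ 2 * (x⁻¹ * a * x⁻¹) := by rw [r0 ha h3]
    _ = (a * x * a) * x⁻¹ := by simp only [pow_succ, pow_zero, one_mul, mul_one, mul_assoc, mul_inv_cancel_left, inv_mul_cancel_left, mul_inv_cancel, inv_mul_cancel]
    _ = (x⁻¹ * a * x⁻¹) * x⁻¹ := by rw [r0 ha h3]
    _ = x⁻¹ * a * x⁻¹ ^ 2 := by simp only [pow_succ, pow_zero, one_mul, mul_one, mul_assoc, mul_inv_cancel_left, inv_mul_cancel_left, mul_inv_cancel, inv_mul_cancel]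

theorem i4 (ha : a * a = 1) (hx : x ^ 5 = 1) (h3 : a * x * a * x * a * x = 1) :
    a * x ^ 2 * a * x ^ 2 * a = x⁻¹ * (a * x ^ 2 * a) * x⁻¹ := by
  have hL : a * x ^ 2 * a = x⁻¹ * a * x⁻¹ ^ 2 * a * x⁻¹ := by
    calc a * x ^ 2 * a = a * x * (a * a) * x * a := by rw [ha]; simp only [pow_succ, pow_zero, one_mul, mul_one, mul_assoc, mul_inv_cancel_left, inv_mul_cancel_left, mul_inv_cancel, inv_mul_cancel]
      _ = (a * x * a) * (a * x * a) := by simp only [pow_succ, pow_zero, one_mul, mul_one, mul_assoc, mul_inv_cancel_left, inv_mul_cancel_left, mul_inv_cancel, inv_mul_cancel]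
      _ = (x⁻¹ * a * x⁻¹) * (x⁻¹ * a * x⁻¹) := by rw [r0 ha h3]
      _ = x⁻¹ * a * x⁻¹ ^ 2 * a * x⁻¹ := by simp only [pow_succ, pow_zero, one_mul, mul_one, mul_assoc, mul_inv_cancel_left, inv_mul_cancel_left, mul_inv_cancel, inv_mul_cancel]
  calc a * x ^ 2 * a * x ^ 2 * a = a * x ^ 2 * (a * x ^ 2 * a) := by simp only [pow_succ, pow_zero, one_mul, mul_one, mul_assoc, mul_inv_cancel_left, inv_mul_cancel_left, mul_inv_cancel, inv_mul_cancel]
    _ = a * x ^ 2 * (x⁻¹ * a * x⁻¹ ^ 2 * a * x⁻¹) := by rw [← hL]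
    _ = (a * x * a) * x⁻¹ ^ 2 * a * x⁻¹ := by simp only [pow_succ, pow_zero, one_mul, mul_one, mul_assoc, mul_inv_cancel_left, inv_mul_cancel_left, mul_inv_cancel, inv_mul_cancel]
    _ = (x⁻¹ * a * x⁻¹) * x⁻¹ ^ 2 * a * x⁻¹ := by rw [r0 ha h3]
    _ = x⁻¹ * a * x⁻¹ ^ 3 * a * x⁻¹ := by simp only [pow_succ, pow_zero, one_mul, mul_one, mul_assoc, mul_inv_cancel_left, inv_mul_cancel_left, mul_inv_cancel, inv_mul_cancel]
    _ = x⁻¹ * (a * x ^ 2 * a) * x⁻¹ := by rw [hxi3 hx]; simp only [pow_succ, pow_zero, one_mul, mul_one, mul_assoc, mul_inv_cancel_left, inv_mul_cancel_left, mul_inv_cancel, inv_mul_cancel]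

theorem i5 (ha : a * a = 1) (hx : x ^ 5 = 1) (h3 : a * x * a * x * a * x = 1) :
    a * x ^ 2 * a * x⁻¹ * a = x * (a * x ^ 2 * a) * x ^ 2 := by
  calc a * x ^ 2 * a * x⁻¹ * a = a * x ^ 2 * (a * x⁻¹ * a) := by simp only [pow_succ, pow_zero, one_mul, mul_one, mul_assoc, mul_inv_cancel_left, inv_mul_cancel_left, mul_inv_cancel, inv_mul_cancel]
    _ = a * x ^ 2 * (x * a * x) := by rw [r0' ha h3]
    _ = a * x ^ 3 * a * x := by simp only [pow_succ, pow_zero, one_mul, mul_one, mul_assoc, mul_inv_cancel_left, inv_mul_cancel_left, mul_inv_cancel, inv_mul_cancel]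
    _ = a * x⁻¹ ^ 2 * a * x := by rw [hx3 hx]
    _ = x * (a * x ^ 2 * a) * x * x := by rw [i2 ha h3]
    _ = x * (a * x ^ 2 * a) * x ^ 2 := by simp only [pow_succ, pow_zero, one_mul, mul_one, mul_assoc, mul_inv_cancel_left, inv_mul_cancel_left, mul_inv_cancel, inv_mul_cancel]

theorem i1 (ha : a * a = 1) (hx : x ^ 5 = 1) (h3 : a * x * a * x * a * x = 1) :
    a * x ^ 2 * a * x⁻¹ ^ 2 * a * x = x⁻¹ * (a * x ^ 2 * a * x⁻¹ ^ 2 * a) := by
  have hA : a * x ^ 2 * a * x⁻¹ ^ 2 * a * x = x * (a * x ^ 2 * a * x⁻¹ ^ 2 * a) * x ^ 2 := by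
    calc a * x ^ 2 * a * x⁻¹ ^ 2 * a * x = a * x ^ 2 * (a * x⁻¹ ^ 2 * a) * x := by simp only [pow_succ, pow_zero, one_mul, mul_one, mul_assoc, mul_inv_cancel_left, inv_mul_cancel_left, mul_inv_cancel, inv_mul_cancel]
      _ = a * x ^ 2 * (x * (a * x ^ 2 * a) * x) * x := by rw [i2 ha h3]
      _ = a * x ^ 3 * a * x ^ 2 * a * x ^ 2 := by simp only [pow_succ, pow_zero, one_mul, mul_one, mul_assoc, mul_inv_cancel_left, inv_mul_cancel_left, mul_inv_cancel, inv_mul_cancel]
      _ = (a * x⁻¹ ^ 2 * a) * x ^ 2 * a * x ^ 2 := by rw [hx3 hx]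
      _ = (x * (a * x ^ 2 * a) * x) * x ^ 2 * a * x ^ 2 := by rw [i2 ha h3]
      _ = x * (a * x ^ 2 * a * x ^ 3 * a) * x ^ 2 := by simp only [pow_succ, pow_zero, one_mul, mul_one, mul_assoc, mul_inv_cancel_left, inv_mul_cancel_left, mul_inv_cancel, inv_mul_cancel]
      _ = x * (a * x ^ 2 * a * x⁻¹ ^ 2 * a) * x ^ 2 := by rw [hx3 hx]
  generalize a * x ^ 2 * a * x⁻¹ ^ 2 * a = S at hA ⊢
  have hB : S = x * S * x := by
    calc S = S * x * x⁻¹ := by simp only [pow_succ, pow_zero, one_mul, mul_one, mul_assoc, mul_inv_cancel_left, inv_mul_cancel_left, mul_inv_cancel, inv_mul_cancel]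
      _ = x * S * x ^ 2 * x⁻¹ := by rw [hA]
      _ = x * S * x := by simp only [pow_succ, pow_zero, one_mul, mul_one, mul_assoc, mul_inv_cancel_left, inv_mul_cancel_left, mul_inv_cancel, inv_mul_cancel]
  calc S * x = x⁻¹ * (x * S * x) := by simp only [pow_succ, pow_zero, one_mul, mul_one, mul_assoc, mul_inv_cancel_left, inv_mul_cancel_left, mul_inv_cancel, inv_mul_cancel]
    _ = x⁻¹ * S := by rw [← hB]

end Enum

section Enum2

variable {H : Type*} [Group H]

theorem zcases {x : H} (hx : x ^ 5 = 1) (c : H) (hc : c ∈ Subgroup.zpowers x) :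
    c = 1 ∨ c = x ∨ c = x ^ 2 ∨ c = x⁻¹ ^ 2 ∨ c = x⁻¹ := by
  obtain ⟨n, rfl⟩ := Subgroup.mem_zpowers_iff.1 hc
  rw [zpow_eq_zpow_emod' n hx]
  have h0 := Int.emod_nonneg n (by norm_num : ((5 : ℕ) : ℤ) ≠ 0)
  have h5 := Int.emod_lt_of_pos n (by norm_num : (0 : ℤ) < ((5 : ℕ) : ℤ))
  generalize n % ((5 : ℕ) : ℤ) = m at h0 h5
  have h5' : m < 5 := by exact_mod_cast h5
  interval_cases m
  · left; simp
  · right; left; simp
  · right; right; left; norm_cast
  · right; right; right; left; rw [← hx3 hx]; norm_cast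
  · right; right; right; right
    have h : x ^ 4 * x = 1 := by rw [← pow_succ]; exact hx
    have h4 : x ^ (4 : ℤ) = x ^ 4 := by norm_cast
    rw [h4]; exact eq_inv_of_mul_eq_one_left h

/-- the 60 normal forms -/
def T (a x g : H) : Prop :=
  ∃ c ∈ Subgroup.zpowers x, g = c ∨ (∃ c' ∈ Subgroup.zpowers x, g = c * a * c') ∨
    (∃ c' ∈ Subgroup.zpowers x, g = c * (a * x ^ 2 * a) * c') ∨
    g = c * (a * x ^ 2 * a * x⁻¹ ^ 2 * a)

theorem T_mul_x {a x : H} (ha : a * a = 1) (hx : x ^ 5 = 1) (h3 : a * x * a * x * a * x = 1)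
    (g : H) (hg : T a x g) : T a x (g * x) := by
  have hxZ : x ∈ Subgroup.zpowers x := Subgroup.mem_zpowers x
  obtain ⟨c, hc, h | ⟨c', hc', h⟩ | ⟨c', hc', h⟩ | h⟩ := hg
  · exact ⟨c * x, mul_mem hc hxZ, Or.inl (by rw [h])⟩
  · exact ⟨c, hc, Or.inr (Or.inl ⟨c' * x, mul_mem hc' hxZ, by rw [h, mul_assoc]⟩)⟩
  · exact ⟨c, hc, Or.inr (Or.inr (Or.inl ⟨c' * x, mul_mem hc' hxZ, by rw [h, mul_assoc]⟩))⟩
  · refine ⟨c * x⁻¹, mul_mem hc (inv_mem hxZ), Or.inr (Or.inr (Or.inr ?_))⟩
    rw [h, mul_assoc, i1 ha hx h3]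
    simp only [mul_assoc]

theorem T_mul_a {a x : H} (ha : a * a = 1) (hx : x ^ 5 = 1) (h3 : a * x * a * x * a * x = 1)
    (g : H) (hg : T a x g) : T a x (g * a) := by
  have hxZ : x ∈ Subgroup.zpowers x := Subgroup.mem_zpowers x
  have hxi : x⁻¹ ∈ Subgroup.zpowers x := inv_mem hxZ
  have h1Z : (1 : H) ∈ Subgroup.zpowers x := one_mem _
  obtain ⟨c, hc, h | ⟨c', hc', h⟩ | ⟨c', hc', h⟩ | h⟩ := hg
  · exact ⟨c, hc, Or.inr (Or.inl ⟨1, h1Z, by rw [h, mul_one]⟩)⟩
  · rcases zcases hx c' hc' with h' | h' | h' | h' | h' <;> rw [h'] at h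
    · exact ⟨c, hc, Or.inl (by rw [h, mul_one, mul_assoc, ha, mul_one])⟩
    · refine ⟨c * x⁻¹, mul_mem hc hxi, Or.inr (Or.inl ⟨x⁻¹, hxi, ?_⟩)⟩
      rw [h]
      calc c * a * x * a = c * (a * x * a) := by simp only [mul_assoc]
        _ = c * (x⁻¹ * a * x⁻¹) := by rw [r0 ha h3]
        _ = c * x⁻¹ * a * x⁻¹ := by simp only [mul_assoc]
    · exact ⟨c, hc, Or.inr (Or.inr (Or.inl ⟨1, h1Z, by rw [h, mul_one]; simp only [mul_assoc]⟩))⟩
    · refine ⟨c * x, mul_mem hc hxZ, Or.inr (Or.inr (Or.inl ⟨x, hxZ, ?_⟩))⟩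
      rw [h]
      calc c * a * x⁻¹ ^ 2 * a = c * (a * x⁻¹ ^ 2 * a) := by simp only [mul_assoc]
        _ = c * (x * (a * x ^ 2 * a) * x) := by rw [i2 ha h3]
        _ = c * x * (a * x ^ 2 * a) * x := by simp only [mul_assoc]
    · refine ⟨c * x, mul_mem hc hxZ, Or.inr (Or.inl ⟨x, hxZ, ?_⟩)⟩
      rw [h]
      calc c * a * x⁻¹ * a = c * (a * x⁻¹ * a) := by simp only [mul_assoc]
        _ = c * (x * a * x) := by rw [r0' ha h3]
        _ = c * x * a * x := by simp only [mul_assoc]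
  · rcases zcases hx c' hc' with h' | h' | h' | h' | h' <;> rw [h'] at h
    · refine ⟨c, hc, Or.inr (Or.inl ⟨x ^ 2, pow_mem hxZ 2, ?_⟩)⟩
      rw [h, mul_one]
      calc c * (a * x ^ 2 * a) * a = c * a * x ^ 2 * (a * a) := by simp only [mul_assoc]
        _ = c * a * x ^ 2 := by rw [ha, mul_one]
    · refine ⟨c * x⁻¹, mul_mem hc hxi, Or.inr (Or.inl ⟨x⁻¹ ^ 2, pow_mem hxi 2, ?_⟩)⟩
      rw [h]
      calc c * (a * x ^ 2 * a) * x * a = c * (a * x ^ 2 * a * x * a) := by simp only [mul_assoc]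
        _ = c * (x⁻¹ * a * x⁻¹ ^ 2) := by rw [i3 ha h3]
        _ = c * x⁻¹ * a * x⁻¹ ^ 2 := by simp only [mul_assoc]
    · refine ⟨c * x⁻¹, mul_mem hc hxi, Or.inr (Or.inr (Or.inl ⟨x⁻¹, hxi, ?_⟩))⟩
      rw [h]
      calc c * (a * x ^ 2 * a) * x ^ 2 * a = c * (a * x ^ 2 * a * x ^ 2 * a) := by
            simp only [mul_assoc]
        _ = c * (x⁻¹ * (a * x ^ 2 * a) * x⁻¹) := by rw [i4 ha hx h3]
        _ = c * x⁻¹ * (a * x ^ 2 * a) * x⁻¹ := by simp only [mul_assoc]
    · exact ⟨c, hc, Or.inr (Or.inr (Or.inr (by rw [h]; simp only [mul_assoc])))⟩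
    · refine ⟨c * x, mul_mem hc hxZ, Or.inr (Or.inr (Or.inl ⟨x ^ 2, pow_mem hxZ 2, ?_⟩))⟩
      rw [h]
      calc c * (a * x ^ 2 * a) * x⁻¹ * a = c * (a * x ^ 2 * a * x⁻¹ * a) := by
            simp only [mul_assoc]
        _ = c * (x * (a * x ^ 2 * a) * x ^ 2) := by rw [i5 ha hx h3]
        _ = c * x * (a * x ^ 2 * a) * x ^ 2 := by simp only [mul_assoc]
  · refine ⟨c, hc, Or.inr (Or.inr (Or.inl ⟨x⁻¹ ^ 2, pow_mem hxi 2, ?_⟩))⟩
    rw [h]
    calc c * (a * x ^ 2 * a * x⁻¹ ^ 2 * a) * a = c * (a * x ^ 2 * a) * x⁻¹ ^ 2 * (a * a) := by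
          simp only [mul_assoc]
      _ = c * (a * x ^ 2 * a) * x⁻¹ ^ 2 := by rw [ha, mul_one]

theorem T_all {a x : H} (ha : a * a = 1) (hx : x ^ 5 = 1) (h3 : a * x * a * x * a * x = 1)
    (hgen : Subgroup.closure {a, x} = ⊤) (g : H) : T a x g := by
  have key : ∀ g ∈ Submonoid.closure (({a, x} : Set H) ∪ ({a, x} : Set H)⁻¹),
      ∀ t, T a x t → T a x (t * g) := by
    intro g hg
    induction hg using Submonoid.closure_induction with
    | mem y hy =>
      intro t ht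
      rcases hy with hy | hy
      · rcases hy with rfl | hy
        · exact T_mul_a ha hx h3 t ht
        · rw [Set.mem_singleton_iff] at hy
          rw [hy]
          exact T_mul_x ha hx h3 t ht
      · rw [Set.mem_inv] at hy
        rcases hy with hy | hy
        · have hya : y = a := by rw [← inv_inv y, hy, a_inv ha]
          rw [hya]; exact T_mul_a ha hx h3 t ht
        · rw [Set.mem_singleton_iff] at hy
          have hyx : y = x ^ 4 := by
            rw [← inv_inv y, hy]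
            exact inv_eq_of_mul_eq_one_right (by rw [← pow_succ']; exact hx)
          rw [hyx]
          have h1 := T_mul_x ha hx h3 _ (T_mul_x ha hx h3 _ (T_mul_x ha hx h3 _
            (T_mul_x ha hx h3 t ht)))
          have h4 : t * x ^ 4 = t * x * x * x * x := by
            simp only [pow_succ, pow_zero, one_mul, mul_assoc]
          rw [h4]; exact h1
    | one => intro t ht; rwa [mul_one]
    | mul y z _ _ hy hz => intro t ht; rw [← mul_assoc]; exact hz _ (hy t ht)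
  have hg : g ∈ Submonoid.closure (({a, x} : Set H) ∪ ({a, x} : Set H)⁻¹) := by
    rw [← Subgroup.closure_toSubmonoid, hgen]; trivial
  have h1 : T a x 1 := ⟨1, one_mem _, Or.inl rfl⟩
  simpa using key g hg 1 h1

theorem card_le {a x : H} (ha : a * a = 1) (hx : x ^ 5 = 1) (h3 : a * x * a * x * a * x = 1)
    (hgen : Subgroup.closure {a, x} = ⊤) : Finite H ∧ Nat.card H ≤ 60 := by
  classical
  have hfo : IsOfFinOrder x := isOfFinOrder_iff_pow_eq_one.2 ⟨5, by norm_num, hx⟩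
  haveI : Finite (Subgroup.zpowers x) := Set.finite_coe_iff.2 (finite_zpowers.2 hfo)
  have hn : Nat.card (Subgroup.zpowers x) ≤ 5 := by
    rw [Nat.card_zpowers]
    exact Nat.le_of_dvd (by norm_num) (orderOf_dvd_of_pow_eq_one hx)
  let f : Subgroup.zpowers x × (Unit ⊕ (Subgroup.zpowers x ⊕ (Subgroup.zpowers x ⊕ Unit))) → H :=
    fun p => match p with
      | (c, Sum.inl _) => (c : H)
      | (c, Sum.inr (Sum.inl c')) => (c : H) * a * (c' : H)
      | (c, Sum.inr (Sum.inr (Sum.inl c'))) => (c : H) * (a * x ^ 2 * a) * (c' : H)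
      | (c, Sum.inr (Sum.inr (Sum.inr _))) => (c : H) * (a * x ^ 2 * a * x⁻¹ ^ 2 * a)
  have hf : Function.Surjective f := by
    intro g
    obtain ⟨c, hc, h | ⟨c', hc', h⟩ | ⟨c', hc', h⟩ | h⟩ := T_all ha hx h3 hgen g
    · exact ⟨(⟨c, hc⟩, Sum.inl ()), h.symm⟩
    · exact ⟨(⟨c, hc⟩, Sum.inr (Sum.inl ⟨c', hc'⟩)), h.symm⟩
    · exact ⟨(⟨c, hc⟩, Sum.inr (Sum.inr (Sum.inl ⟨c', hc'⟩))), h.symm⟩
    · exact ⟨(⟨c, hc⟩, Sum.inr (Sum.inr (Sum.inr ()))), h.symm⟩
  haveI : Finite H := Finite.of_surjective f hf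
  refine ⟨inferInstance, ?_⟩
  have h1 := Nat.card_le_card_of_surjective f hf
  have hu : Nat.card Unit = 1 := by simp
  rw [Nat.card_prod, Nat.card_sum, Nat.card_sum, Nat.card_sum, hu] at h1
  have h2 : Nat.card (Subgroup.zpowers x) * (1 + (Nat.card (Subgroup.zpowers x) +
      (Nat.card (Subgroup.zpowers x) + 1))) ≤ 5 * (1 + (5 + (5 + 1))) :=
    Nat.mul_le_mul hn (by omega)
  omega

end Enum2

section Pres

/-- relators of the `(2,3,5)` presentation -/
def rels : Set (FreeGroup (Fin 2)) :=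
  {FreeGroup.of 0 * FreeGroup.of 0, FreeGroup.of 1 ^ 5,
    FreeGroup.of 0 * FreeGroup.of 1 * FreeGroup.of 0 * FreeGroup.of 1 * FreeGroup.of 0 *
      FreeGroup.of 1}

/-- the presented group -/
abbrev P : Type := PresentedGroup rels

theorem P_a : (PresentedGroup.of 0 : P) * PresentedGroup.of 0 = 1 := by
  have h : PresentedGroup.mk rels (FreeGroup.of 0 * FreeGroup.of 0) = 1 :=
    PresentedGroup.one_of_mem (by simp [rels])
  rw [map_mul] at h
  exact h

theorem P_x : (PresentedGroup.of 1 : P) ^ 5 = 1 := by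
  have h : PresentedGroup.mk rels (FreeGroup.of 1 ^ 5) = 1 :=
    PresentedGroup.one_of_mem (by simp [rels])
  rw [map_pow] at h
  exact h

theorem P_3 : (PresentedGroup.of 0 : P) * PresentedGroup.of 1 * PresentedGroup.of 0 *
    PresentedGroup.of 1 * PresentedGroup.of 0 * PresentedGroup.of 1 = 1 := by
  have h : PresentedGroup.mk rels (FreeGroup.of 0 * FreeGroup.of 1 * FreeGroup.of 0 *
      FreeGroup.of 1 * FreeGroup.of 0 * FreeGroup.of 1) = 1 :=
    PresentedGroup.one_of_mem (by simp [rels])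
  simp only [map_mul] at h
  exact h

theorem P_gen : Subgroup.closure {(PresentedGroup.of 0 : P), PresentedGroup.of 1} = ⊤ := by
  have h := PresentedGroup.closure_range_of rels
  have hr : Set.range (PresentedGroup.of : Fin 2 → P) =
      {(PresentedGroup.of 0 : P), PresentedGroup.of 1} := by
    ext g
    simp only [Set.mem_range, Fin.exists_fin_two, Set.mem_insert_iff, Set.mem_singleton_iff]
    tauto
  rw [hr] at h
  exact h

theorem P_card : Finite P ∧ Nat.card P ≤ 60 := card_le P_a P_x P_3 P_gen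

/-- generators of `A₅` -/
def a0 : alternatingGroup (Fin 5) := ⟨Equiv.swap 0 1 * Equiv.swap 2 3, Equiv.Perm.mem_alternatingGroup.2 (by decide)⟩

/-- generators of `A₅` -/
def x0 : alternatingGroup (Fin 5) := ⟨finRotate 5, Equiv.Perm.mem_alternatingGroup.2 (by decide)⟩

theorem a0_gen : Subgroup.closure {a0, x0} = ⊤ := by
  set K := Subgroup.closure {a0, x0} with hK
  have ha : a0 ∈ K := Subgroup.subset_closure (by simp)
  have hx : x0 ∈ K := Subgroup.subset_closure (by simp)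
  have hax : a0 * x0 ∈ K := mul_mem ha hx
  haveI : Fact (Nat.Prime 5) := ⟨by norm_num⟩
  haveI : Fact (Nat.Prime 3) := ⟨by norm_num⟩
  have o2 : orderOf a0 = 2 := orderOf_eq_prime (by decide) (by decide)
  have o5 : orderOf x0 = 5 := orderOf_eq_prime (by decide) (by decide)
  have o3 : orderOf (a0 * x0) = 3 := orderOf_eq_prime (by decide) (by decide)
  have d2 : 2 ∣ Nat.card K := by
    have h := Subgroup.orderOf_dvd_natCard K ha
    rw [o2] at h; exact h
  have d5 : 5 ∣ Nat.card K := by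
    have h := Subgroup.orderOf_dvd_natCard K hx
    rw [o5] at h; exact h
  have d3 : 3 ∣ Nat.card K := by
    have h := Subgroup.orderOf_dvd_natCard K hax
    rw [o3] at h; exact h
  have d30 : 30 ∣ Nat.card K := by
    have h6 : 6 ∣ Nat.card K := Nat.Coprime.mul_dvd_of_dvd_of_dvd (by decide) d2 d3
    exact Nat.Coprime.mul_dvd_of_dvd_of_dvd (by decide) h6 d5
  have hc : Nat.card (alternatingGroup (Fin 5)) = 60 := by
    rw [nat_card_alternatingGroup]
    simp
    decide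
  have hi := Subgroup.card_mul_index K
  rw [hc] at hi
  obtain ⟨m, hm⟩ := d30
  have hidx : K.index = 1 ∨ K.index = 2 := by
    rw [hm] at hi
    have : m * K.index = 2 := by nlinarith
    have hm0 : 0 < m := by
      rcases Nat.eq_zero_or_pos m with h | h
      · rw [h] at this; simp at this
      · exact h
    have hle : K.index ≤ 2 := by nlinarith
    have hpos : K.index ≠ 0 := by
      intro h; rw [h] at this; simp at this
    omega
  rcases hidx with h | h
  · exact Subgroup.index_eq_one.1 h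
  · haveI := Subgroup.normal_of_index_eq_two h
    rcases Subgroup.Normal.eq_bot_or_eq_top (H := K) inferInstance with hb | ht
    · exfalso
      rw [hb] at ha
      have : a0 = 1 := Subgroup.mem_bot.1 ha
      revert this
      decide
    · exact ht

theorem rels_a5 : ∀ r ∈ rels, FreeGroup.lift ![a0, x0] r = 1 := by
  intro r hr
  simp only [rels, Set.mem_insert_iff, Set.mem_singleton_iff] at hr
  rcases hr with rfl | rfl | rfl
  · simp only [map_mul, FreeGroup.lift_apply_of, Matrix.cons_val_zero]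
    decide
  · simp only [map_pow, FreeGroup.lift_apply_of, Matrix.cons_val_one, Matrix.cons_val_fin_one]
    decide
  · simp only [map_mul, FreeGroup.lift_apply_of, Matrix.cons_val_zero, Matrix.cons_val_one,
      Matrix.cons_val_fin_one]
    decide

/-- the presented group is `A₅` -/
noncomputable def toA5 : P →* alternatingGroup (Fin 5) := PresentedGroup.toGroup rels_a5

theorem toA5_bij : Function.Bijective toA5 := by
  haveI := P_card.1
  have hs : Function.Surjective toA5 := by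
    rw [← MonoidHom.range_eq_top, eq_top_iff, ← a0_gen, Subgroup.closure_le]
    rintro g (rfl | hg)
    · exact ⟨PresentedGroup.of 0, by simp [toA5]⟩
    · rw [Set.mem_singleton_iff] at hg
      rw [hg]
      exact ⟨PresentedGroup.of 1, by simp [toA5]⟩
  have hc : Nat.card (alternatingGroup (Fin 5)) = 60 := by
    rw [nat_card_alternatingGroup]
    simp
    decide
  exact hs.bijective_of_nat_card_le (by rw [hc]; exact P_card.2)

/-- A pair `a`, `x` with `a² = x⁵ = (a x)³ = 1`, `x ≠ 1` generates a copy of `A₅`. -/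
theorem a5_of_rel {H : Type*} [Group H] (a x : H) (ha : a * a = 1) (hx : x ^ 5 = 1)
    (h3 : a * x * a * x * a * x = 1) (hne : x ≠ 1) :
    Nonempty (Subgroup.closure {a, x} ≃* alternatingGroup (Fin 5)) := by
  have hr : ∀ r ∈ rels, FreeGroup.lift ![a, x] r = 1 := by
    intro r hr
    simp only [rels, Set.mem_insert_iff, Set.mem_singleton_iff] at hr
    rcases hr with rfl | rfl | rfl
    · simp only [map_mul, FreeGroup.lift_apply_of, Matrix.cons_val_zero]
      exact ha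
    · simp only [map_pow, FreeGroup.lift_apply_of, Matrix.cons_val_one, Matrix.cons_val_fin_one]
      exact hx
    · simp only [map_mul, FreeGroup.lift_apply_of, Matrix.cons_val_zero, Matrix.cons_val_one,
        Matrix.cons_val_fin_one]
      exact h3
  let φ : P →* H := PresentedGroup.toGroup hr
  have h0 : φ (PresentedGroup.of 0) = a := by simp [φ]
  have h1 : φ (PresentedGroup.of 1) = x := by simp [φ]
  have hrange : φ.range = Subgroup.closure {a, x} := by
    rw [MonoidHom.range_eq_map, ← P_gen, MonoidHom.map_closure]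
    congr 1
    ext g
    simp only [Set.mem_image, Set.mem_insert_iff, Set.mem_singleton_iff, exists_eq_or_imp,
      exists_eq_left, h0, h1]
    tauto
  let e : alternatingGroup (Fin 5) ≃* P := (MulEquiv.ofBijective toA5 toA5_bij).symm
  let ψ : alternatingGroup (Fin 5) →* H := φ.comp e.toMonoidHom
  have hψr : ψ.range = Subgroup.closure {a, x} := by
    rw [← hrange]
    ext g
    constructor
    · rintro ⟨y, rfl⟩
      exact ⟨e y, rfl⟩
    · rintro ⟨y, rfl⟩
      exact ⟨e.symm y, by simp [ψ]⟩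
  have hinj : Function.Injective ψ := by
    rw [← MonoidHom.ker_eq_bot_iff]
    rcases Subgroup.Normal.eq_bot_or_eq_top (H := ψ.ker) inferInstance with hb | ht
    · exact hb
    · exfalso
      apply hne
      have hx1 : e.symm (PresentedGroup.of 1) ∈ ψ.ker := by rw [ht]; trivial
      rw [MonoidHom.mem_ker] at hx1
      simpa [ψ, h1] using hx1
  exact ⟨((MonoidHom.ofInjective hinj).trans (MulEquiv.subgroupCongr hψr)).symm⟩

end Pres

end Cfsg.Agent.Lib.Helper19.A5P
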