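import Mathlib
import Cfsg.Agent.Lib.Helper10.BWDefs
import Cfsg.Agent.Lib.Helper4.CharDecomp

/-!
# S0997 case B2 (project BW, helper10): piece BW-CNT

`psum H φ 1 = Σ_χ ⟨φ, χ⟩ psum H χ 1` for a character `φ`.
-/

set_option autoImplicit false
set_option linter.style.haveILetI false

namespace Cfsg.Agent.Lib.Helper10.BW

open Cfsg
open Cfsg.Agent.Lib.Helper83 (trivIrr)
open Cfsg.Agent.Lib.Helper10.BR (psum)
open scoped ComplexConjugate

universe u

variable {G : Type u} [Group G] [Fintype G]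

/-- BW-CNT -/
theorem psum_irr_decomp [Fintype (IrrCharacter G)] (H : Subgroup G) (φ : G → ℂ)
    (hφ : IsCharacter G φ) :
    psum H φ 1 = ∑ χ : IrrCharacter G, classInner φ (χ : G → ℂ) * psum H (χ : G → ℂ) 1 := by
  classical
  obtain ⟨m, rfl⟩ := Cfsg.Agent.Lib.Helper4.exists_decomp_of_isCharacter φ hφ
  have hin : ∀ χ₀ : IrrCharacter G,
      classInner (∑ χ : IrrCharacter G, (m χ : ℂ) • (χ : G → ℂ)) (χ₀ : G → ℂ) = (m χ₀ : ℂ) :=
    fun χ₀ => Cfsg.Agent.Lib.Helper4.classInner_sum_irr (fun χ => (m χ : ℂ)) χ₀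
  haveI : Fintype H := Fintype.ofFinite H
  simp only [hin, Cfsg.Agent.Lib.Helper10.BR.psum_eq_sum, Finset.sum_apply, Pi.smul_apply,
    smul_eq_mul, Finset.mul_sum]
  rw [Finset.sum_comm]

end Cfsg.Agent.Lib.Helper10.BW
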