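import Mathlib
import Cfsg.Agent.Lib.Helper61.BlkDefs

/-!
# S5634 (m ≥ 2), piece C (for helper61): transport `U j l` to `U j' l'` by a block permutation
-/

set_option autoImplicit false

namespace Cfsg.Agent.Lib.Helper61.Blk

open Matrix Cfsg.Agent.Lib.Helper97

section
variable {ι : Type} [Fintype ι] [DecidableEq ι] {F : Type*} [Field F] {t : ℕ}

/-- a permutation mapping `j' ↦ j`, `l' ↦ l` -/
theorem stepC_perm {j l j' l' : Fin t} (hjl : j ≠ l) (hjl' : j' ≠ l') :
    ∃ σ : Equiv.Perm (Fin t), σ j' = j ∧ σ l' = l := by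
  refine ⟨Equiv.swap (Equiv.swap j' j l') l * Equiv.swap j' j, ?_, ?_⟩
  · rw [Equiv.Perm.mul_apply, Equiv.swap_apply_left]
    have hx : j ≠ Equiv.swap j' j l' := by
      by_cases hl'j : l' = j
      · rw [hl'j, Equiv.swap_apply_right]
        intro h
        exact hjl' (h ▸ hl'j.symm)
      · rw [Equiv.swap_apply_of_ne_of_ne (Ne.symm hjl') hl'j]
        exact Ne.symm hl'j
    exact Equiv.swap_apply_of_ne_of_ne hx hjl
  · rw [Equiv.Perm.mul_apply, Equiv.swap_apply_left]

/-- C -/
theorem stepC (β : ι → Fin t) {X : Subgroup (GL ι F)} (hBP : BPm β X) {j l : Fin t}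
    (hjl : j ≠ l) (h : U β X j l) {j' l' : Fin t} (hjl' : j' ≠ l') : U β X j' l' := by
  obtain ⟨σ, hσj, hσl⟩ := stepC_perm hjl hjl'
  obtain ⟨g, hg, hm, hm'⟩ := hBP σ
  intro u' ψ' hu' hψ'
  have hu : InB β j ((g : Matrix ι ι F) *ᵥ u') := by
    intro i hi
    rw [Matrix.mulVec, dotProduct]
    apply Finset.sum_eq_zero
    intro k _
    by_cases hk : β k = j'
    · have h0 : (g : Matrix ι ι F) i k = 0 := by
        by_contra hne
        apply hi
        rw [hm i k hne, hk, hσj]
      rw [h0, zero_mul]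
    · rw [hu' k hk, mul_zero]
  have hψ : InB β l (ψ' ᵥ* ((g⁻¹ : GL ι F) : Matrix ι ι F)) := by
    intro i hi
    rw [Matrix.vecMul, dotProduct]
    apply Finset.sum_eq_zero
    intro k _
    by_cases hk : β k = l'
    · have h0 : ((g⁻¹ : GL ι F) : Matrix ι ι F) k i = 0 := by
        by_contra hne
        apply hi
        have h1 := hm' k i hne
        rw [hk] at h1
        rw [← hσl, h1]
        simp
      rw [h0, mul_zero]
    · rw [hψ' k hk, zero_mul]
  have h1 := TM_conj (h _ _ hu hψ) hg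
  rw [Matrix.mulVec_mulVec, ← Units.val_mul, inv_mul_cancel, Units.val_one, Matrix.one_mulVec,
    Matrix.vecMul_vecMul, ← Units.val_mul, inv_mul_cancel, Units.val_one, Matrix.vecMul_one] at h1
  exact h1

end

end Cfsg.Agent.Lib.Helper61.Blk
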