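import Mathlib
import Cfsg.Agent.S0809
import Cfsg.Agent.S0800

set_option autoImplicit false

namespace Cfsg.Agent.Lib.Helper19.Dk

open Matrix Cfsg.Agent.S0809

/-- `SL₂(F)`. -/
abbrev S2 (F : Type*) [Field F] : Type _ := Matrix.SpecialLinearGroup (Fin 2) F

section Basic

variable {F : Type*} [Field F]

/-- The trace. -/
def tr (g : S2 F) : F := g 0 0 + g 1 1

/-- Scalar matrices. -/
def IsSc (g : S2 F) : Prop := g 0 1 = 0 ∧ g 1 0 = 0 ∧ g 0 0 = g 1 1

theorem comm_iff (g h : S2 F) : g * h = h * g ↔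
    (g 0 1 * h 1 0 = h 0 1 * g 1 0 ∧ h 0 1 * (g 0 0 - g 1 1) = g 0 1 * (h 0 0 - h 1 1) ∧
      h 1 0 * (g 0 0 - g 1 1) = g 1 0 * (h 0 0 - h 1 1)) := by
  constructor
  · intro e
    have e00 := congrArg (fun x : S2 F => x 0 0) e
    have e01 := congrArg (fun x : S2 F => x 0 1) e
    have e10 := congrArg (fun x : S2 F => x 1 0) e
    simp only [mul00, mul01, mul10] at e00 e01 e10
    refine ⟨by linear_combination e00, by linear_combination e01, by linear_combination -e10⟩
  · rintro ⟨h1, h2, h3⟩
    apply ext2 <;> simp only [mul00, mul01, mul10, mul11]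
    · linear_combination h1
    · linear_combination h2
    · linear_combination -h3
    · linear_combination -h1

/-- upper unitriangular -/
def uu (b : F) : S2 F := mk2 1 b 0 1 (by ring)

/-- lower unitriangular -/
def ll (c : F) : S2 F := mk2 1 0 c 1 (by ring)

@[simp] theorem uu_00 (b : F) : (uu b) 0 0 = 1 := rfl
@[simp] theorem uu_01 (b : F) : (uu b) 0 1 = b := rfl
@[simp] theorem uu_10 (b : F) : (uu b) 1 0 = 0 := rfl
@[simp] theorem uu_11 (b : F) : (uu b) 1 1 = 1 := rfl
@[simp] theorem ll_00 (b : F) : (ll b) 0 0 = 1 := rfl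
@[simp] theorem ll_01 (b : F) : (ll b) 0 1 = 0 := rfl
@[simp] theorem ll_10 (b : F) : (ll b) 1 0 = b := rfl
@[simp] theorem ll_11 (b : F) : (ll b) 1 1 = 1 := rfl

theorem isSc_comm (g : S2 F) (hg : IsSc g) (h : S2 F) : g * h = h * g := by
  obtain ⟨h1, h2, h3⟩ := hg
  rw [comm_iff, h1, h2, h3]
  simp

theorem isSc_of_comm (g : S2 F) (hg : ∀ h : S2 F, g * h = h * g) : IsSc g := by
  have h1 := (comm_iff g (uu 1)).1 (hg (uu 1))
  have h2 := (comm_iff g (ll 1)).1 (hg (ll 1))
  simp only [uu_00, uu_01, uu_10, uu_11, ll_00, ll_01, ll_10, ll_11] at h1 h2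
  obtain ⟨a1, a2, a3⟩ := h1
  obtain ⟨b1, b2, b3⟩ := h2
  refine ⟨by linear_combination b1, by linear_combination -a1, by linear_combination a2⟩

theorem isSc_iff_center (g : S2 F) : IsSc g ↔ g ∈ Subgroup.center (S2 F) := by
  rw [Subgroup.mem_center_iff]
  constructor
  · intro hg h
    exact (isSc_comm g hg h).symm
  · intro hg
    exact isSc_of_comm g (fun h => (hg h).symm)

theorem isSc_one : IsSc (1 : S2 F) := by
  refine ⟨one01, one10, ?_⟩
  rw [one00, one11]

theorem isSc_conj (g x : S2 F) : IsSc (g * x * g⁻¹) ↔ IsSc x := by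
  rw [isSc_iff_center, isSc_iff_center]
  constructor
  · intro h
    have := (Subgroup.center (S2 F)).normal_of_characteristic.conj_mem _ h g⁻¹
    simpa [mul_assoc] using this
  · intro h
    exact (Subgroup.center (S2 F)).normal_of_characteristic.conj_mem _ h g

theorem cross3 (a b c x1 x2 x3 w1 w2 w3 : F) (h : a ≠ 0 ∨ b ≠ 0 ∨ c ≠ 0)
    (hx12 : x1 * b = x2 * a) (hx13 : x1 * c = x3 * a) (hx23 : x2 * c = x3 * b)
    (hw12 : w1 * b = w2 * a) (hw13 : w1 * c = w3 * a) (hw23 : w2 * c = w3 * b) :
    x1 * w2 = x2 * w1 ∧ x1 * w3 = x3 * w1 ∧ x2 * w3 = x3 * w2 := by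
  rcases h with h | h | h
  · refine ⟨mul_left_cancel₀ h ?_, mul_left_cancel₀ h ?_, mul_left_cancel₀ h ?_⟩ <;> grind
  · refine ⟨mul_left_cancel₀ h ?_, mul_left_cancel₀ h ?_, mul_left_cancel₀ h ?_⟩ <;> grind
  · refine ⟨mul_left_cancel₀ h ?_, mul_left_cancel₀ h ?_, mul_left_cancel₀ h ?_⟩ <;> grind

theorem not_isSc_iff (y : S2 F) : ¬ IsSc y ↔ (y 0 1 ≠ 0 ∨ y 1 0 ≠ 0 ∨ y 0 0 - y 1 1 ≠ 0) := by
  unfold IsSc
  constructor
  · intro h
    by_contra hc
    rw [not_or, not_or, not_not, not_not, not_not] at hc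
    exact h ⟨hc.1, hc.2.1, by linear_combination hc.2.2⟩
  · rintro h ⟨h1, h2, h3⟩
    rcases h with h | h | h
    · exact h h1
    · exact h h2
    · exact h (by rw [h3]; ring)

/-- Commutation is transitive through a non-scalar element. -/
theorem comm_trans (x y w : S2 F) (hy : ¬ IsSc y) (h1 : x * y = y * x) (h2 : w * y = y * w) :
    x * w = w * x := by
  rw [comm_iff] at h1 h2 ⊢
  obtain ⟨a1, a2, a3⟩ := h1
  obtain ⟨b1, b2, b3⟩ := h2
  have hy' := (not_isSc_iff y).1 hy
  obtain ⟨c1, c2, c3⟩ := cross3 (y 0 1) (y 1 0) (y 0 0 - y 1 1) (x 0 1) (x 1 0) (x 0 0 - x 1 1)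
    (w 0 1) (w 1 0) (w 0 0 - w 1 1) hy' (by linear_combination a1) (by linear_combination -a2)
    (by linear_combination -a3) (by linear_combination b1) (by linear_combination -b2)
    (by linear_combination -b3)
  refine ⟨by linear_combination c1, by linear_combination -c2, by linear_combination -c3⟩

theorem tr_conj (g x : S2 F) : tr (g * x * g⁻¹) = tr x := by
  unfold tr
  simp only [mul00, mul01, mul10, mul11, inv00, inv01, inv10, inv11]
  linear_combination (x 0 0 + x 1 1) * det2 g

theorem isSc_sq (g : S2 F) (hg : IsSc g) : g 0 0 ^ 2 = 1 := by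
  obtain ⟨h1, h2, h3⟩ := hg
  have := det2 g
  rw [h1, ← h3] at this
  linear_combination this

theorem isSc_tr (g : S2 F) (hg : IsSc g) : tr g ^ 2 = 4 := by
  have h := isSc_sq g hg
  unfold tr
  rw [← hg.2.2]
  linear_combination 4 * h

theorem not_isSc_of_tr (g : S2 F) (hg : tr g ^ 2 ≠ 4) : ¬ IsSc g := fun h => hg (isSc_tr g h)

/-- Representation of the commutant of a non-scalar element. -/
def Rep (x m : S2 F) (p : F × F) : Prop :=
  m 0 0 = p.1 + p.2 * x 0 0 ∧ m 0 1 = p.2 * x 0 1 ∧ m 1 0 = p.2 * x 1 0 ∧ m 1 1 = p.1 + p.2 * x 1 1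

theorem exists_rep (x m : S2 F) (hx : ¬ IsSc x) (h : m * x = x * m) : ∃ p : F × F, Rep x m p := by
  rw [comm_iff] at h
  obtain ⟨a1, a2, a3⟩ := h
  rcases (not_isSc_iff x).1 hx with h | h | h
  · refine ⟨(m 0 0 - m 0 1 / x 0 1 * x 0 0, m 0 1 / x 0 1), ?_, ?_, ?_, ?_⟩
    · simp
    · simp only; field_simp
    · simp only; field_simp; linear_combination -a1
    · simp only; field_simp; linear_combination -a2
  · refine ⟨(m 0 0 - m 1 0 / x 1 0 * x 0 0, m 1 0 / x 1 0), ?_, ?_, ?_, ?_⟩
    · simp
    · simp only; field_simp; linear_combination a1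
    · simp only; field_simp
    · simp only; field_simp; linear_combination -a3
  · refine ⟨(m 0 0 - (m 0 0 - m 1 1) / (x 0 0 - x 1 1) * x 0 0,
      (m 0 0 - m 1 1) / (x 0 0 - x 1 1)), ?_, ?_, ?_, ?_⟩
    · simp
    · simp only; field_simp; linear_combination -a2
    · simp only; field_simp; linear_combination -a3
    · simp only; field_simp; ring

theorem rep_unique (x m : S2 F) (hx : ¬ IsSc x) (p p' : F × F) (h : Rep x m p) (h' : Rep x m p') :
    p = p' := by
  obtain ⟨a1, a2, a3, a4⟩ := h
  obtain ⟨b1, b2, b3, b4⟩ := h'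
  have hb : p.2 = p'.2 := by
    rcases (not_isSc_iff x).1 hx with h | h | h
    · exact mul_right_cancel₀ h (by rw [← a2, ← b2])
    · exact mul_right_cancel₀ h (by rw [← a3, ← b3])
    · exact mul_right_cancel₀ h (by linear_combination -a1 + a4 + b1 - b4)
  have ha : p.1 = p'.1 := by
    rw [hb] at a1
    linear_combination -a1 + b1
  exact Prod.ext ha hb

theorem rep_comm (x m : S2 F) (p : F × F) (h : Rep x m p) : m * x = x * m := by
  obtain ⟨a1, a2, a3, a4⟩ := h
  rw [comm_iff, a1, a2, a3, a4]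
  refine ⟨by ring, by ring, by ring⟩

theorem rep_one (x : S2 F) : Rep x 1 (1, 0) := by
  refine ⟨?_, ?_, ?_, ?_⟩ <;> simp

theorem rep_mul (x m m' : S2 F) (p p' : F × F) (h : Rep x m p) (h' : Rep x m' p') :
    Rep x (m * m') (p.1 * p'.1 - p.2 * p'.2, p.1 * p'.2 + p'.1 * p.2 + p.2 * p'.2 * tr x) := by
  obtain ⟨a1, a2, a3, a4⟩ := h
  obtain ⟨b1, b2, b3, b4⟩ := h'
  have hd := det2 x
  unfold tr
  refine ⟨?_, ?_, ?_, ?_⟩
  · rw [mul00, a1, a2, b1, b3]; linear_combination (-p.2 * p'.2) * hd
  · rw [mul01, a1, a2, b2, b4]; ring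
  · rw [mul10, a3, a4, b1, b3]; ring
  · rw [mul11, a3, a4, b2, b4]; linear_combination (-p.2 * p'.2) * hd

theorem rep_det (x m : S2 F) (p : F × F) (h : Rep x m p) :
    p.1 ^ 2 + p.1 * p.2 * tr x + p.2 ^ 2 = 1 := by
  obtain ⟨a1, a2, a3, a4⟩ := h
  have hd := det2 x
  have hm := det2 m
  rw [a1, a2, a3, a4] at hm
  unfold tr
  linear_combination hm - p.2 ^ 2 * hd

theorem rep_tr (x m : S2 F) (p : F × F) (h : Rep x m p) : tr m = 2 * p.1 + p.2 * tr x := by
  obtain ⟨a1, a2, a3, a4⟩ := h
  unfold tr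
  rw [a1, a4]; ring

/-- Elements commuting with a non-scalar element of trace `±2` have trace `±2`. -/
theorem tr_sq_of_comm (x y : S2 F) (hx : ¬ IsSc x) (hx4 : tr x ^ 2 = 4) (h : y * x = x * y) :
    tr y ^ 2 = 4 := by
  obtain ⟨p, hp⟩ := exists_rep x y hx h
  rw [rep_tr x y p hp]
  linear_combination 4 * rep_det x y p hp + p.2 ^ 2 * hx4

/-- Two commuting elements with the same trace `τ`, `τ² ≠ 4`, are equal or inverse. -/
theorem eq_or_inv (x y : S2 F) (hx : tr x ^ 2 ≠ 4) (hc : y * x = x * y) (ht : tr y = tr x) :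
    y = x ∨ y = x⁻¹ := by
  obtain ⟨p, hp⟩ := exists_rep x y (not_isSc_of_tr x hx) hc
  have e1 := rep_tr x y p hp
  have e2 := rep_det x y p hp
  rw [ht] at e1
  obtain ⟨a1, a2, a3, a4⟩ := hp
  have htr : tr x = x 0 0 + x 1 1 := rfl
  by_cases h2 : (2 : F) = 0
  · have hτ : tr x ≠ 0 := by
      intro h
      apply hx
      rw [h]
      linear_combination (-2 : F) * h2
    have hb : p.2 = 1 := by
      have : (p.2 - 1) * tr x = 0 := by linear_combination -e1 - p.1 * h2
      rcases mul_eq_zero.1 this with h | h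
      · linear_combination h
      · exact absurd h hτ
    rw [hb] at e2 a1 a2 a3 a4
    have ha : p.1 * (p.1 + tr x) = 0 := by linear_combination e2
    rcases mul_eq_zero.1 ha with h | h
    · left
      rw [h] at a1 a4
      apply ext2
      · rw [a1]; ring
      · rw [a2]; ring
      · rw [a3]; ring
      · rw [a4]; ring
    · right
      have h' : p.1 = - tr x := by linear_combination h
      rw [h'] at a1 a4
      apply ext2
      · rw [a1, inv00, htr]; linear_combination (-x 1 1) * h2
      · rw [a2, inv01]; linear_combination (x 0 1) * h2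
      · rw [a3, inv10]; linear_combination (x 1 0) * h2
      · rw [a4, inv11, htr]; linear_combination (-x 0 0) * h2
  · have hb : (p.2 - 1) * (p.2 + 1) = 0 := by
      have h4 : (tr x ^ 2 - 4) ≠ 0 := sub_ne_zero.2 hx
      have : (tr x ^ 2 - 4) * ((p.2 - 1) * (p.2 + 1)) = 0 := by
        linear_combination (-(2 * p.1 + p.2 * tr x) - tr x) * e1 - 4 * e2
      rcases mul_eq_zero.1 this with h | h
      · exact absurd h h4
      · exact h
    rcases mul_eq_zero.1 hb with h | h
    · left
      have hb1 : p.2 = 1 := by linear_combination h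
      rw [hb1] at e1 a1 a2 a3 a4
      have ha : p.1 = 0 := by
        have : (2 : F) * p.1 = 0 := by linear_combination -e1
        rcases mul_eq_zero.1 this with h | h
        · exact absurd h h2
        · exact h
      rw [ha] at a1 a4
      apply ext2
      · rw [a1]; ring
      · rw [a2]; ring
      · rw [a3]; ring
      · rw [a4]; ring
    · right
      have hb1 : p.2 = -1 := by linear_combination h
      rw [hb1] at e1 a1 a2 a3 a4
      have ha : p.1 = tr x := by
        have : (2 : F) * (p.1 - tr x) = 0 := by linear_combination -e1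
        rcases mul_eq_zero.1 this with h | h
        · exact absurd h h2
        · linear_combination h
      rw [ha] at a1 a4
      apply ext2
      · rw [a1, inv00, htr]; ring
      · rw [a2, inv01]; ring
      · rw [a3, inv10]; ring
      · rw [a4, inv11, htr]; ring

theorem ne_inv_of_ss (x : S2 F) (hx : tr x ^ 2 ≠ 4) : x ≠ x⁻¹ := by
  intro h
  have e00 := congrArg (fun g : S2 F => g 0 0) h
  have e01 := congrArg (fun g : S2 F => g 0 1) h
  have e10 := congrArg (fun g : S2 F => g 1 0) h
  simp only [inv00, inv01, inv10] at e00 e01 e10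
  have hd := det2 x
  apply hx
  unfold tr
  by_cases h2 : (2 : F) = 0
  · rw [← e00]
    linear_combination (2 * x 0 0 ^ 2 - 2) * h2
  · have h01 : x 0 1 = 0 := by
      have : (2 : F) * x 0 1 = 0 := by linear_combination e01
      rcases mul_eq_zero.1 this with h | h
      · exact absurd h h2
      · exact h
    rw [h01, ← e00] at hd
    rw [← e00]
    linear_combination 4 * hd

end Basic


section Semisimple

variable {F : Type*} [Field F]

theorem ss_of_comm (x y : S2 F) (hx : tr x ^ 2 ≠ 4) (hy : ¬ IsSc y) (h : y * x = x * y) :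
    tr y ^ 2 ≠ 4 := by
  intro h4
  exact hx (tr_sq_of_comm y x hy h4 h.symm)

theorem isSc_mul_self (m : S2 F) (hm : IsSc m) : m * m = 1 := by
  have h := isSc_sq m hm
  obtain ⟨h1, h2, h3⟩ := hm
  apply ext2 <;> simp only [mul00, mul01, mul10, mul11, one00, one01, one10, one11, h1, h2, ← h3]
  · linear_combination h
  · ring
  · ring
  · linear_combination h

theorem conj_eq_iff {G : Type*} [Group G] (g x y : G) : g * x * g⁻¹ = y ↔ g * x = y * g := by
  constructor
  · intro h; rw [← h]; group
  · intro h; rw [h]; group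

theorem conj_comm {G : Type*} [Group G] (g a b : G) (h : a * b = b * a) :
    (g * a * g⁻¹) * (g * b * g⁻¹) = (g * b * g⁻¹) * (g * a * g⁻¹) := by
  have : Commute a b := h
  exact ((Commute.conj_iff g).2 this).eq

/-- If `g` inverts the semisimple `x`, it inverts everything commuting with `x`. -/
theorem inv_of_inv (x g m : S2 F) (hx : tr x ^ 2 ≠ 4) (hg : g * x * g⁻¹ = x⁻¹)
    (hm : m * x = x * m) : g * m * g⁻¹ = m⁻¹ := by
  by_cases hsc : IsSc m
  · have h1 : g * m * g⁻¹ = m := by
      rw [conj_eq_iff]; exact (isSc_comm m hsc g).symm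
    rw [h1]
    exact eq_inv_of_mul_eq_one_left (isSc_mul_self m hsc)
  · have hxs : ¬ IsSc x := not_isSc_of_tr x hx
    have hms : tr m ^ 2 ≠ 4 := ss_of_comm x m hx hsc hm
    have hyx : (g * m * g⁻¹) * x = x * (g * m * g⁻¹) := by
      have h1 := conj_comm g m x hm
      rw [hg] at h1
      have h2 : Commute (g * m * g⁻¹) x⁻¹ := h1
      exact (Commute.inv_right_iff.1 h2).eq
    have hym : (g * m * g⁻¹) * m = m * (g * m * g⁻¹) := comm_trans _ x _ hxs hyx hm
    rcases eq_or_inv m (g * m * g⁻¹) hms hym (tr_conj g m) with h | h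
    · exfalso
      have hgm : g * m = m * g := (conj_eq_iff g m m).1 h
      have hgx2 : g * x = x * g := comm_trans g m x hsc hgm hm.symm
      have : g * x * g⁻¹ = x := (conj_eq_iff g x x).2 hgx2
      rw [this] at hg
      exact ne_inv_of_ss x hx hg
    · exact h

theorem sq_isSc_of_inv (x g : S2 F) (hx : tr x ^ 2 ≠ 4) (hg : g * x * g⁻¹ = x⁻¹) :
    IsSc (g * g) := by
  by_contra hsc
  have hc : (g * g) * x = x * (g * g) := by
    have h1 : g * x = x⁻¹ * g := (conj_eq_iff g x x⁻¹).1 hg
    have h2 : g * x⁻¹ = x * g := by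
      have h3 : g * x⁻¹ * g⁻¹ = x := by
        have h5 : (g * x * g⁻¹)⁻¹ = x := by rw [hg, inv_inv]
        calc g * x⁻¹ * g⁻¹ = (g * x * g⁻¹)⁻¹ := by group
          _ = x := h5
      exact (conj_eq_iff g x⁻¹ x).1 h3
    calc g * g * x = g * (g * x) := by group
      _ = g * (x⁻¹ * g) := by rw [h1]
      _ = (g * x⁻¹) * g := by group
      _ = (x * g) * g := by rw [h2]
      _ = x * (g * g) := by group
  have h3 := inv_of_inv x g (g * g) hx hg hc
  have h4 : g * (g * g) * g⁻¹ = g * g := by group
  rw [h4] at h3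
  exact ne_inv_of_ss (g * g) (ss_of_comm x (g * g) hx hsc hc) h3

end Semisimple

section Unipotent

variable {F : Type*} [Field F]

theorem coe_sub_one_sq (x : S2 F) (hx : tr x = 2) :
    ((x : Matrix (Fin 2) (Fin 2) F) - 1) * ((x : Matrix (Fin 2) (Fin 2) F) - 1) = 0 := by
  have hd := det2 x
  unfold tr at hx
  ext i j
  fin_cases i <;> fin_cases j
  · simp only [Fin.zero_eta, Matrix.mul_apply, Fin.sum_univ_two, Matrix.sub_apply, Matrix.one_apply,
      Matrix.zero_apply]
    simp
    linear_combination -hd + x 0 0 * hx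
  · simp only [Fin.zero_eta, Fin.mk_one, Matrix.mul_apply, Fin.sum_univ_two, Matrix.sub_apply,
      Matrix.one_apply, Matrix.zero_apply]
    simp
    linear_combination x 0 1 * hx
  · simp only [Fin.zero_eta, Fin.mk_one, Matrix.mul_apply, Fin.sum_univ_two, Matrix.sub_apply,
      Matrix.one_apply, Matrix.zero_apply]
    simp
    linear_combination x 1 0 * hx
  · simp only [Fin.mk_one, Matrix.mul_apply, Fin.sum_univ_two, Matrix.sub_apply, Matrix.one_apply,
      Matrix.zero_apply]
    simp
    linear_combination -hd + x 1 1 * hx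

theorem pow_char_of_tr (p : ℕ) [Fact p.Prime] [CharP F p] (x : S2 F) (hx : tr x = 2) :
    x ^ p = 1 := by
  apply Subtype.ext
  rw [Matrix.SpecialLinearGroup.coe_pow]
  have h1 : (x : Matrix (Fin 2) (Fin 2) F) = 1 + ((x : Matrix (Fin 2) (Fin 2) F) - 1) := by abel
  have hN := coe_sub_one_sq x hx
  have hp2 : 2 ≤ p := (Fact.out : p.Prime).two_le
  have hNp : ((x : Matrix (Fin 2) (Fin 2) F) - 1) ^ p = 0 := by
    rw [← Nat.sub_add_cancel hp2, pow_add, pow_two, hN, mul_zero]
  rw [h1, add_pow_char_of_commute p (Commute.one_left _), hNp, one_pow, add_zero]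
  rfl

theorem tr_of_pow_char (p : ℕ) [Fact p.Prime] [CharP F p] (x : S2 F) (hx : x ^ p = 1) :
    tr x = 2 := by
  have h1 : (x : Matrix (Fin 2) (Fin 2) F) ^ p = 1 := by
    rw [← Matrix.SpecialLinearGroup.coe_pow, hx]; rfl
  have hN : ((x : Matrix (Fin 2) (Fin 2) F) - 1) ^ p = 0 := by
    rw [sub_pow_char_of_commute p (Commute.one_right _), h1, one_pow, sub_self]
  have hnil : IsNilpotent ((x : Matrix (Fin 2) (Fin 2) F) - 1) := ⟨p, hN⟩
  have htr := Matrix.isNilpotent_trace_of_isNilpotent hnil
  have h0 : ((x : Matrix (Fin 2) (Fin 2) F) - 1).trace = 0 := htr.eq_zero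
  rw [Matrix.trace_fin_two] at h0
  simp only [Matrix.sub_apply, Matrix.one_apply_eq] at h0
  unfold tr
  linear_combination h0

theorem tr_one : tr (1 : S2 F) = 2 := by
  unfold tr; rw [one00, one11]; ring

end Unipotent

section Cyc

variable {F : Type*} [Field F]

/-- A choice of representation. -/
noncomputable def repOf (x m : S2 F) : F × F :=
  Classical.epsilon (fun p : F × F => Rep x m p)

theorem repOf_spec (x m : S2 F) (hx : ¬ IsSc x) (h : m * x = x * m) : Rep x m (repOf x m) :=
  Classical.epsilon_spec (exists_rep x m hx h)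

/-- The eigenvalue map. -/
noncomputable def eig {K : Type*} [Field K] [Algebra F K] (x : S2 F) (lam : K) (m : S2 F) : K :=
  algebraMap F K (repOf x m).1 + algebraMap F K (repOf x m).2 * lam

theorem eig_one {K : Type*} [Field K] [Algebra F K] (x : S2 F) (hx : ¬ IsSc x) (lam : K) :
    eig x lam 1 = 1 := by
  have h := rep_unique x 1 hx _ _ (repOf_spec x 1 hx (by group)) (rep_one x)
  unfold eig
  rw [h]
  simp

theorem eig_mul {K : Type*} [Field K] [Algebra F K] (x : S2 F) (hx : ¬ IsSc x) (lam : K)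
    (hlam : lam ^ 2 - algebraMap F K (tr x) * lam + 1 = 0) (m m' : S2 F)
    (hm : m * x = x * m) (hm' : m' * x = x * m') :
    eig x lam (m * m') = eig x lam m * eig x lam m' := by
  have hmm : (m * m') * x = x * (m * m') := by
    rw [mul_assoc, hm', ← mul_assoc, hm, mul_assoc]
  have h := rep_unique x (m * m') hx _ _ (repOf_spec x (m * m') hx hmm)
    (rep_mul x m m' _ _ (repOf_spec x m hx hm) (repOf_spec x m' hx hm'))
  unfold eig
  rw [h]
  simp only [map_sub, map_mul, map_add]
  linear_combination (-(algebraMap F K (repOf x m).2 * algebraMap F K (repOf x m').2)) * hlam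

theorem eig_inj {K : Type*} [Field K] [Algebra F K] (x : S2 F) (hx : tr x ^ 2 ≠ 4) (lam : K)
    (hlam : lam ^ 2 - algebraMap F K (tr x) * lam + 1 = 0) (m : S2 F)
    (hm : m * x = x * m) (h1 : eig x lam m = 1) : m = 1 := by
  have hxs := not_isSc_of_tr x hx
  have hr := repOf_spec x m hxs hm
  have hd := rep_det x m _ hr
  have hdK := congrArg (algebraMap F K) hd
  simp only [map_add, map_mul, map_pow, map_one] at hdK
  unfold eig at h1
  set A := algebraMap F K (repOf x m).1 with hA
  set B := algebraMap F K (repOf x m).2 with hB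
  set T := algebraMap F K (tr x) with hT
  have hA1 : A = 1 - B * lam := by linear_combination h1
  have hBT : B * (T - 2 * lam) = 0 := by
    rw [hA1] at hdK
    linear_combination hdK - B ^ 2 * hlam
  have hB0 : B = 0 := by
    rcases mul_eq_zero.1 hBT with h | h
    · exact h
    · exfalso
      have hT2 : T = 2 * lam := by linear_combination h
      have hl : lam ^ 2 = 1 := by
        rw [hT2] at hlam
        linear_combination -hlam
      have hT4 : T ^ 2 = 4 := by rw [hT2]; linear_combination 4 * hl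
      apply hx
      apply (algebraMap F K).injective
      rw [map_pow, ← hT, hT4]
      exact (map_ofNat (algebraMap F K) 4).symm
  have hb : (repOf x m).2 = 0 := by
    apply (algebraMap F K).injective
    rw [← hB, hB0, map_zero]
  have ha : (repOf x m).1 = 1 := by
    apply (algebraMap F K).injective
    rw [← hA, hA1, hB0, map_one]; ring
  obtain ⟨a1, a2, a3, a4⟩ := hr
  rw [ha, hb] at a1 a4
  rw [hb] at a2 a3
  apply ext2
  · rw [a1, one00]; ring
  · rw [a2, one01]; ring
  · rw [a3, one10]; ring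
  · rw [a4, one11]; ring

theorem centralizer_isCyclic [Finite F] (x : S2 F) (hx : tr x ^ 2 ≠ 4) :
    IsCyclic (Subgroup.centralizer ({x} : Set (S2 F))) := by
  classical
  haveI : Fintype F := Fintype.ofFinite F
  have hxs := not_isSc_of_tr x hx
  let K := AlgebraicClosure F
  obtain ⟨lam, hlam⟩ := IsAlgClosed.exists_root
    (Polynomial.C (1 : K) * Polynomial.X ^ 2 + Polynomial.C (-(algebraMap F K (tr x))) * Polynomial.X
      + Polynomial.C (1 : K)) (by rw [Polynomial.degree_quadratic one_ne_zero]; norm_num)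
  have hlam' : lam ^ 2 - algebraMap F K (tr x) * lam + 1 = 0 := by
    rw [Polynomial.IsRoot.def] at hlam
    simp only [Polynomial.eval_add, Polynomial.eval_mul, Polynomial.eval_C, Polynomial.eval_pow,
      Polynomial.eval_X] at hlam
    linear_combination hlam
  have hmem : ∀ m : Subgroup.centralizer ({x} : Set (S2 F)), (m : S2 F) * x = x * (m : S2 F) := by
    intro m
    have := Subgroup.mem_centralizer_iff.1 m.2 x rfl
    exact this.symm
  let f : Subgroup.centralizer ({x} : Set (S2 F)) →* K :=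
    { toFun := fun m => eig x lam (m : S2 F)
      map_one' := eig_one x hxs lam
      map_mul' := fun m m' => eig_mul x hxs lam hlam' m m' (hmem m) (hmem m') }
  have hinj : Function.Injective f := by
    rw [injective_iff_map_eq_one]
    intro m hm
    apply Subtype.ext
    exact eig_inj x hx lam hlam' m (hmem m) hm
  exact isCyclic_of_injective_ringHom f hinj

theorem card_centralizer_dvd [Fintype F] (p : ℕ) [Fact p.Prime] [CharP F p] (x : S2 F)
    (hx : tr x ^ 2 ≠ 4) :
    Nat.card (Subgroup.centralizer ({x} : Set (S2 F))) ∣ Fintype.card F - 1 ∨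
      Nat.card (Subgroup.centralizer ({x} : Set (S2 F))) ∣ Fintype.card F + 1 := by
  classical
  have := centralizer_isCyclic x hx
  obtain ⟨g, hg⟩ := IsCyclic.exists_generator (α := Subgroup.centralizer ({x} : Set (S2 F)))
  have hord : orderOf (g : S2 F) = Nat.card (Subgroup.centralizer ({x} : Set (S2 F))) := by
    rw [Subgroup.orderOf_coe]
    exact orderOf_eq_card_of_forall_mem_zpowers hg
  rw [← hord]
  apply Cfsg.Agent.S0800.result rfl p
  rw [hord]
  rw [Nat.coprime_comm, (Fact.out : p.Prime).coprime_iff_not_dvd]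
  intro hdvd
  obtain ⟨c, hc⟩ := exists_prime_orderOf_dvd_card' p hdvd
  have hcp : (c : S2 F) ^ p = 1 := by
    have := pow_orderOf_eq_one c
    rw [hc] at this
    have h2 := congrArg (Subtype.val) this
    simpa using h2
  have htr := tr_of_pow_char p (c : S2 F) hcp
  have hcx : (c : S2 F) * x = x * (c : S2 F) := by
    have := Subgroup.mem_centralizer_iff.1 c.2 x rfl
    exact this.symm
  have hcs : ¬ IsSc (c : S2 F) := by
    intro hsc
    have h00 : (c : S2 F) 0 0 = 1 := by
      unfold tr at htr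
      rw [← hsc.2.2] at htr
      have h2 : (2 : F) ≠ 0 := by
        intro h2
        have hsq := isSc_sq _ hsc
        have h3 : ((c : S2 F) 0 0 - 1) ^ 2 = 0 := by linear_combination hsq + (1 - (c : S2 F) 0 0) * h2
        have h4 : (c : S2 F) 0 0 = 1 := by
          have := pow_eq_zero_iff (two_ne_zero) |>.1 h3
          linear_combination this
        have hc1 : (c : S2 F) = 1 := by
          apply ext2
          · rw [h4, one00]
          · rw [hsc.1, one01]
          · rw [hsc.2.1, one10]
          · rw [← hsc.2.2, h4, one11]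
        have hc1' : c = 1 := Subtype.ext hc1
        rw [hc1', orderOf_one] at hc
        exact (Fact.out : p.Prime).one_lt.ne hc
      have : (2 : F) * ((c : S2 F) 0 0 - 1) = 0 := by linear_combination htr
      rcases mul_eq_zero.1 this with h | h
      · exact absurd h h2
      · linear_combination h
    have hc1 : (c : S2 F) = 1 := by
      apply ext2
      · rw [h00, one00]
      · rw [hsc.1, one01]
      · rw [hsc.2.1, one10]
      · rw [← hsc.2.2, h00, one11]
    have hc1' : c = 1 := Subtype.ext hc1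
    rw [hc1', orderOf_one] at hc
    exact (Fact.out : p.Prime).one_lt.ne hc
  have h4 : tr (c : S2 F) ^ 2 = 4 := by rw [htr]; norm_num
  exact hx (tr_sq_of_comm (c : S2 F) x hcs h4 hcx.symm)

end Cyc


section Std

variable {F : Type*} [Field F]

theorem uu_mul (a b : F) : uu a * uu b = uu (a + b) := by
  apply ext2 <;> simp [mul00, mul01, mul10, mul11, add_comm]

theorem uu_zero : uu (0 : F) = 1 := by
  apply ext2 <;> simp

theorem uu_inv (a : F) : (uu a)⁻¹ = uu (-a) := by
  apply ext2 <;> simp [inv00, inv01, inv10, inv11]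

theorem uu_injective : Function.Injective (uu : F → S2 F) := by
  intro a b h
  have := congrArg (fun g : S2 F => g 0 1) h
  simpa using this

theorem ll_mul (a b : F) : ll a * ll b = ll (a + b) := by
  apply ext2 <;> simp [mul00, mul01, mul10, mul11]

theorem ll_zero : ll (0 : F) = 1 := by
  apply ext2 <;> simp

theorem ll_inv (a : F) : (ll a)⁻¹ = ll (-a) := by
  apply ext2 <;> simp [inv00, inv01, inv10, inv11]

theorem tr_uu (b : F) : tr (uu b) = 2 := by
  unfold tr; simp; norm_num

theorem not_isSc_uu (b : F) (hb : b ≠ 0) : ¬ IsSc (uu b) := by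
  intro h
  exact hb (by simpa using h.1)

theorem comm_uu_iff (g : S2 F) (b : F) (hb : b ≠ 0) :
    g * uu b = uu b * g ↔ g 1 0 = 0 ∧ g 0 0 = g 1 1 := by
  rw [comm_iff]
  simp only [uu_00, uu_01, uu_10, uu_11]
  constructor
  · rintro ⟨h1, h2, -⟩
    have e1 : g 1 0 = 0 := by
      have : b * g 1 0 = 0 := by linear_combination -h1
      rcases mul_eq_zero.1 this with h | h
      · exact absurd h hb
      · exact h
    have e2 : g 0 0 - g 1 1 = 0 := by
      have : b * (g 0 0 - g 1 1) = 0 := by linear_combination h2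
      rcases mul_eq_zero.1 this with h | h
      · exact absurd h hb
      · exact h
    exact ⟨e1, by linear_combination e2⟩
  · rintro ⟨h1, h2⟩
    rw [h1, h2]
    refine ⟨by ring, by ring, by ring⟩

theorem conj_uu (g : S2 F) (hg : g 1 0 = 0) (b : F) : g * uu b * g⁻¹ = uu (g 0 0 ^ 2 * b) := by
  have hd := det2 g
  rw [hg] at hd
  apply ext2 <;> simp only [mul00, mul01, mul10, mul11, inv00, inv01, inv10, inv11, uu_00, uu_01,
    uu_10, uu_11, hg]
  · linear_combination hd
  · ring
  · ring
  · linear_combination hd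

theorem conj_uu_10 (g : S2 F) (b : F) : (g * uu b * g⁻¹) 1 0 = - b * g 1 0 ^ 2 := by
  simp only [mul00, mul01, mul10, mul11, inv00, inv01, inv10, inv11, uu_00, uu_01, uu_10, uu_11]
  ring

theorem conj_uu_comm_iff (g : S2 F) (b : F) (hb : b ≠ 0) :
    (g * uu b * g⁻¹) * uu b = uu b * (g * uu b * g⁻¹) ↔ g 1 0 = 0 := by
  constructor
  · intro h
    have h1 := ((comm_uu_iff _ b hb).1 h).1
    rw [conj_uu_10] at h1
    have : b * g 1 0 ^ 2 = 0 := by linear_combination -h1
    rcases mul_eq_zero.1 this with h | h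
    · exact absurd h hb
    · exact pow_eq_zero_iff (two_ne_zero) |>.1 h
  · intro h
    rw [conj_uu g h, uu_mul, uu_mul, add_comm]

theorem exists_conj_uu (x : S2 F) (hx : tr x = 2) (hx1 : ¬ IsSc x) :
    ∃ g : S2 F, ∃ b : F, b ≠ 0 ∧ g * x * g⁻¹ = uu b := by
  have hd := det2 x
  unfold tr at hx
  by_cases h10 : x 1 0 = 0
  · have h00 : x 0 0 = 1 := by
      rw [h10] at hd
      have : (x 0 0 - 1) ^ 2 = 0 := by linear_combination -hd + x 0 0 * hx
      have := pow_eq_zero_iff (two_ne_zero) |>.1 this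
      linear_combination this
    have h11 : x 1 1 = 1 := by linear_combination hx - h00
    have h01 : x 0 1 ≠ 0 := by
      intro h
      exact hx1 ⟨h, h10, by rw [h00, h11]⟩
    refine ⟨1, x 0 1, h01, ?_⟩
    apply ext2 <;> simp [h00, h11, h10]
  · refine ⟨mk2 0 (-1 / x 1 0) (x 1 0) (1 - x 0 0) (by field_simp; ring), -1 / x 1 0,
      by simp [h10], ?_⟩
    have h11 : x 1 1 = 2 - x 0 0 := by linear_combination hx
    apply ext2 <;> simp only [mul00, mul01, mul10, mul11, inv00, inv01, inv10, inv11, uu_00, uu_01,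
      uu_10, uu_11, mk2_00, mk2_01, mk2_10, mk2_11, h11]
    · field_simp; ring
    · field_simp; ring
    · rw [h11] at hd; field_simp; linear_combination (x 1 0) * hd
    · field_simp; ring

/-- The upper triangular subgroup. -/
def Bor (F : Type*) [Field F] : Subgroup (S2 F) where
  carrier := {g | g 1 0 = 0}
  one_mem' := one10
  mul_mem' := by
    intro a b ha hb
    simp only [Set.mem_setOf_eq] at ha hb ⊢
    rw [mul10, ha, hb]; ring
  inv_mem' := by
    intro a ha
    simp only [Set.mem_setOf_eq] at ha ⊢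
    rw [inv10, ha]; ring

theorem mem_Bor (g : S2 F) : g ∈ Bor F ↔ g 1 0 = 0 := Iff.rfl

theorem bor_00_ne (g : S2 F) (hg : g 1 0 = 0) : g 0 0 ≠ 0 := by
  intro h
  have hd := det2 g
  rw [hg, h] at hd
  simp at hd

theorem bor_11 (g : S2 F) (hg : g 1 0 = 0) : g 1 1 = (g 0 0)⁻¹ := by
  have hd := det2 g
  rw [hg] at hd
  have h0 := bor_00_ne g hg
  field_simp
  linear_combination hd

/-- The character of the upper triangular subgroup. -/
def chi (F : Type*) [Field F] : Bor F →* Fˣ where
  toFun g := Units.mk0 ((g : S2 F) 0 0) (bor_00_ne _ g.2)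
  map_one' := by
    apply Units.ext
    simp
  map_mul' := by
    intro a b
    apply Units.ext
    have hb : (b : S2 F) 1 0 = 0 := b.2
    simp [mul00, hb]

theorem chi_val (g : Bor F) : ((chi F g : Fˣ) : F) = (g : S2 F) 0 0 := rfl

theorem eq_uu_of_bor (g : S2 F) (h10 : g 1 0 = 0) (h00 : g 0 0 = 1) : g = uu (g 0 1) := by
  have h11 := bor_11 g h10
  rw [h00, inv_one] at h11
  apply ext2 <;> simp [h00, h10, h11]

/-- scalar matrices of `SL₂` -/
theorem isSc_eq (g : S2 F) (hg : IsSc g) : g = 1 ∨ g = negOne := by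
  have h := isSc_sq g hg
  obtain ⟨h1, h2, h3⟩ := hg
  have h' : (g 0 0 - 1) * (g 0 0 + 1) = 0 := by linear_combination h
  rcases mul_eq_zero.1 h' with h | h
  · left
    have h00 : g 0 0 = 1 := by linear_combination h
    apply ext2 <;> simp [h1, h2, ← h3, h00]
  · right
    have h00 : g 0 0 = -1 := by linear_combination h
    apply ext2 <;> simp [h1, h2, ← h3, h00, negOne]

theorem isSc_negOne : IsSc (negOne : S2 F) := by
  refine ⟨?_, ?_, ?_⟩ <;> simp [negOne]

theorem negOne_eq_one (h2 : (2 : F) = 0) : (negOne : S2 F) = 1 := by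
  have h1 : (-1 : F) = 1 := by linear_combination -h2
  apply ext2 <;> simp [negOne, h1]

theorem negOne_ne_one' (h2 : (2 : F) ≠ 0) : (negOne : S2 F) ≠ 1 := by
  intro h
  have := congrArg (fun g : S2 F => g 0 0) h
  simp [negOne] at this
  apply h2
  linear_combination -this

theorem center_card_one (h2 : (2 : F) = 0) : Nat.card (Subgroup.center (S2 F)) = 1 := by
  have : Subgroup.center (S2 F) = ⊥ := by
    rw [Subgroup.eq_bot_iff_forall]
    intro g hg
    rcases isSc_eq g ((isSc_iff_center g).2 hg) with h | h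
    · exact h
    · rw [h, negOne_eq_one h2]
  rw [this]
  exact Subgroup.card_bot

theorem center_card_two (h2 : (2 : F) ≠ 0) : Nat.card (Subgroup.center (S2 F)) = 2 := by
  rw [Nat.card_eq_two_iff]
  refine ⟨⟨1, Subgroup.one_mem _⟩, ⟨negOne, (isSc_iff_center _).1 isSc_negOne⟩, ?_, ?_⟩
  · intro h
    exact negOne_ne_one' h2 (congrArg Subtype.val h).symm
  · ext g
    simp only [Set.mem_insert_iff, Set.mem_singleton_iff, Set.mem_univ, iff_true]
    rcases isSc_eq g.1 ((isSc_iff_center g.1).2 g.2) with h | h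
    · left; exact Subtype.ext h
    · right; exact Subtype.ext h

/-- `SL₂` is generated by elementary matrices, explicitly. -/
theorem eq_uu_ll_uu (g : S2 F) (h : g 1 0 ≠ 0) :
    g = uu ((g 0 0 - 1) / g 1 0) * ll (g 1 0) * uu ((g 1 1 - 1) / g 1 0) := by
  have hd := det2 g
  apply ext2 <;> simp only [mul00, mul01, mul10, mul11, uu_00, uu_01, uu_10, uu_11, ll_00, ll_01,
    ll_10, ll_11]
  · field_simp; ring
  · field_simp; linear_combination -hd
  · ring
  · field_simp; ring

end Std

end Cfsg.Agent.Lib.Helper19.Dk
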