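import Mathlib

set_option autoImplicit false

namespace Cfsg.Agent.Lib.Helper19.Dk

section Count

open Classical

variable {G : Type*} [Group G]

/-- Commutative-transitivity data: `Z` central in `G`, inside `L`, and commuting is transitive
through elements outside `Z`. -/
structure CTD (L Z : Subgroup G) : Prop where
  hZL : Z ≤ L
  hZc : ∀ z ∈ Z, ∀ g : G, g * z = z * g
  ct : ∀ x y w : G, y ∉ Z → x * y = y * x → w * y = y * w → x * w = w * x

/-- The centralizer of `x` in `L`. -/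
def cenL (L : Subgroup G) (x : G) : Subgroup G := L ⊓ Subgroup.centralizer {x}

theorem mem_cenL {L : Subgroup G} {x g : G} : g ∈ cenL L x ↔ g ∈ L ∧ g * x = x * g := by
  unfold cenL
  rw [Subgroup.mem_inf, Subgroup.mem_centralizer_iff]
  constructor
  · rintro ⟨h1, h2⟩
    exact ⟨h1, (h2 x rfl).symm⟩
  · rintro ⟨h1, h2⟩
    refine ⟨h1, ?_⟩
    intro h hh
    rw [Set.mem_singleton_iff] at hh
    rw [hh]; exact h2.symm

/-- Order of the centralizer of `x` in `L`. -/
noncomputable def cA (L : Subgroup G) (x : G) : ℕ := Nat.card (cenL L x)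

/-- The elements of `L` conjugating `x` to something commuting with `x`. -/
def nrmSet (L : Subgroup G) (x : G) : Set G :=
  {g | g ∈ L ∧ (g * x * g⁻¹) * x = x * (g * x * g⁻¹)}

/-- Its cardinality. -/
noncomputable def cN (L : Subgroup G) (x : G) : ℕ := Nat.card (nrmSet L x)

/-- `y` is `L`-conjugate to something commuting with `x`. -/
def Eqv (L : Subgroup G) (x y : G) : Prop := ∃ g ∈ L, (g * y * g⁻¹) * x = x * (g * y * g⁻¹)

theorem conj_comm' (g a b : G) (h : a * b = b * a) :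
    (g * a * g⁻¹) * (g * b * g⁻¹) = (g * b * g⁻¹) * (g * a * g⁻¹) := by
  have : Commute a b := h
  exact ((Commute.conj_iff g).2 this).eq

theorem conj_notZ {L Z : Subgroup G} (D : CTD L Z) (g y : G) (hy : y ∉ Z) : g * y * g⁻¹ ∉ Z := by
  intro h
  apply hy
  have h1 := D.hZc _ h g⁻¹
  have h3 : g⁻¹ * (g * y * g⁻¹) * g = y := by group
  rw [h1] at h3
  have h2 : y = g * y * g⁻¹ := by
    calc y = (g * y * g⁻¹) * g⁻¹ * g := h3.symm
      _ = g * y * g⁻¹ := by group
  rw [h2]; exact h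

theorem conj_conj (g h y : G) : g * (h * y * h⁻¹) * g⁻¹ = (g * h) * y * (g * h)⁻¹ := by group

theorem eqv_refl (L : Subgroup G) (x : G) : Eqv L x x :=
  ⟨1, L.one_mem, by group⟩

theorem eqv_symm {L : Subgroup G} {x y : G} (h : Eqv L x y) : Eqv L y x := by
  obtain ⟨g, hg, hc⟩ := h
  refine ⟨g⁻¹, L.inv_mem hg, ?_⟩
  have := conj_comm' g⁻¹ _ _ hc
  rw [conj_conj] at this
  simp only [inv_mul_cancel, one_mul, inv_one, mul_one] at this
  exact this.symm

theorem eqv_trans {L Z : Subgroup G} (D : CTD L Z) {x y w : G} (hy : y ∉ Z)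
    (h1 : Eqv L x y) (h2 : Eqv L y w) : Eqv L x w := by
  obtain ⟨g, hg, hc⟩ := h1
  obtain ⟨g', hg', hc'⟩ := h2
  refine ⟨g * g', L.mul_mem hg hg', ?_⟩
  have h3 := conj_comm' g _ _ hc'
  rw [conj_conj] at h3
  exact D.ct _ _ _ (conj_notZ D g y hy) h3 hc.symm

theorem eqv_of_comm {L : Subgroup G} {x y : G} (h : y * x = x * y) : Eqv L x y :=
  ⟨1, L.one_mem, by simpa using h⟩

/-- normaliser-set membership transfers along commuting elements -/
theorem nrm_of_comm {L Z : Subgroup G} (D : CTD L Z) {x y : G} (hx : x ∉ Z) (hy : y ∉ Z)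
    (hxy : y * x = x * y) (n : G) (hn : (n * x * n⁻¹) * x = x * (n * x * n⁻¹)) :
    (n * y * n⁻¹) * y = y * (n * y * n⁻¹) := by
  have h1 : (n * y * n⁻¹) * (n * x * n⁻¹) = (n * x * n⁻¹) * (n * y * n⁻¹) := conj_comm' n _ _ hxy
  have h2 : (n * y * n⁻¹) * x = x * (n * y * n⁻¹) :=
    D.ct _ _ _ (conj_notZ D n x hx) h1 hn.symm
  exact D.ct _ _ _ hx h2 hxy

theorem nrm_of_comm' {L Z : Subgroup G} (D : CTD L Z) {x y : G} (hx : x ∉ Z) (hy : y ∉ Z)
    (hxy : y * x = x * y) (n : G) (hn : (n * x * n⁻¹) * x = x * (n * x * n⁻¹)) :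
    (n * y * n⁻¹) * x = x * (n * y * n⁻¹) := by
  have h1 : (n * y * n⁻¹) * (n * x * n⁻¹) = (n * x * n⁻¹) * (n * y * n⁻¹) := conj_comm' n _ _ hxy
  exact D.ct _ _ _ (conj_notZ D n x hx) h1 hn.symm

variable [Fintype G]

theorem card_filter_mem (H : Subgroup G) : (Finset.univ.filter (fun y : G => y ∈ H)).card = Nat.card H := by
  rw [Nat.card_eq_fintype_card, Fintype.card_subtype]

theorem card_filter_set (s : Set G) : (Finset.univ.filter (fun y : G => y ∈ s)).card = Nat.card s := by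
  rw [Nat.card_eq_fintype_card, Fintype.card_subtype]

theorem card_Z_le {L Z : Subgroup G} (D : CTD L Z) (x : G) : Nat.card Z ≤ cA L x := by
  unfold cA
  apply Subgroup.card_le_of_le
  intro z hz
  rw [mem_cenL]
  exact ⟨D.hZL hz, (D.hZc z hz x).symm⟩

/-- The number of non-central elements of `L` commuting with `x`. -/
theorem card_comm_nonZ {L Z : Subgroup G} (D : CTD L Z) (x : G) :
    (Finset.univ.filter (fun y : G => (y ∈ L ∧ y ∉ Z) ∧ y * x = x * y)).card
      = cA L x - Nat.card Z := by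
  have h1 : (Finset.univ.filter (fun y : G => (y ∈ L ∧ y ∉ Z) ∧ y * x = x * y))
      = (Finset.univ.filter (fun y : G => y ∈ cenL L x)) \ (Finset.univ.filter (fun y : G => y ∈ Z)) := by
    ext y
    simp only [Finset.mem_filter, Finset.mem_univ, true_and, Finset.mem_sdiff, mem_cenL]
    tauto
  rw [h1, Finset.card_sdiff_of_subset, card_filter_mem, card_filter_mem]
  · rfl
  · intro z hz
    simp only [Finset.mem_filter, Finset.mem_univ, true_and, mem_cenL] at hz ⊢
    exact ⟨D.hZL hz, (D.hZc z hz x).symm⟩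

theorem class_card {L Z : Subgroup G} (D : CTD L Z) (x : G) (hxZ : x ∉ Z) :
    (Finset.univ.filter (fun y : G => (y ∈ L ∧ y ∉ Z) ∧ Eqv L x y)).card * cN L x
      = Nat.card L * (cA L x - Nat.card Z) := by
  have key := Finset.sum_card_bipartiteAbove_eq_sum_card_bipartiteBelow
    (fun g w : G => (g * w * g⁻¹) * x = x * (g * w * g⁻¹))
    (s := Finset.univ.filter (fun g : G => g ∈ L))
    (t := Finset.univ.filter (fun y : G => y ∈ L ∧ y ∉ Z))
  have hL : ∀ g ∈ Finset.univ.filter (fun g : G => g ∈ L),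
      (Finset.bipartiteAbove (fun g w : G => (g * w * g⁻¹) * x = x * (g * w * g⁻¹))
        (Finset.univ.filter (fun y : G => y ∈ L ∧ y ∉ Z)) g).card = cA L x - Nat.card Z := by
    intro g hg
    simp only [Finset.mem_filter, Finset.mem_univ, true_and] at hg
    rw [← card_comm_nonZ D x]
    apply Finset.card_nbij' (fun w => g * w * g⁻¹) (fun y => g⁻¹ * y * g)
    · intro w hw
      simp only [Finset.bipartiteAbove, Finset.coe_filter, Finset.mem_filter, Finset.mem_univ,
        true_and, Set.mem_setOf_eq] at hw ⊢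
      exact ⟨⟨L.mul_mem (L.mul_mem hg hw.1.1) (L.inv_mem hg), conj_notZ D g w hw.1.2⟩, hw.2⟩
    · intro y hy
      simp only [Finset.bipartiteAbove, Finset.coe_filter, Finset.mem_filter, Finset.mem_univ,
        true_and, Set.mem_setOf_eq] at hy ⊢
      refine ⟨⟨L.mul_mem (L.mul_mem (L.inv_mem hg) hy.1.1) hg, ?_⟩, ?_⟩
      · have := conj_notZ D g⁻¹ y hy.1.2
        simpa using this
      · have : g * (g⁻¹ * y * g) * g⁻¹ = y := by group
        rw [this]; exact hy.2
    · intro w _; group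
    · intro y _; group
  have hR : ∀ w ∈ Finset.univ.filter (fun y : G => y ∈ L ∧ y ∉ Z),
      (Finset.bipartiteBelow (fun g w : G => (g * w * g⁻¹) * x = x * (g * w * g⁻¹))
        (Finset.univ.filter (fun g : G => g ∈ L)) w).card = if Eqv L x w then cN L x else 0 := by
    intro w hw
    simp only [Finset.mem_filter, Finset.mem_univ, true_and] at hw
    split_ifs with he
    · obtain ⟨g₀, hg₀, hc₀⟩ := he
      unfold cN
      rw [← card_filter_set]
      symm
      apply Finset.card_nbij' (fun n => n * g₀) (fun g => g * g₀⁻¹)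
      · intro n hn
        simp only [Finset.bipartiteBelow, Finset.coe_filter, Finset.mem_filter, Finset.mem_univ,
          true_and, Set.mem_setOf_eq, nrmSet] at hn ⊢
        refine ⟨L.mul_mem hn.1 hg₀, ?_⟩
        have h1 := nrm_of_comm' D hxZ (conj_notZ D g₀ w hw.2) hc₀ n hn.2
        rw [conj_conj] at h1
        exact h1
      · intro g hg
        simp only [Finset.bipartiteBelow, Finset.coe_filter, Finset.mem_filter, Finset.mem_univ,
          true_and, Set.mem_setOf_eq, nrmSet] at hg ⊢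
        refine ⟨L.mul_mem hg.1 (L.inv_mem hg₀), ?_⟩
        -- n := g g₀⁻¹ ; n y₀ n⁻¹ = g w g⁻¹ commutes with x
        have hy0 : g₀ * w * g₀⁻¹ ∉ Z := conj_notZ D g₀ w hw.2
        have h1 : (g * g₀⁻¹) * x * (g * g₀⁻¹)⁻¹ * ((g * g₀⁻¹) * (g₀ * w * g₀⁻¹) * (g * g₀⁻¹)⁻¹)
            = ((g * g₀⁻¹) * (g₀ * w * g₀⁻¹) * (g * g₀⁻¹)⁻¹) * ((g * g₀⁻¹) * x * (g * g₀⁻¹)⁻¹) :=
          conj_comm' (g * g₀⁻¹) _ _ hc₀.symm
        have h2 : (g * g₀⁻¹) * (g₀ * w * g₀⁻¹) * (g * g₀⁻¹)⁻¹ = g * w * g⁻¹ := by group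
        rw [h2] at h1
        exact D.ct _ _ _ (conj_notZ D g w hw.2) h1 hg.2.symm
      · intro n _; group
      · intro g _; group
    · rw [Finset.card_eq_zero, Finset.eq_empty_iff_forall_notMem]
      intro g hg
      simp only [Finset.bipartiteBelow, Finset.mem_filter, Finset.mem_univ, true_and] at hg
      exact he ⟨g, hg.1, hg.2⟩
  rw [Finset.sum_congr rfl hL, Finset.sum_congr rfl hR, Finset.sum_const, card_filter_mem,
    Finset.sum_ite, Finset.sum_const, Finset.sum_const_zero, add_zero, smul_eq_mul, smul_eq_mul,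
    Finset.filter_filter] at key
  exact key.symm

theorem cN_pos (L : Subgroup G) (x : G) : 0 < cN L x := by
  unfold cN
  rw [Nat.card_pos_iff]
  exact ⟨⟨⟨1, L.one_mem, by group⟩⟩, inferInstance⟩

theorem cN_le (L : Subgroup G) (x : G) : cN L x ≤ Nat.card L := by
  unfold cN
  apply Nat.card_mono (Set.toFinite _)
  intro g hg
  exact hg.1

/-- The sum of the weights of pairwise inequivalent non-central elements. -/
theorem sum_le {L Z : Subgroup G} (D : CTD L Z) (R : Finset G)
    (hR : ∀ x ∈ R, x ∈ L ∧ x ∉ Z) (hpw : ∀ x ∈ R, ∀ y ∈ R, Eqv L x y → x = y) :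
    (∑ x ∈ R, ((cA L x : ℚ) - Nat.card Z) / cN L x ≤ 1 - (Nat.card Z : ℚ) / Nat.card L) ∧
    ((∑ x ∈ R, ((cA L x : ℚ) - Nat.card Z) / cN L x < 1 - (Nat.card Z : ℚ) / Nat.card L) →
      ∃ y ∈ L, y ∉ Z ∧ ∀ x ∈ R, ¬ Eqv L x y) := by
  have hLpos : (0 : ℚ) < Nat.card L := by exact_mod_cast Nat.card_pos
  have hcls : ∀ x ∈ R, ((cA L x : ℚ) - Nat.card Z) / cN L x
      = ((Finset.univ.filter (fun y : G => (y ∈ L ∧ y ∉ Z) ∧ Eqv L x y)).card : ℚ) / Nat.card L := by
    intro x hx
    have h := class_card D x (hR x hx).2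
    have hN : (0 : ℚ) < cN L x := by exact_mod_cast cN_pos L x
    have hZ := card_Z_le D x
    rw [div_eq_div_iff hN.ne' hLpos.ne']
    have h' : ((Finset.univ.filter (fun y : G => (y ∈ L ∧ y ∉ Z) ∧ Eqv L x y)).card : ℚ) * cN L x
        = Nat.card L * ((cA L x : ℚ) - Nat.card Z) := by
      rw [← Nat.cast_sub hZ]
      exact_mod_cast h
    linear_combination -h'
  have hdisj : (R : Set G).PairwiseDisjoint
      (fun x => Finset.univ.filter (fun y : G => (y ∈ L ∧ y ∉ Z) ∧ Eqv L x y)) := by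
    intro x hx x' hx' hne
    rw [Function.onFun, Finset.disjoint_left]
    intro y hy hy'
    simp only [Finset.mem_filter, Finset.mem_univ, true_and] at hy hy'
    exact hne (hpw x hx x' hx' (eqv_trans D hy.1.2 hy.2 (eqv_symm hy'.2)))
  have hsub : R.biUnion (fun x => Finset.univ.filter (fun y : G => (y ∈ L ∧ y ∉ Z) ∧ Eqv L x y))
      ⊆ Finset.univ.filter (fun y : G => y ∈ L ∧ y ∉ Z) := by
    intro y hy
    rw [Finset.mem_biUnion] at hy
    obtain ⟨x, _, hy⟩ := hy
    simp only [Finset.mem_filter, Finset.mem_univ, true_and] at hy ⊢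
    exact hy.1
  have hX : (Finset.univ.filter (fun y : G => y ∈ L ∧ y ∉ Z)).card = Nat.card L - Nat.card Z := by
    have h1 : (Finset.univ.filter (fun y : G => y ∈ L ∧ y ∉ Z))
        = (Finset.univ.filter (fun y : G => y ∈ L)) \ (Finset.univ.filter (fun y : G => y ∈ Z)) := by
      ext y
      simp only [Finset.mem_filter, Finset.mem_univ, true_and, Finset.mem_sdiff]
    rw [h1, Finset.card_sdiff_of_subset, card_filter_mem, card_filter_mem]
    intro z hz
    simp only [Finset.mem_filter, Finset.mem_univ, true_and] at hz ⊢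
    exact D.hZL hz
  have hZL : Nat.card Z ≤ Nat.card L := Subgroup.card_le_of_le D.hZL
  have hsum : ∑ x ∈ R, ((cA L x : ℚ) - Nat.card Z) / cN L x
      = ((R.biUnion (fun x => Finset.univ.filter (fun y : G => (y ∈ L ∧ y ∉ Z) ∧ Eqv L x y))).card : ℚ)
        / Nat.card L := by
    rw [Finset.sum_congr rfl hcls, ← Finset.sum_div, Finset.card_biUnion hdisj]
    push_cast
    rfl
  have hrhs : 1 - (Nat.card Z : ℚ) / Nat.card L
      = ((Finset.univ.filter (fun y : G => y ∈ L ∧ y ∉ Z)).card : ℚ) / Nat.card L := by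
    rw [hX, Nat.cast_sub hZL]
    field_simp
  rw [hsum, hrhs]
  constructor
  · apply div_le_div_of_nonneg_right _ hLpos.le
    exact_mod_cast Finset.card_le_card hsub
  · intro hlt
    by_contra hcon
    have hsub2 : Finset.univ.filter (fun y : G => y ∈ L ∧ y ∉ Z)
        ⊆ R.biUnion (fun x => Finset.univ.filter (fun y : G => (y ∈ L ∧ y ∉ Z) ∧ Eqv L x y)) := by
      intro y hy
      simp only [Finset.mem_filter, Finset.mem_univ, true_and] at hy
      rw [Finset.mem_biUnion]
      by_contra hno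
      apply hcon
      refine ⟨y, hy.1, hy.2, ?_⟩
      intro x hx he
      apply hno
      exact ⟨x, hx, by simp only [Finset.mem_filter, Finset.mem_univ, true_and]; exact ⟨hy, he⟩⟩
    have := Finset.Subset.antisymm hsub hsub2
    rw [this] at hlt
    exact lt_irrefl _ hlt


omit [Fintype G] in
theorem cenL_eq_of_comm {L Z : Subgroup G} (D : CTD L Z) {x y : G} (hx : x ∉ Z) (hy : y ∉ Z)
    (hxy : y * x = x * y) : cenL L x = cenL L y := by
  ext g
  rw [mem_cenL, mem_cenL]
  constructor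
  · rintro ⟨h1, h2⟩
    exact ⟨h1, D.ct g x y hx h2 hxy⟩
  · rintro ⟨h1, h2⟩
    exact ⟨h1, D.ct g y x hy h2 hxy.symm⟩

omit [Fintype G] in
theorem cA_of_comm {L Z : Subgroup G} (D : CTD L Z) {x y : G} (hx : x ∉ Z) (hy : y ∉ Z)
    (hxy : y * x = x * y) : cA L x = cA L y := by
  unfold cA
  rw [cenL_eq_of_comm D hx hy hxy]

omit [Fintype G] in
theorem nrmSet_eq_of_comm {L Z : Subgroup G} (D : CTD L Z) {x y : G} (hx : x ∉ Z) (hy : y ∉ Z)
    (hxy : y * x = x * y) : nrmSet L x = nrmSet L y := by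
  ext g
  unfold nrmSet
  simp only [Set.mem_setOf_eq]
  constructor
  · rintro ⟨h1, h2⟩
    exact ⟨h1, nrm_of_comm D hx hy hxy g h2⟩
  · rintro ⟨h1, h2⟩
    exact ⟨h1, nrm_of_comm D hy hx hxy.symm g h2⟩

omit [Fintype G] in
theorem cN_of_comm {L Z : Subgroup G} (D : CTD L Z) {x y : G} (hx : x ∉ Z) (hy : y ∉ Z)
    (hxy : y * x = x * y) : cN L x = cN L y := by
  unfold cN
  rw [nrmSet_eq_of_comm D hx hy hxy]

omit [Fintype G] in
theorem mem_map_equiv' (φ : G ≃* G) (L : Subgroup G) (g : G) :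
    φ g ∈ L.map φ.toMonoidHom ↔ g ∈ L := by
  rw [Subgroup.mem_map_equiv]
  simp

omit [Fintype G] in
theorem cA_map (φ : G ≃* G) (L : Subgroup G) (x : G) :
    cA (L.map φ.toMonoidHom) (φ x) = cA L x := by
  unfold cA
  symm
  apply Nat.card_congr
  refine Equiv.subtypeEquiv φ.toEquiv ?_
  intro g
  change g ∈ cenL L x ↔ φ g ∈ cenL (L.map φ.toMonoidHom) (φ x)
  rw [mem_cenL, mem_cenL, mem_map_equiv', ← map_mul, ← map_mul, φ.injective.eq_iff]

omit [Fintype G] in
theorem cN_map (φ : G ≃* G) (L : Subgroup G) (x : G) :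
    cN (L.map φ.toMonoidHom) (φ x) = cN L x := by
  unfold cN
  symm
  apply Nat.card_congr
  refine Equiv.subtypeEquiv φ.toEquiv ?_
  intro g
  change g ∈ nrmSet L x ↔ φ g ∈ nrmSet (L.map φ.toMonoidHom) (φ x)
  unfold nrmSet
  simp only [Set.mem_setOf_eq]
  rw [mem_map_equiv', ← map_inv, ← map_mul, ← map_mul, ← map_mul, ← map_mul, φ.injective.eq_iff]

omit [Fintype G] in
theorem card_map (φ : G ≃* G) (L : Subgroup G) :
    Nat.card (L.map φ.toMonoidHom) = Nat.card L := by
  symm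
  apply Nat.card_congr
  refine Equiv.subtypeEquiv φ.toEquiv ?_
  intro g
  exact (mem_map_equiv' φ L g).symm

omit [Fintype G] in
theorem map_conj_self (L : Subgroup G) (c : G) (hc : c ∈ L) :
    L.map (MulAut.conj c).toMonoidHom = L := by
  ext g
  rw [Subgroup.mem_map_equiv]
  simp only [MulAut.conj_symm_apply]
  constructor
  · intro h
    have : g = c * (c⁻¹ * g * c) * c⁻¹ := by group
    rw [this]
    exact L.mul_mem (L.mul_mem hc h) (L.inv_mem hc)
  · intro h
    exact L.mul_mem (L.mul_mem (L.inv_mem hc) h) hc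

omit [Fintype G] in
theorem cA_conj (L : Subgroup G) (c : G) (hc : c ∈ L) (x : G) :
    cA L (c * x * c⁻¹) = cA L x := by
  have := cA_map (MulAut.conj c) L x
  rw [map_conj_self L c hc] at this
  simpa using this

omit [Fintype G] in
theorem cN_conj (L : Subgroup G) (c : G) (hc : c ∈ L) (x : G) :
    cN L (c * x * c⁻¹) = cN L x := by
  have := cN_map (MulAut.conj c) L x
  rw [map_conj_self L c hc] at this
  simpa using this

omit [Fintype G] in
theorem cA_eqv {L Z : Subgroup G} (D : CTD L Z) {x y : G} (hx : x ∉ Z) (hy : y ∉ Z)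
    (h : Eqv L x y) : cA L y = cA L x := by
  obtain ⟨g, hg, hc⟩ := h
  rw [← cA_conj L g hg y]
  exact (cA_of_comm D hx (conj_notZ D g y hy) hc).symm

omit [Fintype G] in
theorem cN_eqv {L Z : Subgroup G} (D : CTD L Z) {x y : G} (hx : x ∉ Z) (hy : y ∉ Z)
    (h : Eqv L x y) : cN L y = cN L x := by
  obtain ⟨g, hg, hc⟩ := h
  rw [← cN_conj L g hg y]
  exact (cN_of_comm D hx (conj_notZ D g y hy) hc).symm


/-- The weight of an element. -/
noncomputable def wt (L Z : Subgroup G) (x : G) : ℚ := ((cA L x : ℚ) - Nat.card Z) / cN L x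

/-- The bound. -/
noncomputable def bd (L Z : Subgroup G) : ℚ := 1 - (Nat.card Z : ℚ) / Nat.card L

/-- A set of pairwise inequivalent non-central elements of `L`. -/
def Good (L Z : Subgroup G) (R : Finset G) : Prop :=
  (∀ x ∈ R, x ∈ L ∧ x ∉ Z) ∧ (∀ x ∈ R, ∀ y ∈ R, Eqv L x y → x = y)

omit [Fintype G] in
theorem good_empty (L Z : Subgroup G) : Good L Z ∅ := by
  constructor
  · intro x hx; simp at hx
  · intro x hx; simp at hx

omit [Fintype G] in
theorem good_insert {L Z : Subgroup G} {R : Finset G} (hR : Good L Z R) (y : G) (hy : y ∈ L)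
    (hyZ : y ∉ Z) (hnew : ∀ x ∈ R, ¬ Eqv L x y) : Good L Z (insert y R) ∧ y ∉ R := by
  refine ⟨⟨?_, ?_⟩, ?_⟩
  · intro x hx
    rw [Finset.mem_insert] at hx
    rcases hx with rfl | hx
    · exact ⟨hy, hyZ⟩
    · exact hR.1 x hx
  · intro a ha b hb hab
    rw [Finset.mem_insert] at ha hb
    rcases ha with rfl | ha <;> rcases hb with rfl | hb
    · rfl
    · exact absurd (eqv_symm hab) (hnew b hb)
    · exact absurd hab (hnew a ha)
    · exact hR.2 a ha b hb hab
  · intro hyR
    exact hnew y hyR (eqv_refl L y)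

theorem sum_le' {L Z : Subgroup G} (D : CTD L Z) (R : Finset G) (hR : Good L Z R) :
    (∑ x ∈ R, wt L Z x ≤ bd L Z) ∧
    ((∑ x ∈ R, wt L Z x < bd L Z) → ∃ y ∈ L, y ∉ Z ∧ ∀ x ∈ R, ¬ Eqv L x y) :=
  sum_le D R hR.1 hR.2

theorem wt_pos {L Z : Subgroup G} (D : CTD L Z) (x : G) (hx : x ∈ L) (hxZ : x ∉ Z) :
    0 < wt L Z x := by
  unfold wt
  apply div_pos
  · have h1 : Nat.card Z < cA L x := by
      by_contra hcon
      push Not at hcon
      have hle : Z ≤ cenL L x := by
        intro z hz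
        rw [mem_cenL]
        exact ⟨D.hZL hz, (D.hZc z hz x).symm⟩
      have := Subgroup.eq_of_le_of_card_ge hle hcon
      apply hxZ
      rw [this, mem_cenL]
      exact ⟨hx, rfl⟩
    have : (Nat.card Z : ℚ) < cA L x := by exact_mod_cast h1
    linarith
  · exact_mod_cast cN_pos L x

/-- If the weights sum to the bound, the representatives are complete. -/
theorem complete_of_eq {L Z : Subgroup G} (D : CTD L Z) (R : Finset G) (hR : Good L Z R)
    (heq : ∑ x ∈ R, wt L Z x = bd L Z) (y : G) (hy : y ∈ L) (hyZ : y ∉ Z) :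
    ∃ x ∈ R, Eqv L x y := by
  by_contra hcon
  push Not at hcon
  obtain ⟨hg, hnot⟩ := good_insert hR y hy hyZ hcon
  have h1 := (sum_le' D _ hg).1
  rw [Finset.sum_insert hnot, heq] at h1
  have := wt_pos D y hy hyZ
  linarith

end Count

end Cfsg.Agent.Lib.Helper19.Dk
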