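import Mathlib
import Cfsg.Agent.Lib.Helper19.DkA
import Cfsg.Agent.Lib.Helper19.DkB

set_option autoImplicit false

namespace Cfsg.Agent.Lib.Helper19.Dk

open Matrix Cfsg.Agent.S0809

section Coset

theorem coset_dvd {G : Type*} [Group G] (M : Subgroup G) (T : Set G)
    (h : ∀ t ∈ T, ∀ m ∈ M, t * m ∈ T) : Nat.card M ∣ Nat.card T := by
  have hT : T = (QuotientGroup.mk : G → G ⧸ M) ⁻¹' ((QuotientGroup.mk : G → G ⧸ M) '' T) := by
    ext g
    constructor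
    · intro hg
      exact ⟨g, hg, rfl⟩
    · rintro ⟨t, ht, hgt⟩
      have h1 : t⁻¹ * g ∈ M := QuotientGroup.eq.1 hgt
      have h2 := h t ht _ h1
      rwa [mul_inv_cancel_left] at h2
  rw [hT, QuotientGroup.card_preimage_mk]
  exact dvd_mul_right _ _

theorem add_coset_dvd {G : Type*} [AddGroup G] (M : AddSubgroup G) (T : Set G)
    (h : ∀ t ∈ T, ∀ m ∈ M, t + m ∈ T) : Nat.card M ∣ Nat.card T := by
  have := coset_dvd (G := Multiplicative G) (AddSubgroup.toSubgroup M)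
    (Multiplicative.toAdd ⁻¹' T) (by
      intro t ht m hm
      exact h _ ht _ hm)
  exact this

end Coset

section SLayer

variable {F : Type*} [Field F]

theorem ctd (L : Subgroup (S2 F)) (hZ : Subgroup.center (S2 F) ≤ L) :
    CTD L (Subgroup.center (S2 F)) where
  hZL := hZ
  hZc := fun z hz g => Subgroup.mem_center_iff.1 hz g
  ct := fun x y w hy h1 h2 => comm_trans x y w (fun h => hy ((isSc_iff_center y).1 h)) h1 h2

theorem cN_ss [Finite F] (L : Subgroup (S2 F)) (x : S2 F) (hx : tr x ^ 2 ≠ 4) :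
    (cN L x = cA L x ∧ ∀ g ∈ L, ¬ (g * x * g⁻¹ = x⁻¹)) ∨
    (cN L x = 2 * cA L x ∧ ∃ g ∈ L, g * x * g⁻¹ = x⁻¹) := by
  classical
  haveI : Fintype F := Fintype.ofFinite F
  have hmem : ∀ g : S2 F, g ∈ nrmSet L x ↔ g ∈ L ∧ (g * x * g⁻¹ = x ∨ g * x * g⁻¹ = x⁻¹) := by
    intro g
    unfold nrmSet
    simp only [Set.mem_setOf_eq]
    constructor
    · rintro ⟨h1, h2⟩
      exact ⟨h1, eq_or_inv x _ hx h2 (tr_conj g x)⟩
    · rintro ⟨h1, h2 | h2⟩
      · exact ⟨h1, by rw [h2]⟩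
      · exact ⟨h1, by rw [h2]; group⟩
  by_cases h : ∃ g ∈ L, g * x * g⁻¹ = x⁻¹
  · right
    refine ⟨?_, h⟩
    obtain ⟨g₀, hg₀, hc₀⟩ := h
    have hset : nrmSet L x
        = (cenL L x : Set (S2 F)) ∪ (fun c => g₀ * c) '' (cenL L x : Set (S2 F)) := by
      ext g
      rw [hmem]
      simp only [Set.mem_union, SetLike.mem_coe, Set.mem_image, mem_cenL]
      constructor
      · rintro ⟨h1, h2 | h2⟩
        · left; exact ⟨h1, (conj_eq_iff g x x).1 h2⟩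
        · right
          refine ⟨g₀⁻¹ * g, ⟨L.mul_mem (L.inv_mem hg₀) h1, ?_⟩, by group⟩
          rw [← conj_eq_iff]
          have h3 : g₀⁻¹ * g * x * (g₀⁻¹ * g)⁻¹ = g₀⁻¹ * (g * x * g⁻¹) * g₀ := by group
          rw [h3, h2]
          calc g₀⁻¹ * x⁻¹ * g₀ = g₀⁻¹ * (g₀ * x * g₀⁻¹) * g₀ := by rw [hc₀]
            _ = x := by group
      · rintro (⟨h1, h2⟩ | ⟨c, ⟨h1, h2⟩, rfl⟩)
        · exact ⟨h1, Or.inl ((conj_eq_iff g x x).2 h2)⟩
        · refine ⟨L.mul_mem hg₀ h1, Or.inr ?_⟩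
          have h3 : g₀ * c * x * (g₀ * c)⁻¹ = g₀ * (c * x * c⁻¹) * g₀⁻¹ := by group
          rw [h3, (conj_eq_iff c x x).2 h2, hc₀]
    have hdisj : Disjoint (cenL L x : Set (S2 F)) ((fun c => g₀ * c) '' (cenL L x : Set (S2 F))) := by
      rw [Set.disjoint_left]
      rintro g hg ⟨c, hc, rfl⟩
      have hg0 : g₀ ∈ cenL L x := by
        have := (cenL L x).mul_mem hg ((cenL L x).inv_mem hc)
        rwa [mul_inv_cancel_right] at this
      have h3 := (conj_eq_iff g₀ x x).2 (mem_cenL.1 hg0).2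
      rw [h3] at hc₀
      exact ne_inv_of_ss x hx hc₀
    unfold cN cA
    rw [hset, Nat.card_coe_set_eq, Set.ncard_union_eq hdisj (Set.toFinite _) (Set.toFinite _),
      Set.ncard_image_of_injective _ (mul_right_injective g₀), ← Nat.card_coe_set_eq]
    change Nat.card (cenL L x) + Nat.card (cenL L x) = _
    ring
  · left
    refine ⟨?_, fun g hg hc => h ⟨g, hg, hc⟩⟩
    have hset : nrmSet L x = (cenL L x : Set (S2 F)) := by
      ext g
      rw [hmem]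
      simp only [SetLike.mem_coe, mem_cenL]
      constructor
      · rintro ⟨h1, h2 | h2⟩
        · exact ⟨h1, (conj_eq_iff g x x).1 h2⟩
        · exact absurd ⟨g, h1, h2⟩ h
      · rintro ⟨h1, h2⟩
        exact ⟨h1, Or.inl ((conj_eq_iff g x x).2 h2)⟩
    unfold cN cA
    rw [hset]
    rfl


/-- The additive group of `b` with `uu b ∈ L`. -/
def BB (L : Subgroup (S2 F)) : AddSubgroup F where
  carrier := {b | uu b ∈ L}
  zero_mem' := by
    simp only [Set.mem_setOf_eq, uu_zero]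
    exact L.one_mem
  add_mem' := by
    intro a b ha hb
    simp only [Set.mem_setOf_eq] at ha hb ⊢
    rw [← uu_mul]
    exact L.mul_mem ha hb
  neg_mem' := by
    intro a ha
    simp only [Set.mem_setOf_eq] at ha ⊢
    rw [← uu_inv]
    exact L.inv_mem ha

theorem mem_BB (L : Subgroup (S2 F)) (b : F) : b ∈ BB L ↔ uu b ∈ L := Iff.rfl

/-- Scalar matrices. -/
def scm (t : F) (ht : t * t = 1) : S2 F := mk2 t 0 0 t (by linear_combination ht)

theorem isSc_scm (t : F) (ht : t * t = 1) : IsSc (scm t ht) := ⟨rfl, rfl, rfl⟩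

theorem scm_mem_center (t : F) (ht : t * t = 1) : scm t ht ∈ Subgroup.center (S2 F) :=
  (isSc_iff_center _).1 (isSc_scm t ht)

theorem isSc_ext (g h : S2 F) (hg : IsSc g) (hh : IsSc h) (e : g 0 0 = h 0 0) : g = h := by
  apply ext2
  · exact e
  · rw [hg.1, hh.1]
  · rw [hg.2.1, hh.2.1]
  · rw [← hg.2.2, ← hh.2.2, e]

theorem cA_uu [Finite F] (L : Subgroup (S2 F)) (hZ : Subgroup.center (S2 F) ≤ L) (b₀ : F)
    (hb₀ : b₀ ≠ 0) :
    cA L (uu b₀) = Nat.card (Subgroup.center (S2 F)) * Nat.card (BB L) := by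
  unfold cA
  rw [← Nat.card_prod]
  symm
  have hmem : ∀ p : Subgroup.center (S2 F) × BB L, (p.1 : S2 F) * uu (p.2 : F) ∈ cenL L (uu b₀) := by
    intro p
    rw [mem_cenL]
    refine ⟨L.mul_mem (hZ p.1.2) p.2.2, ?_⟩
    have h1 : uu (p.2 : F) * uu b₀ = uu b₀ * uu (p.2 : F) := by
      rw [uu_mul, uu_mul, add_comm]
    have h2 := Subgroup.mem_center_iff.1 p.1.2 (uu b₀)
    calc (p.1 : S2 F) * uu (p.2 : F) * uu b₀ = (p.1 : S2 F) * (uu (p.2 : F) * uu b₀) := by group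
      _ = (p.1 : S2 F) * (uu b₀ * uu (p.2 : F)) := by rw [h1]
      _ = ((p.1 : S2 F) * uu b₀) * uu (p.2 : F) := by group
      _ = (uu b₀ * (p.1 : S2 F)) * uu (p.2 : F) := by rw [h2]
      _ = uu b₀ * ((p.1 : S2 F) * uu (p.2 : F)) := by group
  apply Nat.card_congr
  refine Equiv.ofBijective (fun p => ⟨(p.1 : S2 F) * uu (p.2 : F), hmem p⟩) ⟨?_, ?_⟩
  · rintro ⟨ζ, b⟩ ⟨ζ', b'⟩ h
    have h' : (ζ : S2 F) * uu (b : F) = (ζ' : S2 F) * uu (b' : F) := congrArg Subtype.val h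
    have hs := (isSc_iff_center (ζ : S2 F)).2 ζ.2
    have hs' := (isSc_iff_center (ζ' : S2 F)).2 ζ'.2
    have e00 := congrArg (fun g : S2 F => g 0 0) h'
    simp only [mul00, uu_00, uu_10, mul_one, mul_zero, add_zero] at e00
    have hζ : (ζ : S2 F) = (ζ' : S2 F) := isSc_ext _ _ hs hs' e00
    rw [hζ] at h'
    have hb : (b : F) = (b' : F) := uu_injective (mul_left_cancel h')
    exact Prod.ext (Subtype.ext hζ) (Subtype.ext hb)
  · rintro ⟨g, hg⟩
    rw [mem_cenL] at hg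
    obtain ⟨hgL, hgc⟩ := hg
    obtain ⟨h10, h0011⟩ := (comm_uu_iff g b₀ hb₀).1 hgc
    have hd := det2 g
    rw [h10, ← h0011] at hd
    have hsq : g 0 0 * g 0 0 = 1 := by linear_combination hd
    have hu : scm (g 0 0) hsq * g = uu (g 0 0 * g 0 1) := by
      apply ext2 <;> simp only [mul00, mul01, mul10, mul11, scm, mk2_00, mk2_01, mk2_10, mk2_11,
        uu_00, uu_01, uu_10, uu_11, h10, ← h0011]
      · linear_combination hsq
      · ring
      · ring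
      · linear_combination hsq
    have hbL : g 0 0 * g 0 1 ∈ BB L := by
      rw [mem_BB, ← hu]
      exact L.mul_mem (hZ (scm_mem_center _ hsq)) hgL
    refine ⟨(⟨scm (g 0 0) hsq, scm_mem_center _ hsq⟩, ⟨g 0 0 * g 0 1, hbL⟩), ?_⟩
    apply Subtype.ext
    simp only
    rw [← hu, ← mul_assoc]
    have : scm (g 0 0) hsq * scm (g 0 0) hsq = 1 := isSc_mul_self _ (isSc_scm _ hsq)
    rw [this, one_mul]

theorem cN_uu (L : Subgroup (S2 F)) (b₀ : F) (hb₀ : b₀ ≠ 0) :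
    cN L (uu b₀) = Nat.card (L ⊓ Bor F : Subgroup (S2 F)) := by
  unfold cN
  have : nrmSet L (uu b₀) = ((L ⊓ Bor F : Subgroup (S2 F)) : Set (S2 F)) := by
    ext g
    unfold nrmSet
    simp only [Set.mem_setOf_eq, SetLike.mem_coe, Subgroup.mem_inf, mem_Bor]
    rw [conj_uu_comm_iff g b₀ hb₀]
  rw [this]
  rfl

/-- The character on `L ∩ B`. -/
def chiL (L : Subgroup (S2 F)) : (L ⊓ Bor F : Subgroup (S2 F)) →* Fˣ :=
  (chi F).comp (Subgroup.inclusion inf_le_right)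

theorem chiL_val (L : Subgroup (S2 F)) (g : (L ⊓ Bor F : Subgroup (S2 F))) :
    ((chiL L g : Fˣ) : F) = (g : S2 F) 0 0 := rfl

theorem card_NB [Finite F] (L : Subgroup (S2 F)) :
    Nat.card (L ⊓ Bor F : Subgroup (S2 F)) = Nat.card (BB L) * Nat.card (chiL L).range := by
  rw [← Subgroup.card_mul_index (chiL L).ker, Subgroup.index_ker]
  congr 1
  symm
  have hmem : ∀ b : BB L, uu (b : F) ∈ (L ⊓ Bor F : Subgroup (S2 F)) := fun b => ⟨b.2, rfl⟩
  have hker : ∀ b : BB L, (⟨uu (b : F), hmem b⟩ : (L ⊓ Bor F : Subgroup (S2 F))) ∈ (chiL L).ker := by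
    intro b
    rw [MonoidHom.mem_ker]
    apply Units.ext
    rw [chiL_val]
    rfl
  apply Nat.card_congr
  refine Equiv.ofBijective (fun b => ⟨⟨uu (b : F), hmem b⟩, hker b⟩) ⟨?_, ?_⟩
  · intro b b' h
    have h1 := congrArg Subtype.val h
    have h' : uu (b : F) = uu (b' : F) := congrArg Subtype.val h1
    exact Subtype.ext (uu_injective h')
  · rintro ⟨⟨g, hg⟩, hk⟩
    rw [MonoidHom.mem_ker] at hk
    have h00 : g 0 0 = 1 := by
      have := congrArg (fun u : Fˣ => (u : F)) hk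
      simpa [chiL_val] using this
    have h10 : g 1 0 = 0 := hg.2
    have hgu := eq_uu_of_bor g h10 h00
    have hb : g 0 1 ∈ BB L := by
      rw [mem_BB, ← hgu]; exact hg.1
    refine ⟨⟨g 0 1, hb⟩, ?_⟩
    apply Subtype.ext
    apply Subtype.ext
    exact hgu.symm


theorem card_units_mem [Finite F] (B : AddSubgroup F) :
    Nat.card {u : Fˣ | (u : F) ∈ B} = Nat.card B - 1 := by
  have h1 : (fun u : Fˣ => (u : F)) '' {u : Fˣ | (u : F) ∈ B} = (B : Set F) \ {0} := by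
    ext b
    simp only [Set.mem_image, Set.mem_setOf_eq, Set.mem_diff, SetLike.mem_coe,
      Set.mem_singleton_iff]
    constructor
    · rintro ⟨u, hu, rfl⟩
      exact ⟨hu, u.ne_zero⟩
    · rintro ⟨hb, hb0⟩
      exact ⟨Units.mk0 b hb0, hb, rfl⟩
  rw [Nat.card_coe_set_eq, ← Set.ncard_image_of_injective _ Units.val_injective, h1,
    Set.ncard_diff_singleton_of_mem (by exact B.zero_mem), ← Nat.card_coe_set_eq]
  rfl

theorem card_range_chiL [Finite F] (L : Subgroup (S2 F)) (hZ : Subgroup.center (S2 F) ≤ L) :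
    ∃ k : ℕ, Nat.card (chiL L).range = Nat.card (Subgroup.center (S2 F)) * k ∧ 1 ≤ k ∧
      k ∣ Nat.card (BB L) - 1 := by
  classical
  let ψ : (chiL L).range →* Fˣ := (powMonoidHom 2).comp (chiL L).range.subtype
  have hψ : ∀ u : (chiL L).range, ((ψ u : Fˣ) : F) = ((u : Fˣ) : F) ^ 2 := fun u => rfl
  have h1 : Nat.card ψ.ker * Nat.card ψ.range = Nat.card (chiL L).range := by
    rw [← Subgroup.index_ker, Subgroup.card_mul_index]
  have hmemNB : ∀ ζ : Subgroup.center (S2 F), (ζ : S2 F) ∈ (L ⊓ Bor F : Subgroup (S2 F)) :=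
    fun ζ => ⟨hZ ζ.2, ((isSc_iff_center _).2 ζ.2).2.1⟩
  have hmemM : ∀ ζ : Subgroup.center (S2 F), chiL L ⟨ζ, hmemNB ζ⟩ ∈ (chiL L).range :=
    fun ζ => ⟨_, rfl⟩
  have hmemK : ∀ ζ : Subgroup.center (S2 F),
      (⟨chiL L ⟨ζ, hmemNB ζ⟩, hmemM ζ⟩ : (chiL L).range) ∈ ψ.ker := by
    intro ζ
    rw [MonoidHom.mem_ker]
    apply Units.ext
    rw [hψ]
    exact isSc_sq _ ((isSc_iff_center _).2 ζ.2)
  have hker : Nat.card ψ.ker = Nat.card (Subgroup.center (S2 F)) := by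
    symm
    apply Nat.card_congr
    refine Equiv.ofBijective (fun ζ => ⟨⟨chiL L ⟨ζ, hmemNB ζ⟩, hmemM ζ⟩, hmemK ζ⟩) ⟨?_, ?_⟩
    · intro ζ ζ' h
      have h2 := congrArg Subtype.val (congrArg Subtype.val h)
      have h3 : (ζ : S2 F) 0 0 = (ζ' : S2 F) 0 0 := congrArg (fun u : Fˣ => (u : F)) h2
      exact Subtype.ext (isSc_ext _ _ ((isSc_iff_center _).2 ζ.2) ((isSc_iff_center _).2 ζ'.2) h3)
    · rintro ⟨⟨u, hu⟩, hk⟩
      rw [MonoidHom.mem_ker] at hk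
      have hu2 : (u : F) * (u : F) = 1 := by
        have := congrArg (fun u : Fˣ => (u : F)) hk
        simp only [hψ, Units.val_one] at this
        linear_combination this
      refine ⟨⟨scm (u : F) hu2, scm_mem_center _ hu2⟩, ?_⟩
      apply Subtype.ext
      apply Subtype.ext
      apply Units.ext
      rfl
  refine ⟨Nat.card ψ.range, ?_, Nat.card_pos, ?_⟩
  · rw [← h1, hker]
  · have hdvd := coset_dvd ψ.range {u : Fˣ | (u : F) ∈ BB L} (by
      rintro u hu m ⟨⟨t, ⟨g, rfl⟩⟩, rfl⟩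
      simp only [Set.mem_setOf_eq] at hu ⊢
      have h3 : uu ((g : S2 F) 0 0 ^ 2 * (u : F)) ∈ L := by
        rw [← conj_uu _ g.2.2]
        exact L.mul_mem (L.mul_mem g.2.1 hu) (L.inv_mem g.2.1)
      rw [mem_BB]
      have h4 : ((u * ψ ⟨chiL L g, ⟨g, rfl⟩⟩ : Fˣ) : F) = (g : S2 F) 0 0 ^ 2 * (u : F) := by
        rw [Units.val_mul, hψ]
        change (u : F) * ((g : S2 F) 0 0) ^ 2 = _
        ring
      rw [h4]
      exact h3)
    rwa [card_units_mem] at hdvd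

/-- The finite part of the orbit of `∞`. -/
def TT (L : Subgroup (S2 F)) : Set F := {y | ∃ g ∈ L, g 1 0 ≠ 0 ∧ y = g 0 0 / g 1 0}

theorem card_L_eq [Finite F] (L : Subgroup (S2 F)) :
    Nat.card L = Nat.card (L ⊓ Bor F : Subgroup (S2 F)) * (1 + Nat.card (TT L)) := by
  classical
  haveI : Fintype F := Fintype.ofFinite F
  haveI : Fintype (S2 F) := Fintype.ofFinite _
  have hL : Nat.card L = (Finset.univ.filter (fun g : S2 F => g ∈ L)).card :=
    (card_filter_mem L).symm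
  have hN : Nat.card (L ⊓ Bor F : Subgroup (S2 F))
      = (Finset.univ.filter (fun g : S2 F => g ∈ L ∧ g 1 0 = 0)).card := by
    rw [← card_filter_mem]
    congr 1
    ext g
    simp only [Finset.mem_filter, Finset.mem_univ, true_and, Subgroup.mem_inf, mem_Bor]
  have hT : Nat.card (TT L) = (Finset.univ.filter (fun y : F => y ∈ TT L)).card := by
    rw [Nat.card_eq_fintype_card, Fintype.card_subtype]
  have hsplit : (Finset.univ.filter (fun g : S2 F => g ∈ L)).card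
      = (Finset.univ.filter (fun g : S2 F => g ∈ L ∧ g 1 0 = 0)).card
        + (Finset.univ.filter (fun g : S2 F => g ∈ L ∧ g 1 0 ≠ 0)).card := by
    rw [← Finset.card_filter_add_card_filter_not (fun g : S2 F => g 1 0 = 0),
      Finset.filter_filter, Finset.filter_filter]
  have hfib : (Finset.univ.filter (fun g : S2 F => g ∈ L ∧ g 1 0 ≠ 0)).card
      = ∑ y ∈ Finset.univ.filter (fun y : F => y ∈ TT L),
        (Finset.univ.filter (fun g : S2 F => (g ∈ L ∧ g 1 0 ≠ 0) ∧ g 0 0 / g 1 0 = y)).card := by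
    rw [Finset.card_eq_sum_card_fiberwise (f := fun g : S2 F => g 0 0 / g 1 0)
      (t := Finset.univ.filter (fun y : F => y ∈ TT L))]
    · apply Finset.sum_congr rfl
      intro y _
      rw [Finset.filter_filter]
    · intro g hg
      simp only [Finset.coe_filter, Finset.mem_univ, true_and, Set.mem_setOf_eq] at hg ⊢
      exact ⟨g, hg.1, hg.2, rfl⟩
  have hfib2 : ∀ y ∈ Finset.univ.filter (fun y : F => y ∈ TT L),
      (Finset.univ.filter (fun g : S2 F => (g ∈ L ∧ g 1 0 ≠ 0) ∧ g 0 0 / g 1 0 = y)).card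
        = (Finset.univ.filter (fun g : S2 F => g ∈ L ∧ g 1 0 = 0)).card := by
    intro y hy
    simp only [Finset.mem_filter, Finset.mem_univ, true_and] at hy
    obtain ⟨g₁, hg₁, h10, rfl⟩ := hy
    symm
    apply Finset.card_nbij' (fun n => g₁ * n) (fun g => g₁⁻¹ * g)
    · intro n hn
      simp only [Finset.coe_filter, Finset.mem_univ, true_and, Set.mem_setOf_eq] at hn ⊢
      have e10 : (g₁ * n) 1 0 = g₁ 1 0 * n 0 0 := by rw [mul10, hn.2]; ring
      have e00 : (g₁ * n) 0 0 = g₁ 0 0 * n 0 0 := by rw [mul00, hn.2]; ring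
      have hn00 := bor_00_ne n hn.2
      refine ⟨⟨L.mul_mem hg₁ hn.1, ?_⟩, ?_⟩
      · rw [e10]; exact mul_ne_zero h10 hn00
      · rw [e10, e00]; field_simp
    · intro g hg
      simp only [Finset.coe_filter, Finset.mem_univ, true_and, Set.mem_setOf_eq] at hg ⊢
      refine ⟨L.mul_mem (L.inv_mem hg₁) hg.1.1, ?_⟩
      rw [mul10, inv10, inv11]
      have h3 := hg.2
      have h4 := hg.1.2
      field_simp at h3
      linear_combination -h3
    · intro n _; group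
    · intro g _; group
  rw [hL, hN, hT, hsplit, hfib, Finset.sum_congr rfl hfib2, Finset.sum_const, smul_eq_mul]
  ring

theorem BB_dvd_TT (L : Subgroup (S2 F)) : Nat.card (BB L) ∣ Nat.card (TT L) := by
  apply add_coset_dvd
  rintro y ⟨g, hg, h10, rfl⟩ b hb
  refine ⟨uu b * g, L.mul_mem hb hg, ?_, ?_⟩
  · rw [mul10]; simpa using h10
  · rw [mul10, mul00]
    simp only [uu_00, uu_01, uu_10, uu_11, one_mul, zero_mul, zero_add]
    field_simp


theorem exists_ss [Finite F] (L : Subgroup (S2 F)) (k : ℕ)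
    (hk : Nat.card (chiL L).range = Nat.card (Subgroup.center (S2 F)) * k) (hk2 : 2 ≤ k) :
    ∃ s ∈ L, tr s ^ 2 ≠ 4 ∧ cA L s = Nat.card (Subgroup.center (S2 F)) * k := by
  classical
  haveI : Fintype F := Fintype.ofFinite F
  obtain ⟨τ₀, hτ₀⟩ := IsCyclic.exists_generator (α := (chiL L).range)
  have hord : orderOf τ₀ = Nat.card (chiL L).range := orderOf_eq_card_of_forall_mem_zpowers hτ₀
  obtain ⟨s', hs'⟩ := τ₀.2
  have hsL : (s' : S2 F) ∈ L := s'.2.1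
  have hs10 : (s' : S2 F) 1 0 = 0 := s'.2.2
  have ht0 : (s' : S2 F) 0 0 ≠ 0 := bor_00_ne _ hs10
  have hs11 : (s' : S2 F) 1 1 = ((s' : S2 F) 0 0)⁻¹ := bor_11 _ hs10
  have hτval : ((τ₀ : Fˣ) : F) = (s' : S2 F) 0 0 := by rw [← hs']; rfl
  have htt : (s' : S2 F) 0 0 * (s' : S2 F) 0 0 ≠ 1 := by
    intro h
    have hτ2 : τ₀ ^ 2 = 1 := by
      apply Subtype.ext
      apply Units.ext
      rw [Subgroup.coe_pow, Units.val_pow_eq_pow_val, hτval]
      simp only [OneMemClass.coe_one, Units.val_one]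
      linear_combination h
    have hdvd : orderOf τ₀ ∣ 2 := orderOf_dvd_of_pow_eq_one hτ2
    by_cases h2 : (2 : F) = 0
    · have ht1 : (s' : S2 F) 0 0 = 1 := by
        have h3 : ((s' : S2 F) 0 0 - 1) ^ 2 = 0 := by
          linear_combination h + (1 - (s' : S2 F) 0 0) * h2
        have := pow_eq_zero_iff (two_ne_zero) |>.1 h3
        linear_combination this
      have hτ1 : τ₀ = 1 := by
        apply Subtype.ext
        apply Units.ext
        rw [hτval, ht1]; rfl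
      rw [hτ1, orderOf_one, hk] at hord
      have h5 : k ∣ 1 := Dvd.intro_left _ hord.symm
      have := Nat.le_of_dvd one_pos h5
      omega
    · rw [hord, hk, center_card_two h2] at hdvd
      have := Nat.le_of_dvd (by norm_num) hdvd
      omega
  have htinv : (s' : S2 F) 0 0 - ((s' : S2 F) 0 0)⁻¹ ≠ 0 := by
    intro h
    apply htt
    field_simp at h
    linear_combination h
  have hss : tr (s' : S2 F) ^ 2 ≠ 4 := by
    unfold tr
    rw [hs11]
    intro h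
    have e : ((s' : S2 F) 0 0 - ((s' : S2 F) 0 0)⁻¹) ^ 2 = 0 := by
      have e1 : ((s' : S2 F) 0 0 - ((s' : S2 F) 0 0)⁻¹) ^ 2
          = ((s' : S2 F) 0 0 + ((s' : S2 F) 0 0)⁻¹) ^ 2 - 4 := by
        field_simp; ring
      rw [e1, h]; ring
    exact htinv (pow_eq_zero_iff (two_ne_zero) |>.1 e)
  have hcen : ∀ g ∈ cenL L (s' : S2 F), g 1 0 = 0 := by
    intro g hg
    obtain ⟨-, -, h3⟩ := (comm_iff g (s' : S2 F)).1 (mem_cenL.1 hg).2
    rw [hs10, hs11] at h3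
    have : g 1 0 * ((s' : S2 F) 0 0 - ((s' : S2 F) 0 0)⁻¹) = 0 := by linear_combination -h3
    rcases mul_eq_zero.1 this with h | h
    · exact h
    · exact absurd h htinv
  let f : cenL L (s' : S2 F) →* Fˣ :=
    (chiL L).comp (Subgroup.inclusion (fun g hg => ⟨(mem_cenL.1 hg).1, hcen g hg⟩))
  have hfval : ∀ g : cenL L (s' : S2 F), ((f g : Fˣ) : F) = (g : S2 F) 0 0 := fun g => rfl
  have hfinj : Function.Injective f := by
    rw [injective_iff_map_eq_one]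
    intro g hg
    have h00 : (g : S2 F) 0 0 = 1 := by
      have := congrArg (fun u : Fˣ => (u : F)) hg
      simpa [hfval] using this
    have h10 := hcen g g.2
    have hgu := eq_uu_of_bor (g : S2 F) h10 h00
    have hc := (mem_cenL.1 g.2).2
    rw [hgu] at hc
    obtain ⟨-, h2, -⟩ := (comm_iff (uu ((g : S2 F) 0 1)) (s' : S2 F)).1 hc
    simp only [uu_00, uu_01, uu_11] at h2
    rw [hs11] at h2
    have h6 : (g : S2 F) 0 1 * ((s' : S2 F) 0 0 - ((s' : S2 F) 0 0)⁻¹) = 0 := by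
      linear_combination -h2
    have h01 : (g : S2 F) 0 1 = 0 := by
      rcases mul_eq_zero.1 h6 with h | h
      · exact h
      · exact absurd h htinv
    apply Subtype.ext
    rw [hgu, h01, uu_zero]; rfl
  have hle : cA L (s' : S2 F) ≤ Nat.card (chiL L).range := by
    unfold cA
    rw [Nat.card_congr (MonoidHom.ofInjective hfinj).toEquiv]
    apply Subgroup.card_le_of_le
    rintro _ ⟨g, rfl⟩
    exact ⟨_, rfl⟩
  have hge : Nat.card (chiL L).range ≤ cA L (s' : S2 F) := by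
    rw [← hord]
    have h1 : orderOf τ₀ ∣ orderOf s' := by
      have : (chiL L).rangeRestrict s' = τ₀ := Subtype.ext hs'
      rw [← this]
      exact orderOf_map_dvd _ _
    have h2 : orderOf (s' : S2 F) = orderOf s' := Subgroup.orderOf_coe s'
    have h3 : orderOf (s' : S2 F) ≤ cA L (s' : S2 F) := by
      unfold cA
      rw [← Nat.card_zpowers]
      apply Subgroup.card_le_of_le
      rw [Subgroup.zpowers_le]
      exact mem_cenL.2 ⟨hsL, rfl⟩
    have h4 : 0 < orderOf s' := orderOf_pos s'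
    rw [h2] at h3
    exact le_trans (Nat.le_of_dvd h4 h1) h3
  exact ⟨(s' : S2 F), hsL, hss, le_antisymm (hk ▸ hle) (hk ▸ hge)⟩

theorem U_std [Finite F] (L : Subgroup (S2 F)) (hZ : Subgroup.center (S2 F) ≤ L) (b₀ : F)
    (hb₀ : b₀ ≠ 0) (hL : uu b₀ ∈ L) :
    ∃ k t : ℕ, 2 ≤ Nat.card (BB L) ∧ 1 ≤ k ∧ k ∣ Nat.card (BB L) - 1 ∧
      cA L (uu b₀) = Nat.card (Subgroup.center (S2 F)) * Nat.card (BB L) ∧
      cN L (uu b₀) = Nat.card (Subgroup.center (S2 F)) * k * Nat.card (BB L) ∧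
      Nat.card L = Nat.card (Subgroup.center (S2 F)) * k * Nat.card (BB L)
        * (1 + t * Nat.card (BB L)) ∧
      Nat.card (TT L) = t * Nat.card (BB L) ∧
      (2 ≤ k → ∃ s ∈ L, tr s ^ 2 ≠ 4 ∧ cA L s = Nat.card (Subgroup.center (S2 F)) * k) := by
  obtain ⟨k, hk1, hk2, hk3⟩ := card_range_chiL L hZ
  obtain ⟨t, ht⟩ := BB_dvd_TT L
  have hNB := card_NB L
  have hB2 : 2 ≤ Nat.card (BB L) := by
    have : Nontrivial (BB L) :=
      ⟨⟨0, ⟨b₀, hL⟩, fun h => hb₀ (congrArg Subtype.val h).symm⟩⟩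
    exact Finite.one_lt_card
  refine ⟨k, t, hB2, hk2, hk3, cA_uu L hZ b₀ hb₀, ?_, ?_, ?_, ?_⟩
  · rw [cN_uu L b₀ hb₀, hNB, hk1]; ring
  · rw [card_L_eq L, hNB, hk1, ht]; ring
  · rw [ht]; ring
  · intro h2; exact exists_ss L k hk1 h2

theorem center_le_map (L : Subgroup (S2 F)) (hZ : Subgroup.center (S2 F) ≤ L) (φ : S2 F ≃* S2 F) :
    Subgroup.center (S2 F) ≤ L.map φ.toMonoidHom := by
  intro ζ hζ
  rw [Subgroup.mem_map_equiv]
  apply hZ
  rw [Subgroup.mem_center_iff] at hζ ⊢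
  intro g
  apply φ.injective
  rw [map_mul, map_mul, MulEquiv.apply_symm_apply]
  exact hζ (φ g)

theorem tr_negOne_mul (x : S2 F) : tr (negOne * x) = - tr x := by
  unfold tr
  simp only [mul00, mul11, negOne, mk2_00, mk2_01, mk2_10, mk2_11]
  ring

theorem isSc_negOne_mul (x : S2 F) (h : IsSc (negOne * x)) : IsSc x := by
  obtain ⟨h1, h2, h3⟩ := h
  simp only [mul00, mul01, mul10, mul11, negOne, mk2_00, mk2_01, mk2_10, mk2_11] at h1 h2 h3
  exact ⟨by linear_combination -h1, by linear_combination -h2, by linear_combination -h3⟩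

/-- A non-central element of trace `±2` commutes with a non-central element of trace `2`. -/
theorem exists_tr_two (L : Subgroup (S2 F)) (hZ : Subgroup.center (S2 F) ≤ L) (x₀ : S2 F)
    (hx₀ : x₀ ∈ L) (hsc : ¬ IsSc x₀) (h4 : tr x₀ ^ 2 = 4) :
    ∃ x₁ ∈ L, ¬ IsSc x₁ ∧ tr x₁ = 2 ∧ x₁ * x₀ = x₀ * x₁ := by
  have h : (tr x₀ - 2) * (tr x₀ + 2) = 0 := by linear_combination h4
  rcases mul_eq_zero.1 h with h | h
  · exact ⟨x₀, hx₀, hsc, by linear_combination h, rfl⟩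
  · refine ⟨negOne * x₀, L.mul_mem (hZ ((isSc_iff_center _).1 isSc_negOne)) hx₀,
      fun hs => hsc (isSc_negOne_mul x₀ hs), ?_, ?_⟩
    · rw [tr_negOne_mul]; linear_combination -h
    · have h5 := negOne_mul x₀
      calc negOne * x₀ * x₀ = (x₀ * negOne) * x₀ := by rw [h5]
        _ = x₀ * (negOne * x₀) := by group

theorem U_gen [Finite F] (L : Subgroup (S2 F)) (hZ : Subgroup.center (S2 F) ≤ L) (x₀ : S2 F)
    (hx₀ : x₀ ∈ L) (hsc : ¬ IsSc x₀) (h4 : tr x₀ ^ 2 = 4) :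
    ∃ q' k t : ℕ, 2 ≤ q' ∧ 1 ≤ k ∧ k ∣ q' - 1 ∧
      cA L x₀ = Nat.card (Subgroup.center (S2 F)) * q' ∧
      cN L x₀ = Nat.card (Subgroup.center (S2 F)) * k * q' ∧
      Nat.card L = Nat.card (Subgroup.center (S2 F)) * k * q' * (1 + t * q') ∧
      (2 ≤ k → ∃ s ∈ L, tr s ^ 2 ≠ 4 ∧ cA L s = Nat.card (Subgroup.center (S2 F)) * k) ∧
      (t = 0 → ∃ g : S2 F, ∀ ℓ ∈ L, (g * ℓ * g⁻¹) 1 0 = 0) := by
  obtain ⟨x₁, hx₁L, hsc₁, htr₁, hcomm⟩ := exists_tr_two L hZ x₀ hx₀ hsc h4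
  have D := ctd L hZ
  have hn0 : x₀ ∉ Subgroup.center (S2 F) := fun h => hsc ((isSc_iff_center _).2 h)
  have hn1 : x₁ ∉ Subgroup.center (S2 F) := fun h => hsc₁ ((isSc_iff_center _).2 h)
  have hA : cA L x₀ = cA L x₁ := cA_of_comm D hn0 hn1 hcomm
  have hN : cN L x₀ = cN L x₁ := cN_of_comm D hn0 hn1 hcomm
  obtain ⟨g, b, hb, hgb⟩ := exists_conj_uu x₁ htr₁ hsc₁
  have hZ' := center_le_map L hZ (MulAut.conj g)
  have hconj : ∀ y : S2 F, (MulAut.conj g) y = g * y * g⁻¹ := fun y => by simp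
  have hL' : uu b ∈ L.map (MulAut.conj g).toMonoidHom := by
    rw [← hgb, ← hconj]
    exact (mem_map_equiv' _ L x₁).2 hx₁L
  obtain ⟨k, t, h2, hk1, hkd, hcA, hcN, hcard, hTT, hs⟩ :=
    U_std (L.map (MulAut.conj g).toMonoidHom) hZ' b hb hL'
  refine ⟨Nat.card (BB (L.map (MulAut.conj g).toMonoidHom)), k, t, h2, hk1, hkd, ?_, ?_, ?_, ?_, ?_⟩
  · rw [hA, ← hcA, ← hgb, ← hconj, cA_map]
  · rw [hN, ← hcN, ← hgb, ← hconj, cN_map]
  · rw [← hcard, card_map]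
  · intro hk2
    obtain ⟨s, hsL, hss, hsA⟩ := hs hk2
    refine ⟨(MulAut.conj g).symm s, (Subgroup.mem_map_equiv).1 hsL, ?_, ?_⟩
    · have : (MulAut.conj g).symm s = g⁻¹ * s * g⁻¹⁻¹ := by simp
      rw [this, tr_conj]; exact hss
    · rw [← hsA, ← cA_map (MulAut.conj g) L, MulEquiv.apply_symm_apply]
  · intro ht0
    rw [ht0, zero_mul] at hTT
    refine ⟨g, ?_⟩
    intro ℓ hℓ
    by_contra hne
    have hmem : (g * ℓ * g⁻¹) 0 0 / (g * ℓ * g⁻¹) 1 0 ∈ TT (L.map (MulAut.conj g).toMonoidHom) := by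
      refine ⟨g * ℓ * g⁻¹, ?_, hne, rfl⟩
      rw [← hconj]
      exact (mem_map_equiv' _ L ℓ).2 hℓ
    have hfin : (TT (L.map (MulAut.conj g).toMonoidHom)).Finite := Set.toFinite _
    rw [Nat.card_coe_set_eq, Set.ncard_eq_zero hfin] at hTT
    rw [hTT] at hmem
    exact hmem


end SLayer

section SylowAux

open Pointwise in
theorem sylow_conj_mem {G : Type*} [Group G] [Finite G] (p : ℕ) [Fact p.Prime] (P Q : Sylow p G)
    (u : G) (hu : u ∈ Q) : ∃ g : G, g * u * g⁻¹ ∈ P := by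
  obtain ⟨g, hg⟩ := MulAction.exists_smul_eq G Q P
  refine ⟨g, ?_⟩
  rw [← hg]
  have h1 : (MulAut.conj g) • u ∈ (MulAut.conj g) • (Q : Subgroup G) :=
    Subgroup.smul_mem_pointwise_smul _ _ _ hu
  rw [← Sylow.coe_subgroup_smul] at h1
  simp only [MulAut.smul_def, MulAut.conj_apply] at h1
  exact h1

theorem pelt_conj_mem {G : Type*} [Group G] [Finite G] (p : ℕ) [Fact p.Prime] (P : Sylow p G)
    (u : G) (hu : u ^ p = 1) : ∃ g : G, g * u * g⁻¹ ∈ P := by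
  have hp : IsPGroup p (Subgroup.zpowers u) := by
    rintro ⟨v, hv⟩
    obtain ⟨j, rfl⟩ := Subgroup.mem_zpowers_iff.1 hv
    refine ⟨1, ?_⟩
    apply Subtype.ext
    simp only [pow_one, Subgroup.coe_pow, Subgroup.coe_one]
    rw [← zpow_natCast, ← _root_.zpow_mul, mul_comm, _root_.zpow_mul, zpow_natCast, hu, _root_.one_zpow]
  obtain ⟨Q, hQ⟩ := hp.exists_le_sylow
  exact sylow_conj_mem p P Q u (hQ (Subgroup.mem_zpowers u))

end SylowAux

section SLayer2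

variable {F : Type*} [Field F]

theorem negOne_pow_odd (n : ℕ) (hn : Odd n) : (negOne : S2 F) ^ n = negOne := by
  obtain ⟨m, rfl⟩ := hn
  rw [pow_succ, pow_mul, pow_two, negOne_sq, one_pow, one_mul]

theorem not_isSc_of_rpow (r : ℕ) [Fact r.Prime] (hr : r ≠ 2 ∨ (2 : F) = 0) (c : S2 F)
    (hc1 : c ≠ 1) (k : ℕ) (hk : c ^ (r ^ k) = 1) : ¬ IsSc c := by
  intro hsc
  rcases isSc_eq c hsc with h | h
  · exact hc1 h
  · rcases hr with hr | h2
    · have hodd : Odd (r ^ k) := ((Fact.out : r.Prime).odd_of_ne_two hr).pow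
      rw [h, negOne_pow_odd _ hodd] at hk
      rw [h, hk] at hc1
      exact hc1 rfl
    · rw [h, negOne_eq_one h2] at hc1
      exact hc1 rfl

theorem relts_center0 {G : Type*} [Group G] [Finite G] (r : ℕ) [Fact r.Prime] (x₁ y₁ : G)
    (hx1 : x₁ ≠ 1) (hxr : x₁ ^ r = 1) (hyr : y₁ ^ r = 1) :
    ∃ g g' c : G, c ≠ 1 ∧ (∃ k : ℕ, c ^ (r ^ k) = 1) ∧
      (g * x₁ * g⁻¹) * c = c * (g * x₁ * g⁻¹) ∧ (g' * y₁ * g'⁻¹) * c = c * (g' * y₁ * g'⁻¹) := by
  classical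
  have P : Sylow r G := default
  obtain ⟨g, hg⟩ := pelt_conj_mem r P x₁ hxr
  obtain ⟨g', hg'⟩ := pelt_conj_mem r P y₁ hyr
  have hne : (⟨g * x₁ * g⁻¹, hg⟩ : (P : Subgroup G)) ≠ 1 := by
    intro h
    have h2 : g * x₁ * g⁻¹ = 1 := congrArg Subtype.val h
    apply hx1
    have h3 : x₁ = g⁻¹ * (g * x₁ * g⁻¹) * g := by group
    rw [h3, h2]; group
  haveI : Nontrivial (P : Subgroup G) := ⟨⟨_, 1, hne⟩⟩
  haveI := IsPGroup.center_nontrivial P.isPGroup'
  obtain ⟨c₀, hc₀⟩ := exists_ne (1 : Subgroup.center (P : Subgroup G))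
  refine ⟨g, g', ((c₀ : (P : Subgroup G)) : G), ?_, ?_, ?_, ?_⟩
  · intro h
    apply hc₀
    apply Subtype.ext
    apply Subtype.ext
    exact h
  · obtain ⟨k, hk⟩ := P.isPGroup' (c₀ : (P : Subgroup G))
    refine ⟨k, ?_⟩
    have h2 := congrArg Subtype.val hk
    rw [Subgroup.coe_pow] at h2
    exact h2
  · have h1 := Subgroup.mem_center_iff.1 c₀.2 ⟨g * x₁ * g⁻¹, hg⟩
    exact congrArg Subtype.val h1
  · have h1 := Subgroup.mem_center_iff.1 c₀.2 ⟨g' * y₁ * g'⁻¹, hg'⟩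
    exact congrArg Subtype.val h1

theorem relts_center {G : Type*} [Group G] [Finite G] (r : ℕ) [Fact r.Prime] (L : Subgroup G)
    (x₁ y₁ : G) (hx₁ : x₁ ∈ L) (hy₁ : y₁ ∈ L)
    (hx1 : x₁ ≠ 1) (hxr : x₁ ^ r = 1) (hyr : y₁ ^ r = 1) :
    ∃ g ∈ L, ∃ g' ∈ L, ∃ c : G, c ≠ 1 ∧ (∃ k : ℕ, c ^ (r ^ k) = 1) ∧
      (g * x₁ * g⁻¹) * c = c * (g * x₁ * g⁻¹) ∧ (g' * y₁ * g'⁻¹) * c = c * (g' * y₁ * g'⁻¹) := by
  obtain ⟨g, g', c, hc1, ⟨k, hk⟩, h1, h2⟩ := relts_center0 r (⟨x₁, hx₁⟩ : L) ⟨y₁, hy₁⟩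
    (fun h => hx1 (congrArg Subtype.val h)) (Subtype.ext (by rw [Subgroup.coe_pow]; exact hxr))
    (Subtype.ext (by rw [Subgroup.coe_pow]; exact hyr))
  refine ⟨g, g.2, g', g'.2, c, fun h => hc1 (Subtype.ext h), ⟨k, ?_⟩, ?_, ?_⟩
  · have := congrArg Subtype.val hk
    rw [Subgroup.coe_pow] at this
    exact this
  · exact congrArg Subtype.val h1
  · exact congrArg Subtype.val h2

/-- Two non-central elements of `L` commuting with non-trivial `r`-elements are equivalent. -/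
theorem eqv_relts [Finite F] (r : ℕ) [Fact r.Prime] (hr : r ≠ 2 ∨ (2 : F) = 0)
    (L : Subgroup (S2 F)) (x y x₁ y₁ : S2 F)
    (hx₁ : x₁ ∈ L) (hy₁ : y₁ ∈ L) (hx1 : x₁ ≠ 1) (hy1 : y₁ ≠ 1) (hxr : x₁ ^ r = 1)
    (hyr : y₁ ^ r = 1) (hxc : x₁ * x = x * x₁) (hyc : y₁ * y = y * y₁) : Eqv L x y := by
  obtain ⟨g, hgL, g', hg'L, c, hc1, ⟨k, hk⟩, ha, hb⟩ :=
    relts_center r L x₁ y₁ hx₁ hy₁ hx1 hxr hyr
  have hcs := not_isSc_of_rpow r hr c hc1 k hk
  have hab : (g * x₁ * g⁻¹) * (g' * y₁ * g'⁻¹) = (g' * y₁ * g'⁻¹) * (g * x₁ * g⁻¹) :=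
    comm_trans _ _ _ hcs ha hb
  have hx₁s : ¬ IsSc x₁ := not_isSc_of_rpow r hr x₁ hx1 1 (by simpa using hxr)
  have hy₁s : ¬ IsSc y₁ := not_isSc_of_rpow r hr y₁ hy1 1 (by simpa using hyr)
  have ha₁s : ¬ IsSc (g * x₁ * g⁻¹) := fun h => hx₁s ((isSc_conj _ _).1 h)
  have hb₁s : ¬ IsSc (g' * y₁ * g'⁻¹) := fun h => hy₁s ((isSc_conj _ _).1 h)
  have haa : (g * x * g⁻¹) * (g * x₁ * g⁻¹) = (g * x₁ * g⁻¹) * (g * x * g⁻¹) :=
    conj_comm _ _ _ hxc.symm
  have hbb : (g' * y * g'⁻¹) * (g' * y₁ * g'⁻¹) = (g' * y₁ * g'⁻¹) * (g' * y * g'⁻¹) :=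
    conj_comm _ _ _ hyc.symm
  have hab₁ : (g * x * g⁻¹) * (g' * y₁ * g'⁻¹) = (g' * y₁ * g'⁻¹) * (g * x * g⁻¹) :=
    comm_trans _ _ _ ha₁s haa hab.symm
  have hba : (g' * y * g'⁻¹) * (g * x * g⁻¹) = (g * x * g⁻¹) * (g' * y * g'⁻¹) :=
    comm_trans _ _ _ hb₁s hbb hab₁
  refine ⟨g⁻¹ * g', L.mul_mem (L.inv_mem hgL) hg'L, ?_⟩
  have h5 := conj_comm g⁻¹ _ _ hba
  have e1 : g⁻¹ * (g' * y * g'⁻¹) * g⁻¹⁻¹ = g⁻¹ * g' * y * (g⁻¹ * g')⁻¹ := by group
  have e2 : g⁻¹ * (g * x * g⁻¹) * g⁻¹⁻¹ = x := by group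
  rw [e1, e2] at h5
  exact h5

/-- All non-central elements of trace `±2` in `L` are equivalent. -/
theorem eqv_unip [Finite F] (p : ℕ) [Fact p.Prime] [CharP F p] (L : Subgroup (S2 F))
    (hZ : Subgroup.center (S2 F) ≤ L) (x y : S2 F) (hx : x ∈ L) (hy : y ∈ L)
    (hxs : ¬ IsSc x) (hys : ¬ IsSc y) (hx4 : tr x ^ 2 = 4) (hy4 : tr y ^ 2 = 4) : Eqv L x y := by
  obtain ⟨x₁, hx₁L, hsc₁, htr₁, hc₁⟩ := exists_tr_two L hZ x hx hxs hx4
  obtain ⟨y₁, hy₁L, hsc₁', htr₁', hc₁'⟩ := exists_tr_two L hZ y hy hys hy4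
  have hr : p ≠ 2 ∨ (2 : F) = 0 := by
    by_cases hp : p = 2
    · right
      have := CharP.cast_eq_zero F p
      rw [hp] at this
      exact_mod_cast this
    · left; exact hp
  exact eqv_relts p hr L x y x₁ y₁ hx₁L hy₁L (fun h => hsc₁ (h ▸ isSc_one))
    (fun h => hsc₁' (h ▸ isSc_one)) (pow_char_of_tr p x₁ htr₁) (pow_char_of_tr p y₁ htr₁') hc₁ hc₁'

theorem not_eqv_un_ss (L : Subgroup (S2 F)) (x₀ s : S2 F) (hx₀ : ¬ IsSc x₀) (h4 : tr x₀ ^ 2 = 4)
    (hs : tr s ^ 2 ≠ 4) : ¬ Eqv L x₀ s := by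
  rintro ⟨g, -, hc⟩
  have := tr_sq_of_comm x₀ (g * s * g⁻¹) hx₀ h4 hc
  rw [tr_conj] at this
  exact hs this

end SLayer2


end Cfsg.Agent.Lib.Helper19.Dk
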