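import Mathlib
import Cfsg.Agent.Lib.Helper19.DkC

set_option autoImplicit false

namespace Cfsg.Agent.Lib.Helper19.Dk

open Matrix Cfsg.Agent.S0809

section Steps

open Classical

variable {G : Type*} [Group G] [Fintype G]

theorem add_elt {L Z : Subgroup G} (D : CTD L Z) (R : Finset G) (hR : Good L Z R) (S : ℚ)
    (hS : ∑ x ∈ R, wt L Z x = S) (y : G) (hy : y ∈ L) (hyZ : y ∉ Z)
    (hnew : ∀ x ∈ R, ¬ Eqv L x y) :
    Good L Z (insert y R) ∧ ∑ x ∈ insert y R, wt L Z x = wt L Z y + S ∧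
      wt L Z y + S ≤ bd L Z := by
  obtain ⟨hg, hnot⟩ := good_insert hR y hy hyZ hnew
  have h1 : ∑ x ∈ insert y R, wt L Z x = wt L Z y + S := by rw [Finset.sum_insert hnot, hS]
  exact ⟨hg, h1, h1 ▸ (sum_le' D _ hg).1⟩

theorem step {L Z : Subgroup G} (D : CTD L Z) (R : Finset G) (hR : Good L Z R) (S : ℚ)
    (hS : ∑ x ∈ R, wt L Z x = S) (hlt : S < bd L Z) :
    ∃ y ∈ L, y ∉ Z ∧ (∀ x ∈ R, ¬ Eqv L x y) ∧ Good L Z (insert y R) ∧
      ∑ x ∈ insert y R, wt L Z x = wt L Z y + S ∧ wt L Z y + S ≤ bd L Z := by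
  obtain ⟨y, hy, hyZ, hnew⟩ := (sum_le' D R hR).2 (hS ▸ hlt)
  exact ⟨y, hy, hyZ, hnew, add_elt D R hR S hS y hy hyZ hnew⟩

theorem fin_step {L Z : Subgroup G} (D : CTD L Z) (R : Finset G) (hR : Good L Z R) (S : ℚ)
    (hS : ∑ x ∈ R, wt L Z x = S) (w : ℚ)
    (hw : ∀ y ∈ L, y ∉ Z → (∀ x ∈ R, ¬ Eqv L x y) → w ≤ wt L Z y) (hcon : bd L Z < S + w) :
    S = bd L Z := by
  by_contra hne
  have hle : S ≤ bd L Z := hS ▸ (sum_le' D R hR).1
  have hlt : S < bd L Z := lt_of_le_of_ne hle hne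
  obtain ⟨y, hy, hyZ, hnew, -, -, h3⟩ := step D R hR S hS hlt
  have := hw y hy hyZ hnew
  linarith

theorem complete' {L Z : Subgroup G} (D : CTD L Z) (R : Finset G) (hR : Good L Z R) (S : ℚ)
    (hS : ∑ x ∈ R, wt L Z x = S) (heq : S = bd L Z) (y : G) (hy : y ∈ L) (hyZ : y ∉ Z) :
    ∃ x ∈ R, Eqv L x y := complete_of_eq D R hR (hS.trans heq) y hy hyZ

theorem mem_ins_self (y : G) (R : Finset G) : y ∈ insert y R := Finset.mem_insert_self y R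

theorem mem_ins_of_mem {x y : G} {R : Finset G} (h : x ∈ R) : x ∈ insert y R :=
  Finset.mem_insert_of_mem h

theorem mem_ins_iff {x y : G} {R : Finset G} : x ∈ insert y R ↔ x = y ∨ x ∈ R :=
  Finset.mem_insert

theorem mem_ins1 {x a : G} : x ∈ insert a (∅ : Finset G) ↔ x = a := by
  simp

theorem mem_ins3 {x a b c : G} :
    x ∈ insert a (insert b (insert c (∅ : Finset G))) ↔ x = a ∨ x = b ∨ x = c := by
  simp

end Steps

section Num

theorem inv_pos_le (a : ℕ) (ha : 2 ≤ a) : 0 < (1 : ℚ) / a ∧ (1 : ℚ) / a ≤ 1 / 2 := by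
  have h : (2 : ℚ) ≤ a := by exact_mod_cast ha
  constructor
  · positivity
  · rw [div_le_div_iff₀ (by linarith) (by norm_num)]; linarith

theorem lt_of_inv_lt (a n : ℕ) (ha : 0 < a) (hn : 0 < n) (h : (1 : ℚ) / n < 1 / a) : a < n := by
  have ha' : (0 : ℚ) < a := by exact_mod_cast ha
  have hn' : (0 : ℚ) < n := by exact_mod_cast hn
  rw [div_lt_div_iff₀ hn' ha'] at h
  have : (a : ℚ) < n := by linarith
  exact_mod_cast this

theorem eq_of_inv_eq (a b : ℕ) (ha : 0 < a) (hb : 0 < b) (h : (1 : ℚ) / a = 1 / b) : a = b := by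
  have ha' : (a : ℚ) ≠ 0 := by exact_mod_cast ha.ne'
  have hb' : (b : ℚ) ≠ 0 := by exact_mod_cast hb.ne'
  field_simp at h
  exact_mod_cast h.symm

theorem inv_lt_of_lt (a b : ℕ) (ha : 0 < a) (h : a < b) : (1 : ℚ) / b < 1 / a := by
  have ha' : (0 : ℚ) < a := by exact_mod_cast ha
  have hb' : (a : ℚ) < b := by exact_mod_cast h
  exact one_div_lt_one_div_of_lt ha' hb'

theorem inv_le_half_of (a h : ℕ) (ha : 0 < a) (h2 : 2 * a ≤ h) :
    (1 : ℚ) / h ≤ (1 / (a : ℚ)) / 2 := by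
  have ha' : (0 : ℚ) < a := by exact_mod_cast ha
  have hb' : (2 : ℚ) * a ≤ h := by exact_mod_cast h2
  rw [div_div]
  exact one_div_le_one_div_of_le (by positivity) (by linarith)

theorem eq_two_mul (a h : ℕ) (ha : 0 < a) (hh : 0 < h) (e : (1 : ℚ) / h = (1 / (a : ℚ)) / 2) :
    h = 2 * a := by
  have ha' : (a : ℚ) ≠ 0 := by exact_mod_cast ha.ne'
  have hh' : (h : ℚ) ≠ 0 := by exact_mod_cast hh.ne'
  field_simp at e
  have : (h : ℚ) = 2 * a := by linarith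
  exact_mod_cast this

theorem eq_of_inv_num (h n : ℕ) (hh : 0 < h) (hn : 0 < n) (e : (1 : ℚ) / h = 1 / (n : ℚ)) :
    h = n := eq_of_inv_eq h n hh hn e

theorem core3 (b c h : ℕ) (hb : b = 2 ∨ b = 3) (hc : 2 ≤ c) (hh : 0 < h)
    (heq : (1 : ℚ) / 2 + 1 / b + 1 / c = 1 + 2 * (1 / h)) :
    h = 2 * c ∨ h = 2 * b ∨ (b = 3 ∧ c = 3 ∧ h = 12) ∨ (b = 3 ∧ c = 4 ∧ h = 24) ∨
      (b = 3 ∧ c = 5 ∧ h = 60) := by
  have hc' : (0 : ℚ) < c := by exact_mod_cast (show 0 < c by omega)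
  have hh' : (0 : ℚ) < h := by exact_mod_cast hh
  have hη : (0 : ℚ) < 1 / h := by positivity
  rcases hb with rfl | rfl
  · left
    have e : (1 : ℚ) / h = (1 / (c : ℚ)) / 2 := by
      push_cast at heq
      linarith
    exact eq_two_mul c h (by omega) hh e
  · push_cast at heq
    have h6 : (1 : ℚ) / (6 : ℕ) < 1 / c := by push_cast; linarith
    have hc6 := lt_of_inv_lt c 6 (by omega) (by norm_num) h6
    have key : ∀ n : ℕ, 0 < n → (1 : ℚ) / h = 1 / (n : ℚ) → h = n :=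
      fun n hn e => eq_of_inv_eq h n hh hn e
    interval_cases c
    · right; left
      exact key 6 (by norm_num) (by push_cast at heq ⊢; linarith)
    · right; right; left
      exact ⟨rfl, rfl, key 12 (by norm_num) (by push_cast at heq ⊢; linarith)⟩
    · right; right; right; left
      exact ⟨rfl, rfl, key 24 (by norm_num) (by push_cast at heq ⊢; linarith)⟩
    · right; right; right; right
      exact ⟨rfl, rfl, key 60 (by norm_num) (by push_cast at heq ⊢; linarith)⟩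

theorem three_aux (b c h : ℕ) (hb : 2 ≤ b) (hc : 2 ≤ c) (hh : 0 < h)
    (heq : (1 : ℚ) / 2 + 1 / b + 1 / c = 1 + 2 * (1 / h)) :
    (h = 2 * b ∨ h = 2 * c) ∨ (h = 12 ∧ b = 3 ∧ c = 3) ∨
      (h = 24 ∧ ((b = 3 ∧ c = 4) ∨ (b = 4 ∧ c = 3))) ∨
      (h = 60 ∧ ((b = 3 ∧ c = 5) ∨ (b = 5 ∧ c = 3))) := by
  have hh' : (0 : ℚ) < h := by exact_mod_cast hh
  have hη : (0 : ℚ) < 1 / h := by positivity
  have fourth : ∀ a : ℕ, 4 ≤ a → (1 : ℚ) / a ≤ 1 / 4 := by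
    intro a ha
    have : (4 : ℚ) ≤ a := by exact_mod_cast ha
    exact one_div_le_one_div_of_le (by norm_num) this
  have hsm : b ≤ 3 ∨ c ≤ 3 := by
    by_contra hcon
    push Not at hcon
    have := fourth b (by omega)
    have := fourth c (by omega)
    linarith
  rcases hsm with hs | hs
  · rcases core3 b c h (by omega) hc hh heq with h1 | h1 | ⟨h1, h2, h3⟩ | ⟨h1, h2, h3⟩ |
      ⟨h1, h2, h3⟩
    · exact Or.inl (Or.inr h1)
    · exact Or.inl (Or.inl h1)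
    · exact Or.inr (Or.inl ⟨h3, h1, h2⟩)
    · exact Or.inr (Or.inr (Or.inl ⟨h3, Or.inl ⟨h1, h2⟩⟩))
    · exact Or.inr (Or.inr (Or.inr ⟨h3, Or.inl ⟨h1, h2⟩⟩))
  · rcases core3 c b h (by omega) hb hh (by linarith) with h1 | h1 | ⟨h1, h2, h3⟩ |
      ⟨h1, h2, h3⟩ | ⟨h1, h2, h3⟩
    · exact Or.inl (Or.inl h1)
    · exact Or.inl (Or.inr h1)
    · exact Or.inr (Or.inl ⟨h3, h2, h1⟩)
    · exact Or.inr (Or.inr (Or.inl ⟨h3, Or.inr ⟨h2, h1⟩⟩))
    · exact Or.inr (Or.inr (Or.inr ⟨h3, Or.inr ⟨h2, h1⟩⟩))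

theorem three_recip (a₁ a₂ a₃ h : ℕ) (h1 : 2 ≤ a₁) (h2 : 2 ≤ a₂) (h3 : 2 ≤ a₃) (hh : 0 < h)
    (heq : (1 : ℚ) / a₁ + 1 / a₂ + 1 / a₃ = 1 + 2 * (1 / h)) :
    (h = 2 * a₁ ∨ h = 2 * a₂ ∨ h = 2 * a₃) ∨
    (h = 12 ∧ ((a₁ = 3 ∧ a₂ = 3) ∨ (a₁ = 3 ∧ a₃ = 3) ∨ (a₂ = 3 ∧ a₃ = 3))) ∨
    (h = 24 ∧ (a₁ = 3 ∨ a₂ = 3 ∨ a₃ = 3) ∧ (a₁ = 2 ∨ a₁ = 3 ∨ a₁ = 4) ∧
      (a₂ = 2 ∨ a₂ = 3 ∨ a₂ = 4) ∧ (a₃ = 2 ∨ a₃ = 3 ∨ a₃ = 4)) ∨
    (h = 60 ∧ (a₁ = 2 ∨ a₁ = 3 ∨ a₁ = 5) ∧ (a₂ = 2 ∨ a₂ = 3 ∨ a₂ = 5) ∧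
      (a₃ = 2 ∨ a₃ = 3 ∨ a₃ = 5)) := by
  have hh' : (0 : ℚ) < h := by exact_mod_cast hh
  have hη : (0 : ℚ) < 1 / h := by positivity
  have third : ∀ a : ℕ, 3 ≤ a → (1 : ℚ) / a ≤ 1 / 3 := by
    intro a ha
    have : (3 : ℚ) ≤ a := by exact_mod_cast ha
    exact one_div_le_one_div_of_le (by norm_num) this
  have hmin : a₁ = 2 ∨ a₂ = 2 ∨ a₃ = 2 := by
    by_contra hcon
    push Not at hcon
    have := third a₁ (by omega)
    have := third a₂ (by omega)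
    have := third a₃ (by omega)
    linarith
  rcases hmin with rfl | rfl | rfl
  · rcases three_aux a₂ a₃ h h2 h3 hh (by push_cast at heq ⊢; linarith) with (e | e) |
      ⟨e, rfl, rfl⟩ | ⟨e, (⟨rfl, rfl⟩ | ⟨rfl, rfl⟩)⟩ | ⟨e, (⟨rfl, rfl⟩ | ⟨rfl, rfl⟩)⟩
    · exact Or.inl (Or.inr (Or.inl e))
    · exact Or.inl (Or.inr (Or.inr e))
    · exact Or.inr (Or.inl ⟨e, Or.inr (Or.inr ⟨rfl, rfl⟩)⟩)
    · exact Or.inr (Or.inr (Or.inl ⟨e, by norm_num⟩))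
    · exact Or.inr (Or.inr (Or.inl ⟨e, by norm_num⟩))
    · exact Or.inr (Or.inr (Or.inr ⟨e, by norm_num⟩))
    · exact Or.inr (Or.inr (Or.inr ⟨e, by norm_num⟩))
  · rcases three_aux a₁ a₃ h h1 h3 hh (by push_cast at heq ⊢; linarith) with (e | e) |
      ⟨e, rfl, rfl⟩ | ⟨e, (⟨rfl, rfl⟩ | ⟨rfl, rfl⟩)⟩ | ⟨e, (⟨rfl, rfl⟩ | ⟨rfl, rfl⟩)⟩
    · exact Or.inl (Or.inl e)
    · exact Or.inl (Or.inr (Or.inr e))
    · exact Or.inr (Or.inl ⟨e, Or.inr (Or.inl ⟨rfl, rfl⟩)⟩)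
    · exact Or.inr (Or.inr (Or.inl ⟨e, by norm_num⟩))
    · exact Or.inr (Or.inr (Or.inl ⟨e, by norm_num⟩))
    · exact Or.inr (Or.inr (Or.inr ⟨e, by norm_num⟩))
    · exact Or.inr (Or.inr (Or.inr ⟨e, by norm_num⟩))
  · rcases three_aux a₁ a₂ h h1 h2 hh (by push_cast at heq ⊢; linarith) with (e | e) |
      ⟨e, rfl, rfl⟩ | ⟨e, (⟨rfl, rfl⟩ | ⟨rfl, rfl⟩)⟩ | ⟨e, (⟨rfl, rfl⟩ | ⟨rfl, rfl⟩)⟩
    · exact Or.inl (Or.inl e)
    · exact Or.inl (Or.inr (Or.inl e))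
    · exact Or.inr (Or.inl ⟨e, Or.inl ⟨rfl, rfl⟩⟩)
    · exact Or.inr (Or.inr (Or.inl ⟨e, by norm_num⟩))
    · exact Or.inr (Or.inr (Or.inl ⟨e, by norm_num⟩))
    · exact Or.inr (Or.inr (Or.inr ⟨e, by norm_num⟩))
    · exact Or.inr (Or.inr (Or.inr ⟨e, by norm_num⟩))

theorem field_arith (q k t l : ℤ) (hk : 2 ≤ k) (hkq : k ≤ q - 1) (ht : 1 ≤ t)
    (hl : 2 ≤ l) (E : 2 * l + (1 + t * q) * l * q = (1 + t * q) * (2 * l + k * q)) :
    (t = 1 ∧ (k = q - 1 ∨ 2 * k = q - 1)) ∨ (q = 3 ∧ k = 2 ∧ l = 5 ∧ t = 3) := by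
  obtain ⟨D, hD⟩ : ∃ D : ℤ, D = 2 * l + k * q - l * q := ⟨_, rfl⟩
  have hq3 : 3 ≤ q := by linarith
  have h1 : 2 * l = (1 + t * q) * D := by rw [hD]; linear_combination E
  have hT : 0 < 1 + t * q := by nlinarith
  have hDpos : 0 < D := by
    by_contra hneg
    push Not at hneg
    have : (1 + t * q) * D ≤ 0 := mul_nonpos_of_nonneg_of_nonpos hT.le hneg
    linarith
  have h2 : D * (1 + t * q - 2 * t) = 2 * k := by
    have hq0 : q ≠ 0 := by linarith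
    have : q * (D * (1 + t * q - 2 * t)) = q * (2 * k) := by
      linear_combination (2 - q) * h1 + 2 * hD
    exact mul_left_cancel₀ hq0 this
  have h3 : D * (q - 1) ≤ 2 * k := by
    have : 0 ≤ (t - 1) * (q - 2) := mul_nonneg (by linarith) (by linarith)
    nlinarith
  have h4 : D ≤ 2 := by
    by_contra hcon
    push Not at hcon
    have : 3 * (q - 1) ≤ D * (q - 1) := by nlinarith
    linarith
  interval_cases D
  · -- D = 1
    have h5 : t * (q - 2) ≤ 2 * q - 3 := by linarith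
    have ht3 : t ≤ 3 := by
      by_contra hcon
      push Not at hcon
      have : 4 * (q - 2) ≤ t * (q - 2) := by nlinarith
      linarith
    interval_cases t
    · left; exact ⟨rfl, Or.inr (by linarith)⟩
    · exfalso; omega
    · right
      have hq : q = 3 := by linarith
      subst hq
      refine ⟨rfl, by linarith, by linarith, rfl⟩
  · -- D = 2
    have h5 : (t - 1) * (q - 2) ≤ 0 := by nlinarith
    have ht1 : t = 1 := by
      by_contra hcon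
      have : 2 ≤ t := by omega
      nlinarith
    subst ht1
    left; exact ⟨rfl, Or.inl (by linarith)⟩

theorem field_arith_q (q' k t l h : ℕ) (hq2 : 2 ≤ q') (hk2 : 2 ≤ k) (hkd : k ∣ q' - 1)
    (ht1 : 1 ≤ t) (hl2 : 2 ≤ l) (hh' : h = k * q' * (1 + t * q'))
    (heq : (1 : ℚ) / h = 1 / ((k : ℚ) * q') + (1 / (l : ℚ)) / 2 - (1 / (k : ℚ)) / 2) :
    (t = 1 ∧ 3 ≤ q' ∧ (k = q' - 1 ∨ 2 * k = q' - 1)) ∨ (q' = 3 ∧ k = 2 ∧ l = 5 ∧ t = 3) := by
  have hkq : k ≤ q' - 1 := Nat.le_of_dvd (by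
    rcases Nat.eq_zero_or_pos (q' - 1) with h0 | h0
    · rw [h0] at hkd
      omega
    · exact h0) hkd
  have hq3 : 3 ≤ q' := by omega
  have hk0 : (k : ℚ) ≠ 0 := by exact_mod_cast (show k ≠ 0 by omega)
  have hq0 : (q' : ℚ) ≠ 0 := by exact_mod_cast (show q' ≠ 0 by omega)
  have hl0 : (l : ℚ) ≠ 0 := by exact_mod_cast (show l ≠ 0 by omega)
  have hT0 : (1 + (t : ℚ) * q') ≠ 0 := by positivity
  have EQ : (2 * (l : ℚ) + (1 + t * q') * l * q' = (1 + t * q') * (2 * l + k * q')) := by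
    rw [hh'] at heq
    push_cast at heq
    field_simp at heq
    linear_combination heq
  have EZ : (2 * (l : ℤ) + (1 + t * q') * l * q' = (1 + t * q') * (2 * l + k * q')) := by
    exact_mod_cast EQ
  have := field_arith (q' : ℤ) k t l (by exact_mod_cast hk2) (by omega) (by exact_mod_cast ht1)
    (by exact_mod_cast hl2) EZ
  omega

end Num

section Main

variable {F : Type*} [Field F]

/-- The possible shapes of a subgroup of `SL₂` containing the centre. -/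
def Outcome (L : Subgroup (S2 F)) : Prop :=
  L = Subgroup.center (S2 F) ∨
  (∃ x ∈ L, tr x ^ 2 ≠ 4 ∧ ∀ g ∈ L, g * x = x * g) ∨
  (∃ x ∈ L, tr x ^ 2 ≠ 4 ∧ Nat.card L = 2 * cA L x) ∨
  (∃ g : S2 F, ∀ ℓ ∈ L, (g * ℓ * g⁻¹) 1 0 = 0) ∨
  (Nat.card L = 12 * Nat.card (Subgroup.center (S2 F)) ∧
    ∃ x ∈ L, ¬ IsSc x ∧ cA L x = 3 * Nat.card (Subgroup.center (S2 F)) ∧
      cN L x = 3 * Nat.card (Subgroup.center (S2 F))) ∨
  (Nat.card L = 24 * Nat.card (Subgroup.center (S2 F)) ∧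
    (∃ x ∈ L, ¬ IsSc x ∧ cA L x = 3 * Nat.card (Subgroup.center (S2 F))) ∧
    ∀ y ∈ L, ¬ IsSc y →
      (cA L y = 2 * Nat.card (Subgroup.center (S2 F)) ∨
        cA L y = 3 * Nat.card (Subgroup.center (S2 F)) ∨
        cA L y = 4 * Nat.card (Subgroup.center (S2 F))) ∧ cN L y = 2 * cA L y) ∨
  (Nat.card L = 60 * Nat.card (Subgroup.center (S2 F)) ∧
    ∀ y ∈ L, ¬ IsSc y →
      (cA L y = 2 * Nat.card (Subgroup.center (S2 F)) ∨
        cA L y = 3 * Nat.card (Subgroup.center (S2 F)) ∨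
        cA L y = 5 * Nat.card (Subgroup.center (S2 F))) ∧ cN L y = 2 * cA L y) ∨
  (∃ x₀ ∈ L, ¬ IsSc x₀ ∧ tr x₀ ^ 2 = 4 ∧ ∃ q' k : ℕ, 3 ≤ q' ∧
    cA L x₀ = Nat.card (Subgroup.center (S2 F)) * q' ∧
    cN L x₀ = Nat.card (Subgroup.center (S2 F)) * k * q' ∧
    Nat.card L = Nat.card (Subgroup.center (S2 F)) * k * q' * (1 + q') ∧
    (k = q' - 1 ∨ 2 * k = q' - 1))

theorem center_le_cenL (L : Subgroup (S2 F)) (hZ : Subgroup.center (S2 F) ≤ L) (y : S2 F) :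
    Subgroup.center (S2 F) ≤ cenL L y := by
  intro ζ hζ
  rw [mem_cenL]
  exact ⟨hZ hζ, (Subgroup.mem_center_iff.1 hζ y).symm⟩

theorem card_Z_lt [Finite F] (L : Subgroup (S2 F)) (hZ : Subgroup.center (S2 F) ≤ L) (y : S2 F)
    (hy : y ∈ L) (hys : ¬ IsSc y) : Nat.card (Subgroup.center (S2 F)) < cA L y := by
  have hle := center_le_cenL L hZ y
  by_contra hcon
  push Not at hcon
  have := Subgroup.eq_of_le_of_card_ge hle hcon
  apply hys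
  rw [isSc_iff_center, this, mem_cenL]
  exact ⟨hy, rfl⟩

theorem exists_a [Finite F] (L : Subgroup (S2 F)) (hZ : Subgroup.center (S2 F) ≤ L) (y : S2 F)
    (hy : y ∈ L) (hys : ¬ IsSc y) :
    ∃ a : ℕ, 2 ≤ a ∧ cA L y = Nat.card (Subgroup.center (S2 F)) * a := by
  obtain ⟨a, ha⟩ := Subgroup.card_dvd_of_le (center_le_cenL L hZ y)
  refine ⟨a, ?_, ha⟩
  have hlt := card_Z_lt L hZ y hy hys
  have hz : 0 < Nat.card (Subgroup.center (S2 F)) := Nat.card_pos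
  by_contra hcon
  push Not at hcon
  have h1 : cA L y ≤ Nat.card (Subgroup.center (S2 F)) := by
    change Nat.card (cenL L y) ≤ _
    rw [ha]
    nlinarith
  omega

theorem wt_formula (L : Subgroup (S2 F)) (y : S2 F) (a e : ℕ) (ha : 0 < a) (he : 0 < e)
    (hz : 0 < Nat.card (Subgroup.center (S2 F)))
    (hA : cA L y = Nat.card (Subgroup.center (S2 F)) * a) (hN : cN L y = e * cA L y) :
    wt L (Subgroup.center (S2 F)) y = (1 - 1 / (a : ℚ)) / e := by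
  unfold wt
  rw [hN, hA]
  push_cast
  have h1 : (Nat.card (Subgroup.center (S2 F)) : ℚ) ≠ 0 := by exact_mod_cast hz.ne'
  have h2 : (a : ℚ) ≠ 0 := by exact_mod_cast ha.ne'
  have h3 : (e : ℚ) ≠ 0 := by exact_mod_cast he.ne'
  field_simp

theorem bd_formula (L : Subgroup (S2 F)) (h : ℕ) (hh : 0 < h)
    (hz : 0 < Nat.card (Subgroup.center (S2 F)))
    (hL : Nat.card L = Nat.card (Subgroup.center (S2 F)) * h) :
    bd L (Subgroup.center (S2 F)) = 1 - 1 / (h : ℚ) := by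
  unfold bd
  rw [hL]
  push_cast
  have h1 : (Nat.card (Subgroup.center (S2 F)) : ℚ) ≠ 0 := by exact_mod_cast hz.ne'
  have h2 : (h : ℚ) ≠ 0 := by exact_mod_cast hh.ne'
  field_simp

theorem ss_data [Finite F] (L : Subgroup (S2 F)) (hZ : Subgroup.center (S2 F) ≤ L) (y : S2 F)
    (hy : y ∈ L) (hss : tr y ^ 2 ≠ 4) :
    ∃ a e : ℕ, 2 ≤ a ∧ (e = 1 ∨ e = 2) ∧ cA L y = Nat.card (Subgroup.center (S2 F)) * a ∧
      cN L y = e * cA L y ∧ wt L (Subgroup.center (S2 F)) y = (1 - 1 / (a : ℚ)) / e ∧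
      (1 : ℚ) / 4 ≤ wt L (Subgroup.center (S2 F)) y := by
  have hys : ¬ IsSc y := not_isSc_of_tr y hss
  obtain ⟨a, ha2, hA⟩ := exists_a L hZ y hy hys
  have hz : 0 < Nat.card (Subgroup.center (S2 F)) := Nat.card_pos
  obtain ⟨hu0, hu2⟩ := inv_pos_le a ha2
  rcases cN_ss L y hss with ⟨hN, -⟩ | ⟨hN, -⟩
  · have hw := wt_formula L y a 1 (by omega) one_pos hz hA (by rw [hN, one_mul])
    refine ⟨a, 1, ha2, Or.inl rfl, hA, by rw [hN, one_mul], hw, ?_⟩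
    rw [hw]
    push_cast
    linarith
  · have hw := wt_formula L y a 2 (by omega) two_pos hz hA hN
    refine ⟨a, 2, ha2, Or.inr rfl, hA, hN, hw, ?_⟩
    rw [hw]
    push_cast
    linarith

theorem eqv_three [Finite F] (L : Subgroup (S2 F)) (x y : S2 F)
    (hxA : cA L x = Nat.card (Subgroup.center (S2 F)) * 3)
    (hyA : cA L y = Nat.card (Subgroup.center (S2 F)) * 3) : Eqv L x y := by
  haveI : Fact (Nat.Prime 3) := ⟨Nat.prime_three⟩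
  have key : ∀ w : S2 F, cA L w = Nat.card (Subgroup.center (S2 F)) * 3 →
      ∃ c ∈ L, c ≠ 1 ∧ c ^ 3 = 1 ∧ c * w = w * c := by
    intro w hw
    have h3 : 3 ∣ Nat.card (cenL L w) := by
      change 3 ∣ cA L w
      rw [hw]
      exact dvd_mul_left 3 _
    obtain ⟨c, hc⟩ := exists_prime_orderOf_dvd_card' 3 h3
    have hcm := mem_cenL.1 c.2
    refine ⟨(c : S2 F), hcm.1, ?_, ?_, hcm.2⟩
    · intro h1
      have : c = 1 := Subtype.ext h1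
      rw [this, orderOf_one] at hc
      omega
    · have := pow_orderOf_eq_one c
      rw [hc] at this
      have h2 := congrArg Subtype.val this
      rw [Subgroup.coe_pow] at h2
      exact h2
  obtain ⟨c, hcL, hc1, hc3, hcx⟩ := key x hxA
  obtain ⟨c', hcL', hc1', hc3', hcy⟩ := key y hyA
  exact eqv_relts 3 (Or.inl (by norm_num)) L x y c c' hcL hcL' hc1 hc1' hc3 hc3' hcx hcy

end Main

end Cfsg.Agent.Lib.Helper19.Dk
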