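import Mathlib
import Cfsg.Agent.Lib.Helper19.DkD

set_option autoImplicit false

namespace Cfsg.Agent.Lib.Helper19.Dk

open Matrix Cfsg.Agent.S0809

section Main

variable {F : Type*} [Field F]

set_option maxHeartbeats 1600000 in
theorem main_cases [Finite F] (p : ℕ) [Fact p.Prime] [CharP F p] (L : Subgroup (S2 F))
    (hZ : Subgroup.center (S2 F) ≤ L) : Outcome L := by
  classical
  haveI : Fintype (S2 F) := Fintype.ofFinite _
  have D := ctd L hZ
  have hz : 0 < Nat.card (Subgroup.center (S2 F)) := Nat.card_pos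
  obtain ⟨h, hh⟩ := Subgroup.card_dvd_of_le hZ
  have hLpos : 0 < Nat.card L := Nat.card_pos
  have hhpos : 0 < h := by
    rcases Nat.eq_zero_or_pos h with h0 | h0
    · rw [h0, mul_zero] at hh; omega
    · exact h0
  have hbd := bd_formula L h hhpos hz hh
  have hη : (0 : ℚ) < 1 / (h : ℚ) := by positivity
  unfold Outcome
  by_cases hLZ : L = Subgroup.center (S2 F)
  · left; exact hLZ
  right
  have hsc_iff : ∀ y : S2 F, y ∉ Subgroup.center (S2 F) ↔ ¬ IsSc y :=
    fun y => by rw [isSc_iff_center]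
  obtain ⟨y₀, hy₀L, hy₀Z⟩ : ∃ y ∈ L, y ∉ Subgroup.center (S2 F) := by
    by_contra hcon
    push Not at hcon
    exact hLZ (le_antisymm hcon hZ)
  by_cases hU : ∃ x₀ ∈ L, ¬ IsSc x₀ ∧ tr x₀ ^ 2 = 4
  · obtain ⟨x₀, hx₀L, hx₀s, hx₀4⟩ := hU
    obtain ⟨q', k, t, hq2, hk1, hkd, hcA, hcN, hcard, hs, ht0⟩ := U_gen L hZ x₀ hx₀L hx₀s hx₀4
    by_cases ht : t = 0
    · right; right; left; exact ht0 ht
    have ht1 : 1 ≤ t := Nat.one_le_iff_ne_zero.2 ht
    have hx₀Z : x₀ ∉ Subgroup.center (S2 F) := (hsc_iff x₀).2 hx₀s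
    have hh' : h = k * q' * (1 + t * q') := by
      have : Nat.card (Subgroup.center (S2 F)) * h
          = Nat.card (Subgroup.center (S2 F)) * (k * q' * (1 + t * q')) := by
        rw [← hh, hcard]; ring
      exact Nat.eq_of_mul_eq_mul_left hz this
    have hw₀ : wt L (Subgroup.center (S2 F)) x₀ = (1 - 1 / (q' : ℚ)) / k :=
      wt_formula L x₀ q' k (by omega) (by omega) hz hcA (by rw [hcN, hcA]; ring)
    have hnew_ss : ∀ y ∈ L, y ∉ Subgroup.center (S2 F) → ¬ Eqv L x₀ y → tr y ^ 2 ≠ 4 := by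
      intro y hy hyZ hne h4
      exact hne (eqv_unip p L hZ x₀ y hx₀L hy hx₀s ((hsc_iff y).1 hyZ) hx₀4 h4)
    obtain ⟨hG₁, hS₁, hle₁⟩ := add_elt D ∅ (good_empty L _) 0 Finset.sum_empty x₀ hx₀L hx₀Z
      (by intro x hx; simp at hx)
    obtain ⟨hv0, hv2⟩ := inv_pos_le q' hq2
    have hquart : ∀ y ∈ L, y ∉ Subgroup.center (S2 F) → ¬ Eqv L x₀ y →
        (1 : ℚ) / 4 ≤ wt L (Subgroup.center (S2 F)) y := by
      intro y hy hyZ hne
      obtain ⟨_, _, _, _, _, _, _, hq⟩ := ss_data L hZ y hy (hnew_ss y hy hyZ hne)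
      exact hq
    rcases Nat.lt_or_ge k 2 with hk | hk
    · -- k = 1
      have hk1' : k = 1 := by omega
      subst hk1'
      have hw₀' : wt L (Subgroup.center (S2 F)) x₀ = 1 - 1 / (q' : ℚ) := by
        rw [hw₀]; simp
      have hqh : q' < h := by
        rw [hh']
        have : 1 ≤ t * q' := Nat.mul_pos ht1 (by omega)
        nlinarith
      have hηv := inv_lt_of_lt q' h (by omega) hqh
      have hlt₁ : wt L (Subgroup.center (S2 F)) x₀ + 0 < bd L (Subgroup.center (S2 F)) := by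
        rw [hw₀', hbd]; linarith
      obtain ⟨x₁, hx₁L, hx₁Z, hnew₁, hG₂, hS₂, hle₂⟩ := step D _ hG₁ _ hS₁ hlt₁
      have hne₁ : ¬ Eqv L x₀ x₁ := hnew₁ x₀ (mem_ins_self _ _)
      have hx₁ss := hnew_ss x₁ hx₁L hx₁Z hne₁
      obtain ⟨a₁, e₁, ha₁, he₁, hA₁, hN₁, hw₁, hq₁⟩ := ss_data L hZ x₁ hx₁L hx₁ss
      obtain ⟨hu0, hu2⟩ := inv_pos_le a₁ ha₁
      rcases he₁ with rfl | rfl
      · exfalso
        rw [hw₁, hw₀', hbd] at hle₂
        push_cast at hle₂
        linarith
      · have hle₂' := hle₂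
        rw [hw₁, hw₀', hbd] at hle₂'
        push_cast at hle₂'
        have hq4 : q' < 4 := lt_of_inv_lt q' 4 (by omega) (by norm_num) (by push_cast; linarith)
        have heq := fin_step D _ hG₂ _ hS₂ (1 / 4)
          (fun y hy hyZ hnew => hquart y hy hyZ
            (hnew x₀ (mem_ins_of_mem (mem_ins_self _ _))))
          (by rw [hbd, hw₁, hw₀']; push_cast; linarith)
        rw [hw₁, hw₀', hbd] at heq
        push_cast at heq
        have hq23 : q' = 2 ∨ q' = 3 := by omega
        rcases hq23 with rfl | rfl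
        · -- dihedral
          right; left
          refine ⟨x₁, hx₁L, hx₁ss, ?_⟩
          have e : (1 : ℚ) / h = (1 / (a₁ : ℚ)) / 2 := by push_cast at heq; linarith
          have := eq_two_mul a₁ h (by omega) hhpos e
          rw [hh, hA₁, this]; ring
        · -- A4
          right; right; right; left
          have h3 : a₁ < 3 := lt_of_inv_lt a₁ 3 (by omega) (by norm_num)
            (by push_cast at heq ⊢; linarith)
          have ha2 : a₁ = 2 := by omega
          subst ha2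
          have e : (1 : ℚ) / h = 1 / ((12 : ℕ) : ℚ) := by push_cast at heq ⊢; linarith
          have h12 := eq_of_inv_eq h 12 hhpos (by norm_num) e
          refine ⟨by rw [hh, h12]; ring, x₀, hx₀L, hx₀s, by rw [hcA]; ring, by rw [hcN]; ring⟩
    · -- k ≥ 2
      obtain ⟨s, hsL, hsss, hsA⟩ := hs hk
      have hss : ¬ IsSc s := not_isSc_of_tr s hsss
      have hsZ := (hsc_iff s).2 hss
      have hne_s : ¬ Eqv L x₀ s := not_eqv_un_ss L x₀ s hx₀s hx₀4 hsss
      obtain ⟨as, es, has2, hes, hAs, hNs, hws, hqs⟩ := ss_data L hZ s hsL hsss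
      have has : as = k := Nat.eq_of_mul_eq_mul_left hz (hAs.symm.trans hsA)
      subst has
      obtain ⟨hG₂, hS₂, hle₂⟩ := add_elt D _ hG₁ _ hS₁ s hsL hsZ (by
        intro x hx
        rw [mem_ins1] at hx
        rw [hx]
        exact hne_s)
      obtain ⟨hκ0, hκ2⟩ := inv_pos_le as hk
      have hk0 : (0 : ℚ) < as := by exact_mod_cast (show 0 < as by omega)
      have hq0 : (0 : ℚ) < q' := by exact_mod_cast (show 0 < q' by omega)
      have hq2' : (2 : ℚ) ≤ q' := by exact_mod_cast hq2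
      obtain ⟨ρ, hρ⟩ : ∃ ρ : ℚ, ρ = 1 / ((as : ℚ) * q') := ⟨_, rfl⟩
      have hw₀' : wt L (Subgroup.center (S2 F)) x₀ = 1 / (as : ℚ) - ρ := by
        rw [hw₀, hρ]; field_simp
      have hρ0 : 0 < ρ := by rw [hρ]; positivity
      have hρ1 : ρ ≤ (1 / (as : ℚ)) / 2 := by
        rw [hρ, div_div]
        apply one_div_le_one_div_of_le (by positivity)
        nlinarith
      have hT : (3 : ℚ) ≤ 1 + (t : ℚ) * q' := by
        have : 3 ≤ 1 + t * q' := by nlinarith
        exact_mod_cast this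
      have hηρ : (1 : ℚ) / h * (1 + (t : ℚ) * q') = ρ := by
        rw [hh', hρ]; push_cast; field_simp
      have hη3 : (1 : ℚ) / h ≤ ρ / 3 := by nlinarith
      rcases hes with rfl | rfl
      · -- e_s = 1
        have hlt : wt L (Subgroup.center (S2 F)) s + (wt L (Subgroup.center (S2 F)) x₀ + 0)
            < bd L (Subgroup.center (S2 F)) := by
          rw [hws, hw₀', hbd]; push_cast; linarith
        obtain ⟨x₂, hx₂L, hx₂Z, hnew₂, hG₃, hS₃, hle₃⟩ := step D _ hG₂ _ hS₂ hlt
        have hne₂ : ¬ Eqv L x₀ x₂ :=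
          hnew₂ x₀ (mem_ins_of_mem (mem_ins_self _ _))
        have hq₂ := hquart x₂ hx₂L hx₂Z hne₂
        exfalso
        rw [hws, hw₀', hbd] at hle₃
        push_cast at hle₃
        linarith
      · -- e_s = 2
        have hlt : wt L (Subgroup.center (S2 F)) s + (wt L (Subgroup.center (S2 F)) x₀ + 0)
            < bd L (Subgroup.center (S2 F)) := by
          rw [hws, hw₀', hbd]; push_cast; linarith
        obtain ⟨x₂, hx₂L, hx₂Z, hnew₂, hG₃, hS₃, hle₃⟩ := step D _ hG₂ _ hS₂ hlt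
        have hne₂ : ¬ Eqv L x₀ x₂ :=
          hnew₂ x₀ (mem_ins_of_mem (mem_ins_self _ _))
        have hx₂ss := hnew_ss x₂ hx₂L hx₂Z hne₂
        obtain ⟨l, e₂, hl2, he₂, hA₂, hN₂, hw₂, hq₂⟩ := ss_data L hZ x₂ hx₂L hx₂ss
        obtain ⟨hl0', hl2'⟩ := inv_pos_le l hl2
        rcases he₂ with rfl | rfl
        · exfalso
          rw [hw₂, hws, hw₀', hbd] at hle₃
          push_cast at hle₃
          linarith
        · have heq := fin_step D _ hG₃ _ hS₃ (1 / 4)
            (fun y hy hyZ hnew => hquart y hy hyZ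
              (hnew x₀ (mem_ins_of_mem (mem_ins_of_mem
                (mem_ins_self _ _)))))
            (by rw [hbd, hw₂, hws, hw₀']; push_cast; linarith)
          have hcomp := complete' D _ hG₃ _ hS₃ heq
          rw [hw₂, hws, hw₀', hbd] at heq
          push_cast at heq
          have heq' : (1 : ℚ) / h = 1 / ((as : ℚ) * q') + (1 / (l : ℚ)) / 2
              - (1 / (as : ℚ)) / 2 := by
            rw [← hρ]; linarith
          rcases field_arith_q q' as t l h hq2 hk hkd ht1 hl2 hh' heq' with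
            ⟨rfl, h3, hor⟩ | ⟨rfl, rfl, rfl, rfl⟩
          · right; right; right; right; right; right
            exact ⟨x₀, hx₀L, hx₀s, hx₀4, q', as, h3, hcA, hcN, by rw [hcard]; ring, hor⟩
          · right; right; right; right; right; left
            refine ⟨by rw [hcard]; ring, ?_⟩
            intro y hy hys
            have hyZ := (hsc_iff y).2 hys
            obtain ⟨x, hx, hxy⟩ := hcomp y hy hyZ
            rw [mem_ins3] at hx
            rcases hx with rfl | rfl | rfl
            · rw [cA_eqv D hx₂Z hyZ hxy, cN_eqv D hx₂Z hyZ hxy]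
              exact ⟨Or.inr (Or.inr (by rw [hA₂]; ring)), hN₂⟩
            · rw [cA_eqv D hsZ hyZ hxy, cN_eqv D hsZ hyZ hxy]
              exact ⟨Or.inl (by rw [hAs]; ring), hNs⟩
            · rw [cA_eqv D hx₀Z hyZ hxy, cN_eqv D hx₀Z hyZ hxy]
              exact ⟨Or.inr (Or.inl (by rw [hcA]; ring)), by rw [hcN, hcA]; ring⟩
  · -- p' branch
    push Not at hU
    have hall_ss : ∀ y ∈ L, y ∉ Subgroup.center (S2 F) → tr y ^ 2 ≠ 4 :=
      fun y hy hyZ => hU y hy ((hsc_iff y).1 hyZ)
    have hquart : ∀ y ∈ L, y ∉ Subgroup.center (S2 F) →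
        (1 : ℚ) / 4 ≤ wt L (Subgroup.center (S2 F)) y := by
      intro y hy hyZ
      obtain ⟨_, _, _, _, _, _, _, hq⟩ := ss_data L hZ y hy (hall_ss y hy hyZ)
      exact hq
    by_cases hA : ∃ x ∈ L, x ∉ Subgroup.center (S2 F) ∧ cN L x = cA L x
    · obtain ⟨x₁, hx₁L, hx₁Z, hN₁'⟩ := hA
      obtain ⟨a₁, ha₁, hA₁⟩ := exists_a L hZ x₁ hx₁L ((hsc_iff x₁).1 hx₁Z)
      have hw₁ := wt_formula L x₁ a₁ 1 (by omega) one_pos hz hA₁ (by rw [hN₁', one_mul])
      have hw₁' : wt L (Subgroup.center (S2 F)) x₁ = 1 - 1 / (a₁ : ℚ) := by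
        rw [hw₁]; simp
      have hle : a₁ ≤ h := by
        have h1 : cA L x₁ ≤ Nat.card L :=
          Subgroup.card_le_of_le (show cenL L x₁ ≤ L from inf_le_left)
        rw [hA₁, hh] at h1
        exact Nat.le_of_mul_le_mul_left h1 hz
      obtain ⟨hu0, hu2⟩ := inv_pos_le a₁ ha₁
      rcases Nat.eq_or_lt_of_le hle with heq | hlt
      · left
        refine ⟨x₁, hx₁L, hall_ss x₁ hx₁L hx₁Z, ?_⟩
        have hcl : cenL L x₁ = L := Subgroup.eq_of_le_of_card_ge inf_le_left (by
          change Nat.card L ≤ cA L x₁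
          rw [hh, hA₁, heq])
        intro g hg
        rw [← hcl] at hg
        exact (mem_cenL.1 hg).2
      · obtain ⟨hG₁, hS₁, hle₁⟩ := add_elt D ∅ (good_empty L _) 0 Finset.sum_empty x₁ hx₁L hx₁Z
          (by intro x hx; simp at hx)
        have hηu := inv_lt_of_lt a₁ h (by omega) hlt
        have hlt₁ : wt L (Subgroup.center (S2 F)) x₁ + 0 < bd L (Subgroup.center (S2 F)) := by
          rw [hw₁', hbd]; linarith
        obtain ⟨x₂, hx₂L, hx₂Z, hnew₂, hG₂, hS₂, hle₂⟩ := step D _ hG₁ _ hS₁ hlt₁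
        have hx₂ss := hall_ss x₂ hx₂L hx₂Z
        obtain ⟨a₂, e₂, ha₂, he₂, hA₂, hN₂, hw₂, hq₂⟩ := ss_data L hZ x₂ hx₂L hx₂ss
        obtain ⟨hv0, hv2⟩ := inv_pos_le a₂ ha₂
        rcases he₂ with rfl | rfl
        · exfalso
          rw [hw₂, hw₁', hbd] at hle₂
          push_cast at hle₂
          linarith
        · have hle₂' := hle₂
          rw [hw₂, hw₁', hbd] at hle₂'
          push_cast at hle₂'
          have ha4 : a₁ < 4 := lt_of_inv_lt a₁ 4 (by omega) (by norm_num)
            (by push_cast; linarith)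
          have heq := fin_step D _ hG₂ _ hS₂ (1 / 4)
            (fun y hy hyZ _ => hquart y hy hyZ)
            (by rw [hbd, hw₂, hw₁']; push_cast; linarith)
          rw [hw₂, hw₁', hbd] at heq
          push_cast at heq
          have ha23 : a₁ = 2 ∨ a₁ = 3 := by omega
          rcases ha23 with rfl | rfl
          · right; left
            refine ⟨x₂, hx₂L, hx₂ss, ?_⟩
            have e : (1 : ℚ) / h = (1 / (a₂ : ℚ)) / 2 := by push_cast at heq; linarith
            have := eq_two_mul a₂ h (by omega) hhpos e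
            rw [hh, hA₂, this]; ring
          · right; right; right; left
            have h3 : a₂ < 3 := lt_of_inv_lt a₂ 3 (by omega) (by norm_num)
              (by push_cast at heq ⊢; linarith)
            have ha2 : a₂ = 2 := by omega
            subst ha2
            have e : (1 : ℚ) / h = 1 / ((12 : ℕ) : ℚ) := by push_cast at heq ⊢; linarith
            have h12 := eq_of_inv_eq h 12 hhpos (by norm_num) e
            refine ⟨by rw [hh, h12]; ring, x₁, hx₁L, (hsc_iff x₁).1 hx₁Z, by rw [hA₁]; ring,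
              by rw [hN₁', hA₁]; ring⟩
    · push Not at hA
      have hdata : ∀ y ∈ L, y ∉ Subgroup.center (S2 F) → ∃ a : ℕ, 2 ≤ a ∧
          cA L y = Nat.card (Subgroup.center (S2 F)) * a ∧ cN L y = 2 * cA L y ∧
          wt L (Subgroup.center (S2 F)) y = (1 - 1 / (a : ℚ)) / 2 ∧ 2 * a ≤ h := by
        intro y hy hyZ
        obtain ⟨a, e, ha, he, hAy, hNy, hwy, -⟩ := ss_data L hZ y hy (hall_ss y hy hyZ)
        rcases he with rfl | rfl
        · exact absurd (by rw [hNy, one_mul]) (hA y hy hyZ)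
        · refine ⟨a, ha, hAy, hNy, by simpa using hwy, ?_⟩
          have h1 := cN_le L y
          rw [hNy, hAy, hh] at h1
          have h2 : Nat.card (Subgroup.center (S2 F)) * (2 * a)
              ≤ Nat.card (Subgroup.center (S2 F)) * h := by linarith
          exact Nat.le_of_mul_le_mul_left h2 hz
      obtain ⟨a₁, ha₁, hA₁, hN₁, hw₁, hb₁⟩ := hdata y₀ hy₀L hy₀Z
      obtain ⟨hG₁, hS₁, hle₁⟩ := add_elt D ∅ (good_empty L _) 0 Finset.sum_empty y₀ hy₀L hy₀Z
        (by intro x hx; simp at hx)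
      obtain ⟨hu0, hu2⟩ := inv_pos_le a₁ ha₁
      have hηu := inv_le_half_of a₁ h (by omega) hb₁
      have hlt₁ : wt L (Subgroup.center (S2 F)) y₀ + 0 < bd L (Subgroup.center (S2 F)) := by
        rw [hw₁, hbd]; linarith
      obtain ⟨x₂, hx₂L, hx₂Z, hnew₂, hG₂, hS₂, hle₂⟩ := step D _ hG₁ _ hS₁ hlt₁
      obtain ⟨a₂, ha₂, hA₂, hN₂, hw₂, hb₂⟩ := hdata x₂ hx₂L hx₂Z
      obtain ⟨hv0, hv2⟩ := inv_pos_le a₂ ha₂
      have hlt₂ : wt L (Subgroup.center (S2 F)) x₂ + (wt L (Subgroup.center (S2 F)) y₀ + 0)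
          < bd L (Subgroup.center (S2 F)) := by
        rw [hw₂, hw₁, hbd]; linarith
      obtain ⟨x₃, hx₃L, hx₃Z, hnew₃, hG₃, hS₃, hle₃⟩ := step D _ hG₂ _ hS₂ hlt₂
      obtain ⟨a₃, ha₃, hA₃, hN₃, hw₃, hb₃⟩ := hdata x₃ hx₃L hx₃Z
      obtain ⟨hw0, hw2⟩ := inv_pos_le a₃ ha₃
      have heq := fin_step D _ hG₃ _ hS₃ (1 / 4)
        (fun y hy hyZ _ => hquart y hy hyZ)
        (by rw [hbd, hw₃, hw₂, hw₁]; linarith)
      have hcomp := complete' D _ hG₃ _ hS₃ heq
      rw [hw₃, hw₂, hw₁, hbd] at heq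
      have heq' : (1 : ℚ) / a₁ + 1 / a₂ + 1 / a₃ = 1 + 2 * (1 / h) := by linarith
      have hne12 : ¬ Eqv L y₀ x₂ := hnew₂ y₀ (mem_ins_self _ _)
      have hne13 : ¬ Eqv L y₀ x₃ :=
        hnew₃ y₀ (mem_ins_of_mem (mem_ins_self _ _))
      have hne23 : ¬ Eqv L x₂ x₃ := hnew₃ x₂ (mem_ins_self _ _)
      have hrep : ∀ y ∈ L, ¬ IsSc y → cN L y = 2 * cA L y ∧
          (cA L y = cA L y₀ ∨ cA L y = cA L x₂ ∨ cA L y = cA L x₃) := by
        intro y hy hys
        have hyZ := (hsc_iff y).2 hys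
        obtain ⟨_, _, _, hNy, _, _⟩ := hdata y hy hyZ
        refine ⟨hNy, ?_⟩
        obtain ⟨x, hx, hxy⟩ := hcomp y hy hyZ
        rw [mem_ins3] at hx
        rcases hx with rfl | rfl | rfl
        · exact Or.inr (Or.inr (cA_eqv D hx₃Z hyZ hxy))
        · exact Or.inr (Or.inl (cA_eqv D hx₂Z hyZ hxy))
        · exact Or.inl (cA_eqv D hy₀Z hyZ hxy)
      rcases three_recip a₁ a₂ a₃ h ha₁ ha₂ ha₃ hhpos heq' with (e | e | e) | ⟨e, hp⟩ |
        ⟨e, h3, c1, c2, c3⟩ | ⟨e, c1, c2, c3⟩
      · right; left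
        exact ⟨y₀, hy₀L, hall_ss y₀ hy₀L hy₀Z, by rw [hh, hA₁, e]; ring⟩
      · right; left
        exact ⟨x₂, hx₂L, hall_ss x₂ hx₂L hx₂Z, by rw [hh, hA₂, e]; ring⟩
      · right; left
        exact ⟨x₃, hx₃L, hall_ss x₃ hx₃L hx₃Z, by rw [hh, hA₃, e]; ring⟩
      · exfalso
        rcases hp with ⟨rfl, rfl⟩ | ⟨rfl, rfl⟩ | ⟨rfl, rfl⟩
        · exact hne12 (eqv_three L y₀ x₂ hA₁ hA₂)
        · exact hne13 (eqv_three L y₀ x₃ hA₁ hA₃)
        · exact hne23 (eqv_three L x₂ x₃ hA₂ hA₃)
      · right; right; right; right; left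
        refine ⟨by rw [hh, e]; ring, ?_, ?_⟩
        · rcases h3 with rfl | rfl | rfl
          · exact ⟨y₀, hy₀L, (hsc_iff y₀).1 hy₀Z, by rw [hA₁]; ring⟩
          · exact ⟨x₂, hx₂L, (hsc_iff x₂).1 hx₂Z, by rw [hA₂]; ring⟩
          · exact ⟨x₃, hx₃L, (hsc_iff x₃).1 hx₃Z, by rw [hA₃]; ring⟩
        · intro y hy hys
          obtain ⟨hNy, hc⟩ := hrep y hy hys
          refine ⟨?_, hNy⟩
          rcases hc with hc | hc | hc
          · rw [hc, hA₁]
            rcases c1 with rfl | rfl | rfl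
            · left; ring
            · right; left; ring
            · right; right; ring
          · rw [hc, hA₂]
            rcases c2 with rfl | rfl | rfl
            · left; ring
            · right; left; ring
            · right; right; ring
          · rw [hc, hA₃]
            rcases c3 with rfl | rfl | rfl
            · left; ring
            · right; left; ring
            · right; right; ring
      · right; right; right; right; right; left
        refine ⟨by rw [hh, e]; ring, ?_⟩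
        intro y hy hys
        obtain ⟨hNy, hc⟩ := hrep y hy hys
        refine ⟨?_, hNy⟩
        rcases hc with hc | hc | hc
        · rw [hc, hA₁]
          rcases c1 with rfl | rfl | rfl
          · left; ring
          · right; left; ring
          · right; right; ring
        · rw [hc, hA₂]
          rcases c2 with rfl | rfl | rfl
          · left; ring
          · right; left; ring
          · right; right; ring
        · rw [hc, hA₃]
          rcases c3 with rfl | rfl | rfl
          · left; ring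
          · right; left; ring
          · right; right; ring

end Main

end Cfsg.Agent.Lib.Helper19.Dk
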