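import Mathlib
import Cfsg.Agent.S0206
import Cfsg.Agent.S0494
import Cfsg.Agent.S0802

set_option autoImplicit false

namespace Cfsg.Agent.Lib.Helper19.Dk

section Recog

variable {K : Type*} [Group K] [Finite K]

/-- A group with a cyclic subgroup of index two all of whose outside elements are involutions
is dihedral. -/
theorem recog_dih (n : ℕ) (C : Subgroup K) (hC : IsCyclic C) (hn : Nat.card C = n)
    (hK : Nat.card K = 2 * n) (hinv : ∀ g : K, g ∉ C → g * g = 1) :
    Nonempty (K ≃* DihedralGroup n) := by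
  have hnpos : 0 < n := hn ▸ Nat.card_pos
  rcases Nat.lt_or_ge n 2 with h1 | h2
  · have hn1 : n = 1 := by omega
    subst hn1
    haveI : Fact (Nat.Prime 2) := ⟨Nat.prime_two⟩
    exact ⟨mulEquivOfPrimeCardEq (p := 2) (by rw [hK]) (by rw [DihedralGroup.nat_card])⟩
  · obtain ⟨r₀, hr₀⟩ := hC.exists_generator
    obtain ⟨g, hg⟩ : ∃ g : K, g ∉ C := by
      by_contra hcon
      push Not at hcon
      have : C = ⊤ := (Subgroup.eq_top_iff' C).2 hcon
      have h3 : Nat.card C = Nat.card K := by rw [this]; exact Subgroup.card_top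
      omega
    have hord : orderOf (r₀ : K) = n := by
      rw [Subgroup.orderOf_coe, orderOf_eq_card_of_forall_mem_zpowers hr₀, hn]
    have hr1 : (r₀ : K) ≠ 1 := by
      intro h
      rw [h, orderOf_one] at hord
      omega
    have hgg := hinv g hg
    have hg1 : g ≠ 1 := fun h => hg (h ▸ C.one_mem)
    have hy : g * (r₀ : K) ∉ C := by
      intro h
      apply hg
      have := C.mul_mem h (C.inv_mem r₀.2)
      rwa [mul_inv_cancel_right] at this
    have hyy := hinv _ hy
    have hy1 : g * (r₀ : K) ≠ 1 := fun h => hy (h ▸ C.one_mem)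
    have hox : orderOf g = 2 := orderOf_eq_prime (by rw [pow_two]; exact hgg) hg1
    have hoy : orderOf (g * (r₀ : K)) = 2 := orderOf_eq_prime (by rw [pow_two]; exact hyy) hy1
    have hxy : g ≠ g * (r₀ : K) := by
      intro h
      apply hr1
      have : g * 1 = g * (r₀ : K) := by rw [mul_one]; exact h
      exact (mul_left_cancel this).symm
    have hprod : g * (g * (r₀ : K)) = (r₀ : K) := by rw [← mul_assoc, hgg, one_mul]
    obtain ⟨e⟩ := Cfsg.Agent.S0206.result g (g * (r₀ : K)) hox hoy hxy
    rw [hprod, hord] at e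
    have htop : Subgroup.closure ({g, g * (r₀ : K)} : Set K) = ⊤ := by
      have hgm : g ∈ Subgroup.closure ({g, g * (r₀ : K)} : Set K) :=
        Subgroup.subset_closure (by simp)
      have hym : g * (r₀ : K) ∈ Subgroup.closure ({g, g * (r₀ : K)} : Set K) :=
        Subgroup.subset_closure (by simp)
      have hrm : (r₀ : K) ∈ Subgroup.closure ({g, g * (r₀ : K)} : Set K) := by
        have h5 := Subgroup.mul_mem _ hgm hym
        rwa [hprod] at h5
      have hCle : C ≤ Subgroup.closure ({g, g * (r₀ : K)} : Set K) := by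
        intro c hc
        obtain ⟨i, hi⟩ := Subgroup.mem_zpowers_iff.1 (hr₀ ⟨c, hc⟩)
        have : c = (r₀ : K) ^ i := by
          have := congrArg Subtype.val hi
          rw [Subgroup.coe_zpow] at this
          exact this.symm
        rw [this]
        exact Subgroup.zpow_mem _ hrm i
      obtain ⟨m, hm⟩ := Subgroup.card_dvd_of_le hCle
      have hdvd := Subgroup.card_subgroup_dvd_card (Subgroup.closure ({g, g * (r₀ : K)} : Set K))
      have hne : C ≠ Subgroup.closure ({g, g * (r₀ : K)} : Set K) := fun h => hg (h ▸ hgm)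
      have hm2 : 2 ≤ m := by
        by_contra hcon
        push Not at hcon
        apply hne
        exact Subgroup.eq_of_le_of_card_ge hCle (by rw [hm, hn]; nlinarith)
      rw [hm, hn, hK] at hdvd
      have hm' : m ∣ 2 := by
        have : n * m ∣ n * 2 := by rw [mul_comm n 2]; exact hdvd
        exact Nat.dvd_of_mul_dvd_mul_left hnpos this
      have hmle := Nat.le_of_dvd (by norm_num) hm'
      have hm2' : m = 2 := by omega
      apply (Subgroup.card_eq_iff_eq_top _).1
      rw [hm, hn, hK, hm2']; ring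
    exact ⟨(Subgroup.topEquiv.symm.trans (MulEquiv.subgroupCongr htop.symm)).trans e⟩

theorem mem_normalizer_fin (Q : Subgroup K) (g : K) :
    g ∈ Subgroup.normalizer (Q : Set K) ↔ ∀ t ∈ Q, g * t * g⁻¹ ∈ Q := by
  rw [Subgroup.mem_normalizer_iff]
  constructor
  · intro h t ht; exact (h t).1 ht
  · intro h t
    refine ⟨h t, fun ht => ?_⟩
    let f : Q → Q := fun t => ⟨g * t * g⁻¹, h t t.2⟩
    have hinj : Function.Injective f := by
      intro a b hab
      have h1 : g * (a : K) * g⁻¹ = g * (b : K) * g⁻¹ := congrArg Subtype.val hab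
      apply Subtype.ext
      exact mul_left_cancel (mul_right_cancel h1)
    have hsurj := Finite.surjective_of_injective hinj
    obtain ⟨t', ht'⟩ := hsurj ⟨g * t * g⁻¹, ht⟩
    have h1 : g * (t' : K) * g⁻¹ = g * t * g⁻¹ := congrArg Subtype.val ht'
    have h2 : (t' : K) = t := mul_left_cancel (mul_right_cancel h1)
    rw [← h2]; exact t'.2

theorem normalizer_card (Q : Subgroup K) :
    Nat.card (Subgroup.normalizer (Q : Set K)) = Nat.card {g : K // ∀ t ∈ Q, g * t * g⁻¹ ∈ Q} := by
  apply Nat.card_congr
  apply Equiv.subtypeEquivRight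
  intro g
  exact mem_normalizer_fin Q g

/-- A group of order `24` with a subgroup of order `3` whose normalizer has order `6`, and with
trivial centre, is `S₄`. -/
theorem recog_S4 (h24 : Nat.card K = 24) (Q : Subgroup K) (hQ : Nat.card Q = 3)
    (hN : Nat.card {g : K // ∀ t ∈ Q, g * t * g⁻¹ ∈ Q} = 6)
    (hcen : ∀ u : K, u ≠ 1 → ∃ g : K, g * u ≠ u * g) : Nonempty (K ≃* Equiv.Perm (Fin 4)) := by
  classical
  haveI : Fact (Nat.Prime 3) := ⟨Nat.prime_three⟩
  obtain ⟨N, hNdef⟩ : ∃ N : Subgroup K, N = Subgroup.normalizer (Q : Set K) := ⟨_, rfl⟩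
  have hNcard : Nat.card N = 6 := by rw [hNdef, normalizer_card, hN]
  have hQN : Q ≤ N := hNdef ▸ Subgroup.le_normalizer
  have hmemN : ∀ g : K, g ∈ N ↔ ∀ t ∈ Q, g * t * g⁻¹ ∈ Q := fun g => by
    rw [hNdef]; exact mem_normalizer_fin Q g
  have h3Q : ∀ u ∈ N, u ^ 3 = 1 → u ∈ Q := by
    intro u hu h3
    have hidx : (Q.subgroupOf N).index = 2 := by
      have := Subgroup.card_mul_index (Q.subgroupOf N)
      rw [Nat.card_congr (Subgroup.subgroupOfEquivOfLe hQN).toEquiv, hQ, hNcard] at this
      omega
    have hsq := Subgroup.sq_mem_of_index_two hidx (⟨u, hu⟩ : N)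
    rw [Subgroup.mem_subgroupOf] at hsq
    have hsq' : u ^ 2 ∈ Q := by simpa using hsq
    have : u = (u ^ 2)⁻¹ := by
      rw [eq_inv_iff_mul_eq_one, ← pow_succ']
      exact h3
    rw [this]
    exact Q.inv_mem hsq'
  have hcore : N.normalCore = ⊥ := by
    have hle := Subgroup.normalCore_le N
    have hnorm : (N.normalCore).Normal := Subgroup.normalCore_normal N
    have hdvd := Subgroup.card_dvd_of_le hle
    rw [hNcard] at hdvd
    by_cases h3 : 3 ∣ Nat.card N.normalCore
    · exfalso
      obtain ⟨u, hu⟩ := exists_prime_orderOf_dvd_card' 3 h3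
      have hu3 : (u : K) ^ 3 = 1 := by
        have := pow_orderOf_eq_one u
        rw [hu] at this
        have h2 := congrArg Subtype.val this
        rw [Subgroup.coe_pow] at h2
        exact h2
      have hu1 : (u : K) ≠ 1 := by
        intro h
        have : u = 1 := Subtype.ext h
        rw [this, orderOf_one] at hu
        omega
      have huQ : (u : K) ∈ Q := h3Q u (hle u.2) hu3
      have hconj : ∀ g : K, g * (u : K) * g⁻¹ ∈ Q := by
        intro g
        apply h3Q _ (hle (hnorm.conj_mem u u.2 g))
        rw [conj_pow, hu3, mul_one, mul_inv_cancel]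
      have hzp : Subgroup.zpowers (u : K) = Q := by
        apply Subgroup.eq_of_le_of_card_ge
        · rw [Subgroup.zpowers_le]; exact huQ
        · rw [Nat.card_zpowers, hQ]
          have : orderOf (u : K) = 3 := by rw [Subgroup.orderOf_coe]; exact hu
          rw [this]
      have hall : ∀ g : K, g ∈ N := by
        intro g
        rw [hmemN]
        intro t ht
        rw [← hzp] at ht
        obtain ⟨i, rfl⟩ := Subgroup.mem_zpowers_iff.1 ht
        rw [← conj_zpow]
        exact Q.zpow_mem (hconj g) i
      have : N = ⊤ := (Subgroup.eq_top_iff' N).2 hall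
      have h4 : Nat.card N = Nat.card K := by rw [this]; exact Subgroup.card_top
      omega
    · have hle6 := Nat.le_of_dvd (by norm_num) hdvd
      have hpos : 0 < Nat.card N.normalCore := Nat.card_pos
      have h12 : Nat.card N.normalCore = 1 ∨ Nat.card N.normalCore = 2 := by
        generalize Nat.card N.normalCore = m at *
        interval_cases m <;> omega
      rcases h12 with h1 | h2
      · exact Subgroup.card_eq_one.1 h1
      · exfalso
        obtain ⟨u, hu1, huniq⟩ := (Nat.card_eq_two_iff' (1 : N.normalCore)).1 h2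
        have hu1' : (u : K) ≠ 1 := fun h => hu1 (Subtype.ext h)
        obtain ⟨g, hg⟩ := hcen u hu1'
        apply hg
        have hmem := hnorm.conj_mem u u.2 g
        have hne : (⟨g * (u : K) * g⁻¹, hmem⟩ : N.normalCore) ≠ 1 := by
          intro h
          have h5 : g * (u : K) * g⁻¹ = 1 := congrArg Subtype.val h
          apply hu1'
          have : (u : K) = g⁻¹ * (g * (u : K) * g⁻¹) * g := by group
          rw [this, h5]; group
        have h6 := huniq _ hne
        have h7 : g * (u : K) * g⁻¹ = u := congrArg Subtype.val h6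
        calc g * (u : K) = g * (u : K) * g⁻¹ * g := by group
          _ = u * g := by rw [h7]
  have hinj : Function.Injective (MulAction.toPermHom K (K ⧸ N)) := by
    rw [← MonoidHom.ker_eq_bot_iff, ← Subgroup.normalCore_eq_ker, hcore]
  have hquot : Nat.card (K ⧸ N) = 4 := by
    have := Subgroup.card_eq_card_quotient_mul_card_subgroup N
    rw [h24, hNcard] at this
    omega
  let e : (K ⧸ N) ≃ Fin 4 := Finite.equivFinOfCardEq hquot
  let ψ : K →* Equiv.Perm (Fin 4) :=
    (e.permCongrHom : Equiv.Perm (K ⧸ N) ≃* Equiv.Perm (Fin 4)).toMonoidHom.comp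
      (MulAction.toPermHom K (K ⧸ N))
  have hψ : Function.Injective ψ := by
    intro x y hxy
    apply hinj
    exact (e.permCongrHom).injective hxy
  have hbij : Function.Bijective ψ := by
    apply hψ.bijective_of_nat_card_le
    rw [h24, Nat.card_perm, Nat.card_eq_fintype_card, Fintype.card_fin]
    decide
  exact ⟨MulEquiv.ofBijective ψ hbij⟩

section Classes

variable [Fintype K] [DecidableEq K]

theorem class_card' (u : K) :
    (Finset.univ.filter (fun v : K => ∃ g : K, g * u * g⁻¹ = v)).card *
      Nat.card (Subgroup.centralizer {u}) = Nat.card K := by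
  classical
  have h1 := Finset.card_eq_sum_card_fiberwise (f := fun g : K => g * u * g⁻¹) (s := Finset.univ)
    (t := Finset.univ.filter (fun v : K => ∃ g : K, g * u * g⁻¹ = v)) (by
      intro g _
      simp only [Finset.coe_filter, Finset.mem_univ, true_and, Set.mem_setOf_eq]
      exact ⟨g, rfl⟩)
  have h2 : ∀ v ∈ Finset.univ.filter (fun v : K => ∃ g : K, g * u * g⁻¹ = v),
      (Finset.univ.filter (fun g : K => g * u * g⁻¹ = v)).card
        = Nat.card (Subgroup.centralizer {u}) := by
    intro v hv
    obtain ⟨g₀, rfl⟩ := (Finset.mem_filter.1 hv).2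
    have h3 : Nat.card (Subgroup.centralizer {u})
        = (Finset.univ.filter (fun c : K => c ∈ Subgroup.centralizer {u})).card := by
      rw [Nat.card_eq_fintype_card, Fintype.card_subtype]
    rw [h3]
    symm
    apply Finset.card_bij (fun c _ => g₀ * c)
    · intro c hc
      simp only [Finset.mem_filter, Finset.mem_univ, true_and] at hc ⊢
      rw [Subgroup.mem_centralizer_iff] at hc
      have h4 := hc u rfl
      calc g₀ * c * u * (g₀ * c)⁻¹ = g₀ * (c * u) * c⁻¹ * g₀⁻¹ := by group
        _ = g₀ * (u * c) * c⁻¹ * g₀⁻¹ := by rw [← h4]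
        _ = g₀ * u * g₀⁻¹ := by group
    · intro a _ b _ hab
      exact mul_left_cancel hab
    · intro g hg
      simp only [Finset.mem_filter, Finset.mem_univ, true_and] at hg
      refine ⟨g₀⁻¹ * g, ?_, by group⟩
      simp only [Finset.mem_filter, Finset.mem_univ, true_and]
      rw [Subgroup.mem_centralizer_iff]
      intro w hw
      rw [Set.mem_singleton_iff] at hw
      subst hw
      have h5 : g₀⁻¹ * (g * w * g⁻¹) * g₀ = w := by rw [hg]; group
      calc w * (g₀⁻¹ * g) = g₀⁻¹ * (g * w * g⁻¹) * g₀ * (g₀⁻¹ * g) := by rw [h5]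
        _ = g₀⁻¹ * g * w := by group
  rw [Finset.sum_congr rfl h2, Finset.sum_const, smul_eq_mul, Finset.card_univ] at h1
  rw [Nat.card_eq_fintype_card (α := K), h1]

theorem inv_card (h60 : Nat.card K = 60)
    (hc : ∀ u : K, u ≠ 1 → ∃ a : ℕ, (a = 2 ∨ a = 3 ∨ a = 5) ∧
      a ∣ Nat.card (Subgroup.centralizer {u}) ∧ Nat.card (Subgroup.centralizer {u}) ≤ 2 * a) :
    ∀ n : ℕ, ∀ T : Finset K, T.card = n → (∀ v ∈ T, v ≠ 1) →
      (∀ v ∈ T, ∀ g : K, g * v * g⁻¹ ∈ T) →
      ∃ a b c d e f : ℕ, n = 6 * a + 10 * b + 12 * c + 15 * d + 20 * e + 30 * f := by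
  intro n
  induction n using Nat.strong_induction_on with
  | _ n ih =>
    intro T hT h1 hconj
    rcases T.eq_empty_or_nonempty with rfl | ⟨u, hu⟩
    · refine ⟨0, 0, 0, 0, 0, 0, ?_⟩
      simp at hT
      omega
    · obtain ⟨cls, hcls⟩ : ∃ cls : Finset K,
          cls = Finset.univ.filter (fun v : K => ∃ g : K, g * u * g⁻¹ = v) := ⟨_, rfl⟩
      have hsub : cls ⊆ T := by
        intro v hv
        rw [hcls] at hv
        obtain ⟨g, rfl⟩ := (Finset.mem_filter.1 hv).2
        exact hconj u hu g
      have hcard := class_card' u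
      rw [← hcls] at hcard
      obtain ⟨a, ha, hdvd, hle⟩ := hc u (h1 u hu)
      have hcls_card : cls.card = 6 ∨ cls.card = 10 ∨ cls.card = 12 ∨ cls.card = 15 ∨
          cls.card = 20 ∨ cls.card = 30 := by
        rw [h60] at hcard
        obtain ⟨m, hm⟩ := hdvd
        have hCpos : 0 < Nat.card (Subgroup.centralizer {u}) := Nat.card_pos
        rw [hm] at hcard hle hCpos
        have hm12 : m = 1 ∨ m = 2 := by
          have hmpos : 0 < m := by
            rcases Nat.eq_zero_or_pos m with h0 | h0
            · rw [h0] at hCpos; omega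
            · exact h0
          have ha0 : 0 < a := by omega
          have : a * m ≤ a * 2 := by omega
          have := Nat.le_of_mul_le_mul_left this ha0
          omega
        rcases ha with rfl | rfl | rfl <;> rcases hm12 with rfl | rfl <;> omega
      have hle' := Finset.card_le_card hsub
      have hsd : (T \ cls).card = n - cls.card := by
        rw [Finset.card_sdiff_of_subset hsub, hT]
      have hT' := ih (T \ cls).card (by omega) (T \ cls) rfl
        (fun v hv => h1 v (Finset.mem_sdiff.1 hv).1) (by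
          intro v hv g
          rw [Finset.mem_sdiff] at hv ⊢
          refine ⟨hconj v hv.1 g, ?_⟩
          intro hmem
          apply hv.2
          rw [hcls] at hmem ⊢
          obtain ⟨g', hg'⟩ := (Finset.mem_filter.1 hmem).2
          rw [Finset.mem_filter]
          refine ⟨Finset.mem_univ _, g⁻¹ * g', ?_⟩
          calc g⁻¹ * g' * u * (g⁻¹ * g')⁻¹ = g⁻¹ * (g' * u * g'⁻¹) * g := by group
            _ = g⁻¹ * (g * v * g⁻¹) * g := by rw [hg']
            _ = v := by group)
      obtain ⟨a', b', c', d', e', f', h'⟩ := hT'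
      rcases hcls_card with h | h | h | h | h | h
      · exact ⟨a' + 1, b', c', d', e', f', by omega⟩
      · exact ⟨a', b' + 1, c', d', e', f', by omega⟩
      · exact ⟨a', b', c' + 1, d', e', f', by omega⟩
      · exact ⟨a', b', c', d' + 1, e', f', by omega⟩
      · exact ⟨a', b', c', d', e' + 1, f', by omega⟩
      · exact ⟨a', b', c', d', e', f' + 1, by omega⟩

end Classes

theorem simple60 (h60 : Nat.card K = 60)
    (hc : ∀ u : K, u ≠ 1 → ∃ a : ℕ, (a = 2 ∨ a = 3 ∨ a = 5) ∧
      a ∣ Nat.card (Subgroup.centralizer {u}) ∧ Nat.card (Subgroup.centralizer {u}) ≤ 2 * a) :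
    IsSimpleGroup K := by
  classical
  haveI : Fintype K := Fintype.ofFinite K
  haveI : Nontrivial K := by
    apply (Finite.one_lt_card_iff_nontrivial).1
    rw [h60]; norm_num
  refine IsSimpleGroup.mk (fun M hM => ?_)
  obtain ⟨T, hT⟩ : ∃ T : Finset K, T = (Finset.univ.filter (fun v : K => v ∈ M)).erase 1 :=
    ⟨_, rfl⟩
  have hMc : Nat.card M = (Finset.univ.filter (fun v : K => v ∈ M)).card := by
    rw [Nat.card_eq_fintype_card, Fintype.card_subtype]
  have hTcard : T.card = Nat.card M - 1 := by
    rw [hT, Finset.card_erase_of_mem (by simp [M.one_mem]), hMc]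
  have hMpos : 0 < Nat.card M := Nat.card_pos
  obtain ⟨a, b, c, d, e, f, h⟩ := inv_card h60 hc T.card T rfl
    (fun v hv => by
      rw [hT] at hv
      exact (Finset.mem_erase.1 hv).1)
    (fun v hv g => by
      rw [hT, Finset.mem_erase, Finset.mem_filter] at hv ⊢
      refine ⟨fun h1 => hv.1 ?_, Finset.mem_univ _, hM.conj_mem v hv.2.2 g⟩
      have : v = g⁻¹ * (g * v * g⁻¹) * g := by group
      rw [this, h1]; group)
  have hdvd : Nat.card M ∣ 60 := h60 ▸ Subgroup.card_subgroup_dvd_card M
  have hmem : Nat.card M ∈ Nat.divisors 60 := Nat.mem_divisors.2 ⟨hdvd, by norm_num⟩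
  have hdiv : Nat.divisors 60 = {1, 2, 3, 4, 5, 6, 10, 12, 15, 20, 30, 60} := by decide
  rw [hdiv] at hmem
  simp only [Finset.mem_insert, Finset.mem_singleton] at hmem
  have h160 : Nat.card M = 1 ∨ Nat.card M = 60 := by omega
  rcases h160 with h1 | h1
  · left; exact Subgroup.card_eq_one.1 h1
  · right; exact (Subgroup.card_eq_iff_eq_top M).1 (by rw [h1, h60])

theorem recog_A5 (h60 : Nat.card K = 60)
    (hc : ∀ u : K, u ≠ 1 → ∃ a : ℕ, (a = 2 ∨ a = 3 ∨ a = 5) ∧
      a ∣ Nat.card (Subgroup.centralizer {u}) ∧ Nat.card (Subgroup.centralizer {u}) ≤ 2 * a) :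
    Nonempty (K ≃* alternatingGroup (Fin 5)) := by
  haveI := simple60 h60 hc
  exact Cfsg.Agent.S0494.result h60

end Recog

end Cfsg.Agent.Lib.Helper19.Dk
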