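import Mathlib
import Cfsg.Agent.Lib.Helper19.DkE
import Cfsg.Agent.Lib.Helper19.DkF
import Cfsg.Agent.S0243

set_option autoImplicit false

namespace Cfsg.Agent.Lib.Helper19.Dk

open Matrix Cfsg.Agent.S0809

section Dict

variable {F : Type*} [Field F]

/-- `PSL₂`. -/
abbrev P2 (F : Type*) [Field F] : Type _ := Matrix.ProjectiveSpecialLinearGroup (Fin 2) F

/-- The projection `SL₂ → PSL₂`. -/
abbrev prj (F : Type*) [Field F] : S2 F →* P2 F := QuotientGroup.mk' (Subgroup.center (S2 F))

theorem prj_surj : Function.Surjective (prj F) := QuotientGroup.mk'_surjective _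

theorem ker_prj : (prj F).ker = Subgroup.center (S2 F) := QuotientGroup.ker_mk' _

/-- The preimage of a subgroup of `PSL₂`. -/
def Lof (H : Subgroup (P2 F)) : Subgroup (S2 F) := H.comap (prj F)

theorem mem_Lof (H : Subgroup (P2 F)) (g : S2 F) : g ∈ Lof H ↔ prj F g ∈ H := Iff.rfl

theorem prj_eq_one_iff (g : S2 F) : prj F g = 1 ↔ IsSc g := by
  rw [isSc_iff_center]
  exact QuotientGroup.eq_one_iff g

theorem center_le_Lof (H : Subgroup (P2 F)) : Subgroup.center (S2 F) ≤ Lof H := by
  intro ζ hζ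
  rw [mem_Lof]
  have : prj F ζ = 1 := by rw [prj_eq_one_iff, isSc_iff_center]; exact hζ
  rw [this]; exact H.one_mem

theorem card_pre [Finite F] (S : Set (P2 F)) :
    Nat.card {g : S2 F // prj F g ∈ S} = Nat.card (Subgroup.center (S2 F)) * Nat.card S :=
  QuotientGroup.card_preimage_mk (Subgroup.center (S2 F)) S

theorem card_Lof [Finite F] (H : Subgroup (P2 F)) :
    Nat.card (Lof H) = Nat.card (Subgroup.center (S2 F)) * Nat.card H :=
  card_pre (H : Set (P2 F))

theorem map_prj_mem (M : Subgroup (S2 F)) (hZ : Subgroup.center (S2 F) ≤ M) (g : S2 F) :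
    prj F g ∈ M.map (prj F) ↔ g ∈ M := by
  have := Subgroup.comap_map_eq_self (f := prj F) (H := M) (by rw [ker_prj]; exact hZ)
  rw [← Subgroup.mem_comap, this]

theorem card_map_prj [Finite F] (M : Subgroup (S2 F)) (hZ : Subgroup.center (S2 F) ≤ M) :
    Nat.card M = Nat.card (Subgroup.center (S2 F)) * Nat.card (M.map (prj F)) := by
  have h := card_Lof (M.map (prj F))
  have e : Lof (M.map (prj F)) = M :=
    Subgroup.comap_map_eq_self (f := prj F) (H := M) (by rw [ker_prj]; exact hZ)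
  rw [e] at h
  exact h

theorem exists_lift (H : Subgroup (P2 F)) (g : H) : ∃ ĝ ∈ Lof H, prj F ĝ = (g : P2 F) := by
  obtain ⟨ĝ, hĝ⟩ := prj_surj (g : P2 F)
  exact ⟨ĝ, by rw [mem_Lof, hĝ]; exact g.2, hĝ⟩

theorem map_Lof (H : Subgroup (P2 F)) : (Lof H).map (prj F) = H :=
  Subgroup.map_comap_eq_self_of_surjective prj_surj H

theorem card_subH [Finite F] (H : Subgroup (P2 F)) (S : Set (P2 F)) :
    Nat.card (Subgroup.center (S2 F)) * Nat.card {g : H // (g : P2 F) ∈ S}
      = Nat.card {ĝ : S2 F // ĝ ∈ Lof H ∧ prj F ĝ ∈ S} := by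
  have h1 : Nat.card {g : H // (g : P2 F) ∈ S} = Nat.card ((H : Set (P2 F)) ∩ S : Set (P2 F)) :=
    Nat.card_congr (Equiv.subtypeSubtypeEquivSubtypeInter (fun g => g ∈ H) (fun g => g ∈ S))
  rw [h1, ← card_pre]
  rfl

theorem nrm_of_prj_comm (L : Subgroup (S2 F)) (g u : S2 F) (hg : g ∈ L)
    (h : prj F g * prj F u = prj F u * prj F g) : g ∈ nrmSet L u := by
  refine ⟨hg, ?_⟩
  have hζ : IsSc (g * u * g⁻¹ * u⁻¹) := by
    rw [← prj_eq_one_iff, map_mul, map_mul, map_mul, map_inv, map_inv, h]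
    group
  have h1 := isSc_comm _ hζ u
  have h2 : g * u * g⁻¹ = (g * u * g⁻¹ * u⁻¹) * u := by group
  calc g * u * g⁻¹ * u = ((g * u * g⁻¹ * u⁻¹) * u) * u := by rw [← h2]
    _ = (u * (g * u * g⁻¹ * u⁻¹)) * u := by rw [h1]
    _ = u * ((g * u * g⁻¹ * u⁻¹) * u) := by rw [mul_assoc]
    _ = u * (g * u * g⁻¹) := by rw [← h2]

theorem exists_not_nrm [Finite F] (L : Subgroup (S2 F)) (x : S2 F) (h : cN L x < Nat.card L) :
    ∃ g ∈ L, g ∉ nrmSet L x := by
  by_contra hcon
  push Not at hcon
  have h1 : Nat.card (L : Set (S2 F)) ≤ Nat.card (nrmSet L x) :=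
    Nat.card_mono (Set.toFinite _) (fun g hg => hcon g hg)
  have h2 : Nat.card (L : Set (S2 F)) = Nat.card L := rfl
  unfold cN at h
  omega

theorem cenL_map_le (H : Subgroup (P2 F)) (x : S2 F) : (cenL (Lof H) x).map (prj F) ≤ H := by
  rw [Subgroup.map_le_iff_le_comap]
  exact inf_le_left

/-- The image of the centralizer, as a subgroup of `H`. -/
def QH (H : Subgroup (P2 F)) (x : S2 F) : Subgroup H :=
  ((cenL (Lof H) x).map (prj F)).subgroupOf H

theorem mem_QH (H : Subgroup (P2 F)) (x : S2 F) (g : H) :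
    g ∈ QH H x ↔ (g : P2 F) ∈ (cenL (Lof H) x).map (prj F) := Subgroup.mem_subgroupOf

theorem card_QH [Finite F] (H : Subgroup (P2 F)) (x : S2 F) :
    cA (Lof H) x = Nat.card (Subgroup.center (S2 F)) * Nat.card (QH H x) := by
  unfold QH
  rw [Nat.card_congr (Subgroup.subgroupOfEquivOfLe (cenL_map_le H x)).toEquiv]
  exact card_map_prj _ (center_le_cenL _ (center_le_Lof H) x)

theorem out_A4 [Finite F] (H : Subgroup (P2 F))
    (hcard : Nat.card (Lof H) = 12 * Nat.card (Subgroup.center (S2 F))) (x : S2 F)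
    (hx : x ∈ Lof H) (hA : cA (Lof H) x = 3 * Nat.card (Subgroup.center (S2 F)))
    (hN : cN (Lof H) x = 3 * Nat.card (Subgroup.center (S2 F))) :
    Nonempty (H ≃* alternatingGroup (Fin 4)) := by
  classical
  have hZ := center_le_Lof H
  have hz : 0 < Nat.card (Subgroup.center (S2 F)) := Nat.card_pos
  have hH : Nat.card H = 12 := by
    have := card_Lof H
    rw [hcard] at this
    have h2 : Nat.card (Subgroup.center (S2 F)) * 12
        = Nat.card (Subgroup.center (S2 F)) * Nat.card H := by linarith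
    exact (Nat.eq_of_mul_eq_mul_left hz h2).symm
  have hT : Nat.card (QH H x) = 3 := by
    have := card_QH H x
    rw [hA] at this
    have h2 : Nat.card (Subgroup.center (S2 F)) * 3
        = Nat.card (Subgroup.center (S2 F)) * Nat.card (QH H x) := by linarith
    exact (Nat.eq_of_mul_eq_mul_left hz h2).symm
  apply Cfsg.Agent.S0802.recog hH (QH H x) hT
  intro hnorm
  obtain ⟨g, hgL, hgn⟩ := exists_not_nrm (Lof H) x (by rw [hN, hcard]; omega)
  apply hgn
  refine ⟨hgL, ?_⟩
  have hxT : (⟨prj F x, hx⟩ : H) ∈ QH H x := by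
    rw [mem_QH]
    exact Subgroup.mem_map_of_mem _ (mem_cenL.2 ⟨hx, rfl⟩)
  have h1 := hnorm.conj_mem _ hxT ⟨prj F g, hgL⟩
  rw [mem_QH] at h1
  have h2 : prj F (g * x * g⁻¹) ∈ (cenL (Lof H) x).map (prj F) := by
    rw [map_mul, map_mul, map_inv]
    exact h1
  have h3 := (map_prj_mem _ (center_le_cenL _ hZ x) _).1 h2
  exact (mem_cenL.1 h3).2

theorem out_S4 [Finite F] (H : Subgroup (P2 F))
    (hcard : Nat.card (Lof H) = 24 * Nat.card (Subgroup.center (S2 F))) (x : S2 F)
    (hx : x ∈ Lof H) (hxs : ¬ IsSc x)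
    (hA : cA (Lof H) x = 3 * Nat.card (Subgroup.center (S2 F)))
    (hall : ∀ y ∈ Lof H, ¬ IsSc y →
      (cA (Lof H) y = 2 * Nat.card (Subgroup.center (S2 F)) ∨
        cA (Lof H) y = 3 * Nat.card (Subgroup.center (S2 F)) ∨
        cA (Lof H) y = 4 * Nat.card (Subgroup.center (S2 F))) ∧
      cN (Lof H) y = 2 * cA (Lof H) y) :
    Nonempty (H ≃* Equiv.Perm (Fin 4)) := by
  classical
  have hZ := center_le_Lof H
  have hz : 0 < Nat.card (Subgroup.center (S2 F)) := Nat.card_pos
  have hH : Nat.card H = 24 := by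
    have := card_Lof H
    rw [hcard] at this
    have h2 : Nat.card (Subgroup.center (S2 F)) * 24
        = Nat.card (Subgroup.center (S2 F)) * Nat.card H := by linarith
    exact (Nat.eq_of_mul_eq_mul_left hz h2).symm
  have hT : Nat.card (QH H x) = 3 := by
    have := card_QH H x
    rw [hA] at this
    have h2 : Nat.card (Subgroup.center (S2 F)) * 3
        = Nat.card (Subgroup.center (S2 F)) * Nat.card (QH H x) := by linarith
    exact (Nat.eq_of_mul_eq_mul_left hz h2).symm
  have hCZ := center_le_cenL _ hZ x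
  apply recog_S4 hH (QH H x) hT
  · -- the normalizer has order 6
    obtain ⟨S, hS⟩ : ∃ S : Set (P2 F), S = {g | ∀ t ∈ (cenL (Lof H) x).map (prj F),
        g * t * g⁻¹ ∈ (cenL (Lof H) x).map (prj F)} := ⟨_, rfl⟩
    have h1 : Nat.card {g : H // ∀ t ∈ QH H x, g * t * g⁻¹ ∈ QH H x}
        = Nat.card {g : H // (g : P2 F) ∈ S} := by
      apply Nat.card_congr
      apply Equiv.subtypeEquivRight
      intro g
      rw [hS]
      constructor
      · intro h t ht
        have h5 := h ⟨t, cenL_map_le H x ht⟩ (by rw [mem_QH]; exact ht)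
        rw [mem_QH] at h5
        exact h5
      · intro h t ht
        rw [mem_QH] at ht ⊢
        exact h _ ht
    have h2 := card_subH H S
    have h3 : {ĝ : S2 F | ĝ ∈ Lof H ∧ prj F ĝ ∈ S} = nrmSet (Lof H) x := by
      ext g
      rw [hS]
      constructor
      · rintro ⟨hL, hSg⟩
        refine ⟨hL, ?_⟩
        have h5 := hSg (prj F x) (Subgroup.mem_map_of_mem _ (mem_cenL.2 ⟨hx, rfl⟩))
        rw [← map_inv, ← map_mul, ← map_mul] at h5
        exact (mem_cenL.1 ((map_prj_mem _ hCZ _).1 h5)).2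
      · rintro ⟨hL, hc⟩
        refine ⟨hL, ?_⟩
        rintro t ⟨c, hcC, rfl⟩
        rw [← map_inv, ← map_mul, ← map_mul]
        rw [map_prj_mem _ hCZ]
        have hcc := mem_cenL.1 hcC
        rw [mem_cenL]
        refine ⟨(Lof H).mul_mem ((Lof H).mul_mem hL hcc.1) ((Lof H).inv_mem hL), ?_⟩
        have hns : ¬ IsSc (g * x * g⁻¹) := fun h => hxs ((isSc_conj g x).1 h)
        exact comm_trans _ _ _ hns (conj_comm g c x hcc.2) hc.symm
    have h4 : Nat.card {ĝ : S2 F // ĝ ∈ Lof H ∧ prj F ĝ ∈ S} = cN (Lof H) x := by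
      unfold cN
      rw [← h3]
      rfl
    rw [h1]
    rw [h4, (hall x hx hxs).2, hA] at h2
    have h6 : Nat.card (Subgroup.center (S2 F)) * Nat.card {g : H // (g : P2 F) ∈ S}
        = Nat.card (Subgroup.center (S2 F)) * 6 := by linarith
    exact Nat.eq_of_mul_eq_mul_left hz h6
  · intro u hu1
    obtain ⟨û, hûL, hû⟩ := exists_lift H u
    have hûs : ¬ IsSc û := by
      intro h
      apply hu1
      apply Subtype.ext
      rw [← hû, (prj_eq_one_iff û).2 h]
      rfl
    obtain ⟨hcA, hcN⟩ := hall û hûL hûs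
    obtain ⟨g, hgL, hgn⟩ := exists_not_nrm (Lof H) û (by
      rw [hcN, hcard]
      rcases hcA with h | h | h <;> rw [h] <;> omega)
    refine ⟨⟨prj F g, hgL⟩, ?_⟩
    intro hcomm
    apply hgn
    apply nrm_of_prj_comm (Lof H) g û hgL
    have := congrArg Subtype.val hcomm
    rw [Subgroup.coe_mul, Subgroup.coe_mul, ← hû] at this
    exact this

theorem out_A5 [Finite F] (H : Subgroup (P2 F))
    (hcard : Nat.card (Lof H) = 60 * Nat.card (Subgroup.center (S2 F)))
    (hall : ∀ y ∈ Lof H, ¬ IsSc y →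
      (cA (Lof H) y = 2 * Nat.card (Subgroup.center (S2 F)) ∨
        cA (Lof H) y = 3 * Nat.card (Subgroup.center (S2 F)) ∨
        cA (Lof H) y = 5 * Nat.card (Subgroup.center (S2 F))) ∧
      cN (Lof H) y = 2 * cA (Lof H) y) :
    Nonempty (H ≃* alternatingGroup (Fin 5)) := by
  classical
  have hZ := center_le_Lof H
  have hz : 0 < Nat.card (Subgroup.center (S2 F)) := Nat.card_pos
  have hH : Nat.card H = 60 := by
    have := card_Lof H
    rw [hcard] at this
    have h2 : Nat.card (Subgroup.center (S2 F)) * 60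
        = Nat.card (Subgroup.center (S2 F)) * Nat.card H := by linarith
    exact (Nat.eq_of_mul_eq_mul_left hz h2).symm
  apply recog_A5 hH
  intro u hu1
  obtain ⟨û, hûL, hû⟩ := exists_lift H u
  have hûs : ¬ IsSc û := by
    intro h
    apply hu1
    apply Subtype.ext
    rw [← hû, (prj_eq_one_iff û).2 h]
    rfl
  obtain ⟨hcA, hcN⟩ := hall û hûL hûs
  have hQ := card_QH H û
  have hQle : QH H û ≤ Subgroup.centralizer {u} := by
    intro t ht
    rw [mem_QH] at ht
    obtain ⟨c, hcC, hct⟩ := ht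
    rw [Subgroup.mem_centralizer_iff]
    intro w hw
    rw [Set.mem_singleton_iff] at hw
    subst hw
    apply Subtype.ext
    rw [Subgroup.coe_mul, Subgroup.coe_mul, ← hct, ← hû, ← map_mul, ← map_mul,
      (mem_cenL.1 hcC).2]
  have hdvd := Subgroup.card_dvd_of_le hQle
  obtain ⟨S, hS⟩ : ∃ S : Set (P2 F), S = {g | g * prj F û = prj F û * g} := ⟨_, rfl⟩
  have h1 : Nat.card (Subgroup.centralizer ({u} : Set H)) = Nat.card {g : H // (g : P2 F) ∈ S} := by
    apply Nat.card_congr
    apply Equiv.subtypeEquivRight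
    intro g
    rw [hS, Subgroup.mem_centralizer_iff]
    constructor
    · intro h
      have h5 := congrArg Subtype.val (h u rfl)
      rw [Subgroup.coe_mul, Subgroup.coe_mul, ← hû] at h5
      exact h5.symm
    · intro h w hw
      rw [Set.mem_singleton_iff] at hw
      subst hw
      apply Subtype.ext
      rw [Subgroup.coe_mul, Subgroup.coe_mul, ← hû]
      exact h.symm
  have h2 := card_subH H S
  have h3 : Nat.card {ĝ : S2 F // ĝ ∈ Lof H ∧ prj F ĝ ∈ S} ≤ cN (Lof H) û := by
    unfold cN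
    apply Nat.card_mono (Set.toFinite _)
    rintro g ⟨hgL, hgS⟩
    rw [hS] at hgS
    exact nrm_of_prj_comm (Lof H) g û hgL hgS
  rw [← h2, hcN] at h3
  rcases hcA with h | h | h
  · refine ⟨2, Or.inl rfl, ?_, ?_⟩
    · have : Nat.card (QH H û) = 2 := by
        rw [h] at hQ
        have h6 : Nat.card (Subgroup.center (S2 F)) * 2
            = Nat.card (Subgroup.center (S2 F)) * Nat.card (QH H û) := by linarith
        exact (Nat.eq_of_mul_eq_mul_left hz h6).symm
      rw [this] at hdvd; exact hdvd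
    · rw [h1]
      rw [h] at h3
      have h6 : Nat.card (Subgroup.center (S2 F)) * Nat.card {g : H // (g : P2 F) ∈ S}
          ≤ Nat.card (Subgroup.center (S2 F)) * (2 * 2) := by linarith
      exact Nat.le_of_mul_le_mul_left h6 hz
  · refine ⟨3, Or.inr (Or.inl rfl), ?_, ?_⟩
    · have : Nat.card (QH H û) = 3 := by
        rw [h] at hQ
        have h6 : Nat.card (Subgroup.center (S2 F)) * 3
            = Nat.card (Subgroup.center (S2 F)) * Nat.card (QH H û) := by linarith
        exact (Nat.eq_of_mul_eq_mul_left hz h6).symm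
      rw [this] at hdvd; exact hdvd
    · rw [h1]
      rw [h] at h3
      have h6 : Nat.card (Subgroup.center (S2 F)) * Nat.card {g : H // (g : P2 F) ∈ S}
          ≤ Nat.card (Subgroup.center (S2 F)) * (2 * 3) := by linarith
      exact Nat.le_of_mul_le_mul_left h6 hz
  · refine ⟨5, Or.inr (Or.inr rfl), ?_, ?_⟩
    · have : Nat.card (QH H û) = 5 := by
        rw [h] at hQ
        have h6 : Nat.card (Subgroup.center (S2 F)) * 5
            = Nat.card (Subgroup.center (S2 F)) * Nat.card (QH H û) := by linarith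
        exact (Nat.eq_of_mul_eq_mul_left hz h6).symm
      rw [this] at hdvd; exact hdvd
    · rw [h1]
      rw [h] at h3
      have h6 : Nat.card (Subgroup.center (S2 F)) * Nat.card {g : H // (g : P2 F) ∈ S}
          ≤ Nat.card (Subgroup.center (S2 F)) * (2 * 5) := by linarith
      exact Nat.le_of_mul_le_mul_left h6 hz

end Dict

end Cfsg.Agent.Lib.Helper19.Dk
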