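import Mathlib
import Cfsg.Agent.Lib.Helper19.DkG

set_option autoImplicit false

namespace Cfsg.Agent.Lib.Helper19.Dk

open Matrix Cfsg.Agent.S0809

section Small

variable {F : Type*} [Field F]

theorem q_even [Fintype F] (p : ℕ) [Fact p.Prime] [CharP F p] (h2 : (2 : F) = 0) :
    Even (Fintype.card F) := by
  obtain ⟨n, hp, hq⟩ := FiniteField.card F p
  have hp2 : p ∣ 2 := (CharP.cast_eq_zero_iff F p 2).1 (by exact_mod_cast h2)
  have hp2' : p = 2 := (Nat.prime_dvd_prime_iff_eq hp Nat.prime_two).1 hp2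
  rw [hq, hp2']
  exact (Nat.even_pow' n.ne_zero).2 even_two

theorem q_odd [Fintype F] (p : ℕ) [Fact p.Prime] [CharP F p] (h2 : (2 : F) ≠ 0) :
    Odd (Fintype.card F) := by
  obtain ⟨n, hp, hq⟩ := FiniteField.card F p
  have hp2 : p ≠ 2 := by
    intro h
    apply h2
    have := CharP.cast_eq_zero F p
    rw [h] at this
    exact_mod_cast this
  rw [hq]
  exact (hp.odd_of_ne_two hp2).pow

theorem z_gcd [Fintype F] (p : ℕ) [Fact p.Prime] [CharP F p] :
    Nat.card (Subgroup.center (S2 F)) = Nat.gcd 2 (Fintype.card F - 1) := by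
  have hq2 : 2 ≤ Fintype.card F := Fintype.one_lt_card
  by_cases h2 : (2 : F) = 0
  · rw [center_card_one h2]
    obtain ⟨m, hm⟩ := q_even p h2
    have hodd : ¬ 2 ∣ Fintype.card F - 1 := by omega
    have hd := Nat.gcd_dvd_left 2 (Fintype.card F - 1)
    have hd' := Nat.gcd_dvd_right 2 (Fintype.card F - 1)
    rcases (Nat.dvd_prime Nat.prime_two).1 hd with h | h
    · exact h.symm
    · rw [h] at hd'; exact absurd hd' hodd
  · rw [center_card_two h2]
    obtain ⟨m, hm⟩ := q_odd p h2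
    exact (Nat.gcd_eq_left (by omega)).symm

theorem out_triv [Finite F] (H : Subgroup (P2 F)) (h : Lof H = Subgroup.center (S2 F)) :
    IsCyclic H ∧ Nat.card H = 1 := by
  have hz : 0 < Nat.card (Subgroup.center (S2 F)) := Nat.card_pos
  have h1 := card_Lof H
  rw [h] at h1
  have h2 : Nat.card H = 1 := by
    have : Nat.card (Subgroup.center (S2 F)) * Nat.card H
        = Nat.card (Subgroup.center (S2 F)) * 1 := by linarith
    exact Nat.eq_of_mul_eq_mul_left hz this
  haveI : Subsingleton H := (Nat.card_eq_one_iff_unique.1 h2).1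
  exact ⟨isCyclic_of_subsingleton, h2⟩

theorem out_cyc [Fintype F] (p : ℕ) [Fact p.Prime] [CharP F p] (H : Subgroup (P2 F)) (x : S2 F)
    (hss : tr x ^ 2 ≠ 4) (hall : ∀ g ∈ Lof H, g * x = x * g) :
    IsCyclic H ∧ (Nat.card (Subgroup.center (S2 F)) * Nat.card H ∣ Fintype.card F - 1 ∨
      Nat.card (Subgroup.center (S2 F)) * Nat.card H ∣ Fintype.card F + 1) := by
  have hLT : Lof H ≤ Subgroup.centralizer {x} := by
    intro g hg
    rw [Subgroup.mem_centralizer_iff]
    intro w hw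
    rw [Set.mem_singleton_iff] at hw
    rw [hw]; exact (hall g hg).symm
  haveI := centralizer_isCyclic x hss
  haveI h1 : IsCyclic ((Lof H).subgroupOf (Subgroup.centralizer {x})) := Subgroup.isCyclic _
  haveI h2 : IsCyclic (H.comap (prj F)) :=
    isCyclic_of_surjective (Subgroup.subgroupOfEquivOfLe hLT) (MulEquiv.surjective _)
  have h3 : IsCyclic H := isCyclic_of_surjective ((prj F).subgroupComap H)
    (MonoidHom.subgroupComap_surjective_of_surjective _ _ prj_surj)
  refine ⟨h3, ?_⟩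
  rw [← card_Lof H]
  have hd := Subgroup.card_dvd_of_le hLT
  rcases card_centralizer_dvd p x hss with h | h
  · left; exact hd.trans h
  · right; exact hd.trans h

theorem out_dih [Fintype F] (p : ℕ) [Fact p.Prime] [CharP F p] (H : Subgroup (P2 F)) (x : S2 F)
    (hx : x ∈ Lof H) (hss : tr x ^ 2 ≠ 4) (hcard : Nat.card (Lof H) = 2 * cA (Lof H) x) :
    ∃ n : ℕ, (Nat.card (Subgroup.center (S2 F)) * n ∣ Fintype.card F - 1 ∨
      Nat.card (Subgroup.center (S2 F)) * n ∣ Fintype.card F + 1) ∧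
      Nonempty (H ≃* DihedralGroup n) := by
  classical
  have hZ := center_le_Lof H
  have hz : 0 < Nat.card (Subgroup.center (S2 F)) := Nat.card_pos
  have hCle : cenL (Lof H) x ≤ Subgroup.centralizer {x} := inf_le_right
  have hCL : cenL (Lof H) x ≤ Lof H := inf_le_left
  have hQ := card_QH H x
  refine ⟨Nat.card (QH H x), ?_, ?_⟩
  · rw [← hQ]
    have hd : cA (Lof H) x ∣ Nat.card (Subgroup.centralizer {x}) := Subgroup.card_dvd_of_le hCle
    rcases card_centralizer_dvd p x hss with h | h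
    · left; exact hd.trans h
    · right; exact hd.trans h
  · apply recog_dih (Nat.card (QH H x)) (QH H x) ?_ rfl ?_ ?_
    · haveI := centralizer_isCyclic x hss
      haveI h1 : IsCyclic ((cenL (Lof H) x).subgroupOf (Subgroup.centralizer {x})) :=
        Subgroup.isCyclic _
      haveI h2 : IsCyclic (cenL (Lof H) x) :=
        isCyclic_of_surjective (Subgroup.subgroupOfEquivOfLe hCle) (MulEquiv.surjective _)
      haveI h3 : IsCyclic ((cenL (Lof H) x).map (prj F)) :=
        isCyclic_of_surjective ((prj F).subgroupMap (cenL (Lof H) x))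
          (MonoidHom.subgroupMap_surjective _ _)
      exact isCyclic_of_surjective (Subgroup.subgroupOfEquivOfLe (cenL_map_le H x)).symm
        (MulEquiv.surjective _)
    · have h1 := card_Lof H
      rw [hcard, hQ] at h1
      have : Nat.card (Subgroup.center (S2 F)) * (2 * Nat.card (QH H x))
          = Nat.card (Subgroup.center (S2 F)) * Nat.card H := by linarith
      exact (Nat.eq_of_mul_eq_mul_left hz this).symm
    · intro g hg
      obtain ⟨ĝ, hĝL, hĝ⟩ := exists_lift H g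
      have hĝC : ĝ ∉ cenL (Lof H) x := by
        intro h
        apply hg
        rw [mem_QH, ← hĝ]
        exact Subgroup.mem_map_of_mem _ h
      have hidx : ((cenL (Lof H) x).subgroupOf (Lof H)).index = 2 := by
        have h1 := Subgroup.card_mul_index ((cenL (Lof H) x).subgroupOf (Lof H))
        rw [Nat.card_congr (Subgroup.subgroupOfEquivOfLe hCL).toEquiv, hcard] at h1
        have hCpos : 0 < Nat.card (cenL (Lof H) x) := Nat.card_pos
        have h2 : Nat.card (cenL (Lof H) x) * ((cenL (Lof H) x).subgroupOf (Lof H)).index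
            = Nat.card (cenL (Lof H) x) * 2 := by
          rw [h1]
          unfold cA
          ring
        exact Nat.eq_of_mul_eq_mul_left hCpos h2
      have hnorm := Subgroup.normal_of_index_eq_two hidx
      have hxC : (⟨x, hx⟩ : Lof H) ∈ (cenL (Lof H) x).subgroupOf (Lof H) := by
        rw [Subgroup.mem_subgroupOf]; exact mem_cenL.2 ⟨hx, rfl⟩
      have h5 := hnorm.conj_mem _ hxC ⟨ĝ, hĝL⟩
      rw [Subgroup.mem_subgroupOf] at h5
      have h6 : ĝ * x * ĝ⁻¹ ∈ cenL (Lof H) x := h5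
      have h7 := (mem_cenL.1 h6).2
      rcases eq_or_inv x (ĝ * x * ĝ⁻¹) hss h7 (tr_conj ĝ x) with h8 | h8
      · exfalso
        apply hĝC
        rw [mem_cenL]
        exact ⟨hĝL, (conj_eq_iff ĝ x x).1 h8⟩
      · have h9 := sq_isSc_of_inv x ĝ hss h8
        apply Subtype.ext
        rw [Subgroup.coe_mul, ← hĝ, ← map_mul, (prj_eq_one_iff _).2 h9]
        rfl

/-- The upper unitriangular subgroup. -/
def UU (F : Type*) [Field F] : Subgroup (S2 F) where
  carrier := {g | g 1 0 = 0 ∧ g 0 0 = 1}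
  one_mem' := ⟨one10, one00⟩
  mul_mem' := by
    rintro a b ⟨ha1, ha2⟩ ⟨hb1, hb2⟩
    constructor
    · rw [mul10, ha1, hb1]; ring
    · rw [mul00, ha2, hb2, hb1]; ring
  inv_mem' := by
    rintro a ⟨ha1, ha2⟩
    constructor
    · rw [inv10, ha1]; ring
    · rw [inv00, bor_11 a ha1, ha2]; simp

theorem mem_UU (g : S2 F) : g ∈ UU F ↔ ∃ b, g = uu b := by
  constructor
  · rintro ⟨h1, h2⟩; exact ⟨g 0 1, eq_uu_of_bor g h1 h2⟩
  · rintro ⟨b, rfl⟩; exact ⟨uu_10 b, uu_00 b⟩

theorem card_UU [Fintype F] : Nat.card (UU F) = Fintype.card F := by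
  rw [← Nat.card_eq_fintype_card]
  symm
  apply Nat.card_congr
  exact Equiv.ofBijective (fun b => (⟨uu b, (mem_UU _).2 ⟨b, rfl⟩⟩ : UU F))
    ⟨fun a b h => uu_injective (congrArg Subtype.val h), fun ⟨g, hg⟩ => by
      obtain ⟨b, rfl⟩ := (mem_UU g).1 hg
      exact ⟨b, rfl⟩⟩

theorem card_PU [Fintype F] : Nat.card ((UU F).map (prj F)) = Fintype.card F := by
  rw [← card_UU]
  symm
  apply Nat.card_congr
  refine Equiv.ofBijective ((prj F).subgroupMap (UU F))
    ⟨?_, MonoidHom.subgroupMap_surjective _ _⟩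
  rintro ⟨a, ha⟩ ⟨b, hb⟩ h
  have h1 : prj F a = prj F b := congrArg Subtype.val h
  obtain ⟨a', rfl⟩ := (mem_UU a).1 ha
  obtain ⟨b', rfl⟩ := (mem_UU b).1 hb
  apply Subtype.ext
  have h2 : prj F ((uu a')⁻¹ * uu b') = 1 := by
    rw [map_mul, map_inv, h1, inv_mul_cancel]
  rw [prj_eq_one_iff, uu_inv, uu_mul] at h2
  have h3 : (-a' + b') = 0 := by
    by_contra hne
    exact not_isSc_uu _ hne h2
  have h4 : a' = b' := by linear_combination -h3
  rw [h4]

theorem card_P2 [Fintype F] :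
    Nat.gcd 2 (Fintype.card F - 1) * Nat.card (P2 F)
      = Fintype.card F * (Fintype.card F ^ 2 - 1) := by
  have h := Cfsg.Agent.S0243.card_psl (F := F) (q := Fintype.card F) rfl 2 (by norm_num)
  rw [Fin.prod_univ_two] at h
  have hq2 : 2 ≤ Fintype.card F := Fintype.one_lt_card
  obtain ⟨m, hm⟩ : ∃ m, Fintype.card F = m + 2 := ⟨Fintype.card F - 2, by omega⟩
  rw [hm] at h ⊢
  have e1 : (m + 2) ^ 2 - (m + 2) ^ ((0 : Fin 2) : ℕ) = (m + 1) * (m + 3) := by
    have : (m + 2) ^ 2 = (m + 1) * (m + 3) + 1 := by ring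
    simp only [Fin.val_zero, pow_zero]
    omega
  have e2 : (m + 2) ^ 2 - (m + 2) ^ ((1 : Fin 2) : ℕ) = (m + 1) * (m + 2) := by
    have : (m + 2) ^ 2 = (m + 1) * (m + 2) + (m + 2) := by ring
    simp only [Fin.val_one, pow_one]
    omega
  have e3 : m + 2 - 1 = m + 1 := by omega
  have e4 : (m + 2) ^ 2 - 1 = (m + 1) * (m + 3) := by
    have : (m + 2) ^ 2 = (m + 1) * (m + 3) + 1 := by ring
    omega
  rw [e1, e2, e3] at h
  rw [e3, e4]
  have h5 : (m + 1) * (Nat.gcd 2 (m + 1) * Nat.card (P2 F))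
      = (m + 1) * ((m + 2) * ((m + 1) * (m + 3))) := by
    calc (m + 1) * (Nat.gcd 2 (m + 1) * Nat.card (P2 F))
        = Nat.gcd 2 (m + 1) * ((m + 1) * Nat.card (P2 F)) := by ring
      _ = (m + 1) * (m + 3) * ((m + 1) * (m + 2)) := h
      _ = (m + 1) * ((m + 2) * ((m + 1) * (m + 3))) := by ring
  exact Nat.eq_of_mul_eq_mul_left (by omega) h5

theorem out_bor [Fintype F] (p : ℕ) [Fact p.Prime] [CharP F p] (H : Subgroup (P2 F)) (g : S2 F)
    (hg : ∀ ℓ ∈ Lof H, (g * ℓ * g⁻¹) 1 0 = 0) :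
    ∃ (P : Sylow p (P2 F)) (K : Subgroup (P2 F)),
      K ≤ Subgroup.normalizer ((P : Subgroup (P2 F)) : Set (P2 F)) ∧ Nonempty (H ≃* K) := by
  obtain ⟨n, hp, hq⟩ := FiniteField.card F p
  have hpg : IsPGroup p ((UU F).map (prj F)) :=
    IsPGroup.of_card (n := n) (by rw [card_PU, hq])
  have hidx : ¬ p ∣ ((UU F).map (prj F)).index := by
    intro hdvd
    have h1 := Subgroup.card_mul_index ((UU F).map (prj F))
    rw [card_PU] at h1
    have h2 := card_P2 (F := F)
    rw [← h1] at h2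
    have hq2 : 2 ≤ Fintype.card F := Fintype.one_lt_card
    have h3 : Nat.gcd 2 (Fintype.card F - 1) * ((UU F).map (prj F)).index
        = Fintype.card F ^ 2 - 1 := by
      have h4 : Fintype.card F * (Nat.gcd 2 (Fintype.card F - 1) * ((UU F).map (prj F)).index)
          = Fintype.card F * (Fintype.card F ^ 2 - 1) := by
        rw [← h2]; ring
      exact Nat.eq_of_mul_eq_mul_left (by omega) h4
    have h5 : p ∣ Fintype.card F ^ 2 - 1 := by
      rw [← h3]; exact Dvd.dvd.mul_left hdvd _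
    have h6 : p ∣ Fintype.card F ^ 2 := by
      rw [hq, ← pow_mul]
      exact dvd_pow_self p (by positivity)
    have h7 : 1 ≤ Fintype.card F ^ 2 := Nat.one_le_pow _ _ (by omega)
    have h8 : p ∣ 1 := by
      have := (Nat.dvd_sub h6 h5)
      rwa [Nat.sub_sub_self h7] at this
    exact hp.one_lt.ne' (Nat.dvd_one.1 h8)
  refine ⟨hpg.toSylow hidx, H.map (MulAut.conj (prj F g)).toMonoidHom, ?_,
    ⟨Subgroup.equivMapOfInjective H _ (MulEquiv.injective _)⟩⟩
  rintro k ⟨h, hh, rfl⟩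
  obtain ⟨ℓ, hℓL, hℓ⟩ := exists_lift H ⟨h, hh⟩
  change _ ∈ Subgroup.normalizer (((UU F).map (prj F) : Subgroup (P2 F)) : Set (P2 F))
  rw [mem_normalizer_fin]
  rintro t ⟨u, hu, rfl⟩
  obtain ⟨b, rfl⟩ := (mem_UU u).1 hu
  have e : (MulAut.conj (prj F g)).toMonoidHom h = prj F (g * ℓ * g⁻¹) := by
    rw [map_mul, map_mul, map_inv, hℓ]
    rfl
  rw [e, ← map_inv, ← map_mul, ← map_mul, conj_uu _ (hg ℓ hℓL)]
  exact Subgroup.mem_map_of_mem _ ((mem_UU _).2 ⟨_, rfl⟩)

end Small

end Cfsg.Agent.Lib.Helper19.Dk
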