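import Mathlib
import Cfsg.Agent.Lib.Helper19.DkE

set_option autoImplicit false

namespace Cfsg.Agent.Lib.Helper19.Dk

open Matrix Cfsg.Agent.S0809

section Norm

variable {F : Type*} [Field F]

/-- Conjugation by `diag(d, 1)`. -/
def dconj (d : F) (hd : d ≠ 0) : S2 F ≃* S2 F where
  toFun g := mk2 (g 0 0) (d * g 0 1) (g 1 0 / d) (g 1 1) (by
    have := det2 g
    field_simp
    linear_combination this)
  invFun g := mk2 (g 0 0) (g 0 1 / d) (d * g 1 0) (g 1 1) (by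
    have := det2 g
    field_simp
    linear_combination this)
  left_inv g := by
    apply ext2 <;> simp only [mk2_00, mk2_01, mk2_10, mk2_11] <;> field_simp
  right_inv g := by
    apply ext2 <;> simp only [mk2_00, mk2_01, mk2_10, mk2_11] <;> field_simp
  map_mul' g h := by
    apply ext2 <;> simp only [mul00, mul01, mul10, mul11, mk2_00, mk2_01, mk2_10, mk2_11] <;>
      field_simp <;> ring

theorem dconj_00 (d : F) (hd : d ≠ 0) (g : S2 F) : (dconj d hd g) 0 0 = g 0 0 := rfl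

theorem dconj_uu (d : F) (hd : d ≠ 0) (b : F) : dconj d hd (uu b) = uu (d * b) := by
  apply ext2
  · rfl
  · rfl
  · show (uu b) 1 0 / d = 0
    rw [uu_10, zero_div]
  · rfl

theorem map_trans (L : Subgroup (S2 F)) (e₁ e₂ : S2 F ≃* S2 F) :
    L.map (e₁.trans e₂).toMonoidHom = (L.map e₁.toMonoidHom).map e₂.toMonoidHom := by
  rw [Subgroup.map_map]
  rfl

/-- Normal form. -/
structure NF (L : Subgroup (S2 F)) (q' : ℕ) : Prop where
  hZ : Subgroup.center (S2 F) ≤ L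
  h1 : uu 1 ∈ L
  hw : ∃ w ∈ L, w 0 0 = 0
  hB : Nat.card (BB L) = q'
  hT : Nat.card (TT L) = q'

theorem data_map (θ : S2 F ≃* S2 F) (L : Subgroup (S2 F)) (x y : S2 F) (hxy : θ x = y)
    (a n c : ℕ) (hA : cA L x = a) (hN : cN L x = n) (hc : Nat.card L = c) :
    cA (L.map θ.toMonoidHom) y = a ∧ cN (L.map θ.toMonoidHom) y = n ∧
      Nat.card (L.map θ.toMonoidHom) = c := by
  subst hxy
  exact ⟨by rw [cA_map, hA], by rw [cN_map, hN], by rw [card_map, hc]⟩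

theorem bb_tt_card [Finite F] (L : Subgroup (S2 F)) (hZ : Subgroup.center (S2 F) ≤ L) (b : F)
    (hb : b ≠ 0) (q' k : ℕ) (hq : 1 ≤ q') (hk : 1 ≤ k)
    (hcA : cA L (uu b) = Nat.card (Subgroup.center (S2 F)) * q')
    (hcN : cN L (uu b) = Nat.card (Subgroup.center (S2 F)) * k * q')
    (hcard : Nat.card L = Nat.card (Subgroup.center (S2 F)) * k * q' * (1 + q')) :
    Nat.card (BB L) = q' ∧ Nat.card (TT L) = q' := by
  have hz : 0 < Nat.card (Subgroup.center (S2 F)) := Nat.card_pos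
  constructor
  · have := cA_uu L hZ b hb
    rw [hcA] at this
    exact (Nat.eq_of_mul_eq_mul_left hz this).symm
  · have h1 := card_L_eq L
    rw [← cN_uu L b hb, hcN, hcard] at h1
    have hpos : 0 < Nat.card (Subgroup.center (S2 F)) * k * q' := by positivity
    have := Nat.eq_of_mul_eq_mul_left hpos h1
    omega

theorem exists_nf_aux [Finite F] (L : Subgroup (S2 F)) (hZ : Subgroup.center (S2 F) ≤ L)
    (b₀ : F) (hb₀ : b₀ ≠ 0) (hL : uu b₀ ∈ L) (q' k : ℕ) (hq : 1 ≤ q') (hk : 1 ≤ k)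
    (hcA : cA L (uu b₀) = Nat.card (Subgroup.center (S2 F)) * q')
    (hcN : cN L (uu b₀) = Nat.card (Subgroup.center (S2 F)) * k * q')
    (hcard : Nat.card L = Nat.card (Subgroup.center (S2 F)) * k * q' * (1 + q')) :
    ∃ θ : S2 F ≃* S2 F, NF (L.map θ.toMonoidHom) q' := by
  obtain ⟨hB, hT⟩ := bb_tt_card L hZ b₀ hb₀ q' k hq hk hcA hcN hcard
  have hne : Nonempty (TT L) := (Nat.card_pos_iff.1 (by omega)).1
  obtain ⟨⟨τ, w₁, hw₁L, hw₁10, hτ⟩⟩ := hne
  have hfix : (MulAut.conj (uu (-τ))) (uu b₀) = uu b₀ := by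
    rw [MulAut.conj_apply, uu_inv, uu_mul, uu_mul]
    congr 1
    ring
  have hθ₃ : (dconj (1 / b₀) (one_div_ne_zero hb₀)) (uu b₀) = uu 1 := by
    rw [dconj_uu]
    congr 1
    field_simp
  refine ⟨(MulAut.conj (uu (-τ))).trans (dconj (1 / b₀) (one_div_ne_zero hb₀)), ?_⟩
  rw [map_trans]
  have hZ₂ := center_le_map L hZ (MulAut.conj (uu (-τ)))
  have hZ₃ := center_le_map _ hZ₂ (dconj (1 / b₀) (one_div_ne_zero hb₀))
  have huu₂ : uu b₀ ∈ L.map (MulAut.conj (uu (-τ))).toMonoidHom := by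
    rw [← hfix]
    exact (mem_map_equiv' _ L _).2 hL
  obtain ⟨d1, d2, d3⟩ := data_map (MulAut.conj (uu (-τ))) L _ _ hfix _ _ _ hcA hcN hcard
  obtain ⟨e1, e2, e3⟩ := data_map (dconj (1 / b₀) (one_div_ne_zero hb₀)) _ _ _ hθ₃ _ _ _ d1 d2 d3
  obtain ⟨hB₃, hT₃⟩ := bb_tt_card _ hZ₃ 1 one_ne_zero q' k hq hk e1 e2 e3
  refine ⟨hZ₃, ?_, ⟨(dconj (1 / b₀) (one_div_ne_zero hb₀)) ((MulAut.conj (uu (-τ))) w₁),
    (mem_map_equiv' _ _ _).2 ((mem_map_equiv' _ L _).2 hw₁L), ?_⟩, hB₃, hT₃⟩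
  · rw [← hθ₃]
    exact (mem_map_equiv' _ _ _).2 huu₂
  · rw [dconj_00, MulAut.conj_apply, uu_inv, neg_neg, mul00, mul00, mul01]
    simp only [uu_00, uu_01, uu_10, uu_11]
    rw [hτ]
    field_simp
    ring

theorem exists_nf [Finite F] (L : Subgroup (S2 F)) (hZ : Subgroup.center (S2 F) ≤ L)
    (x₀ : S2 F) (hx₀ : x₀ ∈ L) (hsc : ¬ IsSc x₀) (h4 : tr x₀ ^ 2 = 4) (q' k : ℕ) (hq : 1 ≤ q')
    (hk : 1 ≤ k)
    (hcA : cA L x₀ = Nat.card (Subgroup.center (S2 F)) * q')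
    (hcN : cN L x₀ = Nat.card (Subgroup.center (S2 F)) * k * q')
    (hcard : Nat.card L = Nat.card (Subgroup.center (S2 F)) * k * q' * (1 + q')) :
    ∃ θ : S2 F ≃* S2 F, NF (L.map θ.toMonoidHom) q' ∧
      Nat.card (L.map θ.toMonoidHom)
        = Nat.card (Subgroup.center (S2 F)) * k * q' * (1 + q') := by
  obtain ⟨x₁, hx₁L, hsc₁, htr₁, hcomm⟩ := exists_tr_two L hZ x₀ hx₀ hsc h4
  have D := ctd L hZ
  have hn0 : x₀ ∉ Subgroup.center (S2 F) := fun h => hsc ((isSc_iff_center _).2 h)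
  have hn1 : x₁ ∉ Subgroup.center (S2 F) := fun h => hsc₁ ((isSc_iff_center _).2 h)
  have hA : cA L x₀ = cA L x₁ := cA_of_comm D hn0 hn1 hcomm
  have hN : cN L x₀ = cN L x₁ := cN_of_comm D hn0 hn1 hcomm
  obtain ⟨g, b, hb, hgb⟩ := exists_conj_uu x₁ htr₁ hsc₁
  have hconj : (MulAut.conj g) x₁ = uu b := by rw [MulAut.conj_apply]; exact hgb
  obtain ⟨d1, d2, d3⟩ := data_map (MulAut.conj g) L x₁ (uu b) hconj _ _ _
    (hA.symm.trans hcA) (hN.symm.trans hcN) hcard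
  have hZ' := center_le_map L hZ (MulAut.conj g)
  have hL' : uu b ∈ L.map (MulAut.conj g).toMonoidHom := by
    rw [← hconj]
    exact (mem_map_equiv' _ L x₁).2 hx₁L
  obtain ⟨θ, hθ⟩ := exists_nf_aux (L.map (MulAut.conj g).toMonoidHom) hZ' b hb hL' q' k hq hk
    d1 d2 d3
  refine ⟨(MulAut.conj g).trans θ, ?_, ?_⟩
  · rw [map_trans]; exact hθ
  · rw [map_trans, card_map, card_map, hcard]

end Norm

section Struct

variable {F : Type*} [Field F] [Finite F] {L : Subgroup (S2 F)} {q' : ℕ}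

omit [Finite F] in
theorem nf_w10 (w : S2 F) (h0 : w 0 0 = 0) : w 1 0 ≠ 0 := by
  intro h
  have := det2 w
  rw [h0, h] at this
  simp at this

omit [Finite F] in
theorem bb_sub_tt (h : NF L q') (b : F) (hb : b ∈ BB L) : b ∈ TT L := by
  obtain ⟨w, hwL, hw0⟩ := h.hw
  have hw1 := nf_w10 w hw0
  refine ⟨uu b * w, L.mul_mem hb hwL, ?_, ?_⟩
  · rw [mul10]
    simp only [uu_10, uu_11, zero_mul, one_mul, zero_add]
    exact hw1
  · rw [mul10, mul00]
    simp only [uu_00, uu_01, uu_10, uu_11, hw0, mul_zero, zero_mul, zero_add, one_mul]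
    rw [mul_div_assoc, div_self hw1, mul_one]

theorem tt_eq_bb (h : NF L q') : TT L = (BB L : Set F) := by
  symm
  apply Set.eq_of_subset_of_ncard_le (fun b hb => bb_sub_tt h b hb) _ (Set.toFinite _)
  rw [← Nat.card_coe_set_eq, ← Nat.card_coe_set_eq, h.hT]
  exact le_of_eq h.hB.symm

theorem tt_mem (h : NF L q') (g : S2 F) (hg : g ∈ L) (h10 : g 1 0 ≠ 0) :
    g 0 0 / g 1 0 ∈ BB L := by
  have h1 : g 0 0 / g 1 0 ∈ TT L := ⟨g, hg, h10, rfl⟩
  rw [tt_eq_bb h] at h1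
  exact h1

theorem tt_mem' (h : NF L q') (g : S2 F) (hg : g ∈ L) (h10 : g 1 0 ≠ 0) :
    g 1 1 / g 1 0 ∈ BB L := by
  have h1 := tt_mem h g⁻¹ (L.inv_mem hg) (by rw [inv10]; exact neg_ne_zero.2 h10)
  rw [inv00, inv10] at h1
  have h2 := (BB L).neg_mem h1
  have e : -(g 1 1 / -g 1 0) = g 1 1 / g 1 0 := by field_simp
  rw [e] at h2
  exact h2

/-- The monomial element. -/
def nn (c : F) (hc : c ≠ 0) : S2 F := mk2 0 (-c⁻¹) c 0 (by
  rw [zero_mul, zero_sub, neg_mul, neg_neg, inv_mul_cancel₀ hc])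

theorem exists_nn (h : NF L q') : ∃ (c : F) (hc : c ≠ 0), nn c hc ∈ L := by
  obtain ⟨w, hwL, hw0⟩ := h.hw
  have hw1 := nf_w10 w hw0
  refine ⟨w 1 0, hw1, ?_⟩
  have hb := (BB L).neg_mem (tt_mem' h w hwL hw1)
  have hmem : w * uu (-(w 1 1 / w 1 0)) ∈ L := L.mul_mem hwL hb
  have e : w * uu (-(w 1 1 / w 1 0)) = nn (w 1 0) hw1 := by
    have hd := det2 w
    rw [hw0] at hd
    apply ext2 <;> simp only [mul00, mul01, mul10, mul11, uu_00, uu_01, uu_10, uu_11, nn, mk2_00,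
      mk2_01, mk2_10, mk2_11, hw0]
    · ring
    · field_simp
      linear_combination -hd
    · ring
    · field_simp
      ring
  rw [e] at hmem
  exact hmem

omit [Finite F] in
theorem nn_conj_uu (c : F) (hc : c ≠ 0) (b : F) :
    nn c hc * uu b * (nn c hc)⁻¹ = ll (-(c ^ 2 * b)) := by
  apply ext2 <;> simp only [mul00, mul01, mul10, mul11, inv00, inv01, inv10, inv11, uu_00, uu_01,
    uu_10, uu_11, ll_00, ll_01, ll_10, ll_11, nn, mk2_00, mk2_01, mk2_10, mk2_11] <;>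
    field_simp <;> ring

omit [Finite F] in
theorem ll_mem_of (c : F) (hc : c ≠ 0) (hn : nn c hc ∈ L) (b : F) (hb : b ∈ BB L) :
    ll (-(c ^ 2 * b)) ∈ L := by
  rw [← nn_conj_uu c hc b]
  exact L.mul_mem (L.mul_mem hn hb) (L.inv_mem hn)

theorem bb_inv_c (h : NF L q') (c : F) (hc : c ≠ 0) (hn : nn c hc ∈ L) (b : F) (hb : b ∈ BB L)
    (hb0 : b ≠ 0) : (c ^ 2 * b)⁻¹ ∈ BB L := by
  have h1 := ll_mem_of c hc hn b hb
  have h2 := tt_mem h _ h1 (by
    rw [ll_10]; exact neg_ne_zero.2 (mul_ne_zero (pow_ne_zero 2 hc) hb0))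
  rw [ll_00, ll_10] at h2
  have h3 := (BB L).neg_mem h2
  have e : -(1 / -(c ^ 2 * b)) = (c ^ 2 * b)⁻¹ := by field_simp
  rw [e] at h3
  exact h3

/-- The monomial element with entry `b`. -/
def mm (b : F) (hb : b ≠ 0) : S2 F := mk2 0 b (-b⁻¹) 0 (by
  rw [zero_mul, zero_sub, mul_neg, neg_neg, mul_inv_cancel₀ hb])

omit [Finite F] in
theorem mm_eq (b : F) (hb : b ≠ 0) : mm b hb = uu b * ll (-b⁻¹) * uu b := by
  apply ext2 <;> simp only [mul00, mul01, mul10, mul11, uu_00, uu_01, uu_10, uu_11, ll_00, ll_01,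
    ll_10, ll_11, mm, mk2_00, mk2_01, mk2_10, mk2_11] <;> field_simp <;> ring

theorem mm_mem (h : NF L q') (c : F) (hc : c ≠ 0) (hn : nn c hc ∈ L) (b : F) (hb : b ∈ BB L)
    (hb0 : b ≠ 0) : mm b hb0 ∈ L := by
  rw [mm_eq]
  have h1 := ll_mem_of c hc hn _ (bb_inv_c h c hc hn b hb hb0)
  have e : -(c ^ 2 * (c ^ 2 * b)⁻¹) = -b⁻¹ := by field_simp
  rw [e] at h1
  exact L.mul_mem (L.mul_mem hb h1) hb

/-- The diagonal element. -/
def dd (b : F) (hb : b ≠ 0) : S2 F := mk2 b 0 0 b⁻¹ (by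
  rw [mul_inv_cancel₀ hb, zero_mul, sub_zero])

omit [Finite F] in
theorem dd_eq (b : F) (hb : b ≠ 0) : dd b hb = mm b hb * (mm 1 one_ne_zero)⁻¹ := by
  apply ext2 <;> simp only [mul00, mul01, mul10, mul11, inv00, inv01, inv10, inv11, mm, dd,
    mk2_00, mk2_01, mk2_10, mk2_11] <;> field_simp <;> ring

theorem dd_mem (h : NF L q') (c : F) (hc : c ≠ 0) (hn : nn c hc ∈ L) (b : F) (hb : b ∈ BB L)
    (hb0 : b ≠ 0) : dd b hb0 ∈ L := by
  rw [dd_eq]
  exact L.mul_mem (mm_mem h c hc hn b hb hb0)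
    (L.inv_mem (mm_mem h c hc hn 1 h.h1 one_ne_zero))

theorem sq_mul_mem (h : NF L q') (c : F) (hc : c ≠ 0) (hn : nn c hc ∈ L) (b y : F)
    (hb : b ∈ BB L) (hb0 : b ≠ 0) (hy : y ∈ BB L) : b ^ 2 * y ∈ BB L := by
  have h1 := conj_uu (dd b hb0) rfl y
  have hd := dd_mem h c hc hn b hb hb0
  have h2 : dd b hb0 * uu y * (dd b hb0)⁻¹ ∈ L := L.mul_mem (L.mul_mem hd hy) (L.inv_mem hd)
  rw [h1] at h2
  exact h2

theorem sq_mem_bb (h : NF L q') (c : F) (hc : c ≠ 0) (hn : nn c hc ∈ L) (b : F)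
    (hb : b ∈ BB L) : b ^ 2 ∈ BB L := by
  by_cases hb0 : b = 0
  · rw [hb0]
    have := (BB L).zero_mem
    simpa using this
  · have := sq_mul_mem h c hc hn b 1 hb hb0 h.h1
    rwa [mul_one] at this

theorem mul_mem_bb (p : ℕ) [Fact p.Prime] [CharP F p] (h : NF L q') (c : F) (hc : c ≠ 0)
    (hn : nn c hc ∈ L) (x y : F) (hx : x ∈ BB L) (hy : y ∈ BB L) : x * y ∈ BB L := by
  by_cases h2 : (2 : F) = 0
  · let f : BB L → BB L := fun b => ⟨(b : F) ^ 2, sq_mem_bb h c hc hn b b.2⟩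
    have hinj : Function.Injective f := by
      intro a b hab
      have h1 : (a : F) ^ 2 = (b : F) ^ 2 := congrArg Subtype.val hab
      apply Subtype.ext
      have h3 : ((a : F) - b) ^ 2 = 0 := by
        linear_combination h1 + ((b : F) ^ 2 - a * b) * h2
      have h4 := (pow_eq_zero_iff (two_ne_zero)).1 h3
      linear_combination h4
    obtain ⟨b, hb⟩ := Finite.surjective_of_injective hinj ⟨x, hx⟩
    have hbx : (b : F) ^ 2 = x := congrArg Subtype.val hb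
    by_cases hb0 : (b : F) = 0
    · rw [← hbx, hb0]
      have := (BB L).zero_mem
      simpa using this
    · rw [← hbx]
      exact sq_mul_mem h c hc hn b y b.2 hb0 hy
  · have hs := sq_mem_bb h c hc hn
    have h3 : 2 * (x * y) ∈ BB L := by
      have := (BB L).sub_mem ((BB L).sub_mem (hs (x + y) ((BB L).add_mem hx hy)) (hs x hx))
        (hs y hy)
      have e : (x + y) ^ 2 - x ^ 2 - y ^ 2 = 2 * (x * y) := by ring
      rwa [e] at this
    have hp2 : p ≠ 2 := by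
      intro hp
      apply h2
      have := CharP.cast_eq_zero F p
      rw [hp] at this
      exact_mod_cast this
    obtain ⟨m, hm⟩ := (Fact.out : p.Prime).odd_of_ne_two hp2
    have h4 := (BB L).nsmul_mem h3 (m + 1)
    have e : (m + 1) • (2 * (x * y)) = x * y := by
      rw [nsmul_eq_mul]
      have hpF : ((p : ℕ) : F) = 0 := CharP.cast_eq_zero F p
      rw [hm] at hpF
      push_cast at hpF ⊢
      linear_combination (x * y) * hpF
    rwa [e] at h4

theorem inv_mem_bb (p : ℕ) [Fact p.Prime] [CharP F p] (h : NF L q') (c : F) (hc : c ≠ 0)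
    (hn : nn c hc ∈ L) (b : F) (hb : b ∈ BB L) (hb0 : b ≠ 0) : b⁻¹ ∈ BB L := by
  have he := bb_inv_c h c hc hn 1 h.h1 one_ne_zero
  have hee := mul_mem_bb p h c hc hn _ _ he he
  have hc2 : c ^ 2 ∈ BB L := by
    have hne : (c ^ 2 * 1)⁻¹ * (c ^ 2 * 1)⁻¹ ≠ 0 := by
      have : (c ^ 2 * 1)⁻¹ ≠ 0 := inv_ne_zero (mul_ne_zero (pow_ne_zero 2 hc) one_ne_zero)
      exact mul_ne_zero this this
    have := bb_inv_c h c hc hn _ hee hne
    have e : (c ^ 2 * ((c ^ 2 * 1)⁻¹ * (c ^ 2 * 1)⁻¹))⁻¹ = c ^ 2 := by field_simp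
    rwa [e] at this
  have := mul_mem_bb p h c hc hn _ _ hc2 (bb_inv_c h c hc hn b hb hb0)
  have e : c ^ 2 * (c ^ 2 * b)⁻¹ = b⁻¹ := by field_simp
  rwa [e] at this

theorem ll_mem (p : ℕ) [Fact p.Prime] [CharP F p] (h : NF L q') (c : F) (hc : c ≠ 0)
    (hn : nn c hc ∈ L) (y : F) (hy : y ∈ BB L) : ll y ∈ L := by
  have he := bb_inv_c h c hc hn 1 h.h1 one_ne_zero
  have hb : -(y * (c ^ 2 * 1)⁻¹) ∈ BB L := (BB L).neg_mem (mul_mem_bb p h c hc hn _ _ hy he)
  have := ll_mem_of c hc hn _ hb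
  have e : -(c ^ 2 * -(y * (c ^ 2 * 1)⁻¹)) = y := by field_simp
  rwa [e] at this

theorem sl_sub (p : ℕ) [Fact p.Prime] [CharP F p] (h : NF L q') (g : S2 F)
    (hg : ∀ i j, g i j ∈ BB L) : g ∈ L := by
  obtain ⟨c, hc, hn⟩ := exists_nn h
  have key : ∀ g : S2 F, (∀ i j, g i j ∈ BB L) → g 1 0 ≠ 0 → g ∈ L := by
    intro g hg h10
    rw [eq_uu_ll_uu g h10]
    have hdiv : ∀ a b : F, a ∈ BB L → b ∈ BB L → b ≠ 0 → a / b ∈ BB L := by
      intro a b ha hb hb0
      rw [div_eq_mul_inv]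
      exact mul_mem_bb p h c hc hn _ _ ha (inv_mem_bb p h c hc hn b hb hb0)
    have h1 : (g 0 0 - 1) / g 1 0 ∈ BB L :=
      hdiv _ _ ((BB L).sub_mem (hg 0 0) h.h1) (hg 1 0) h10
    have h2 : (g 1 1 - 1) / g 1 0 ∈ BB L :=
      hdiv _ _ ((BB L).sub_mem (hg 1 1) h.h1) (hg 1 0) h10
    exact L.mul_mem (L.mul_mem h1 (ll_mem p h c hc hn _ (hg 1 0))) h2
  by_cases h10 : g 1 0 = 0
  · have h00 := bor_00_ne g h10
    have hmem : ll 1 * g ∈ L := by
      apply key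
      · intro i j
        fin_cases i <;> fin_cases j
        · show (ll (1 : F) * g : S2 F) 0 0 ∈ BB L
          rw [mul00]
          simp only [ll_00, ll_01, one_mul, zero_mul, add_zero]
          exact hg 0 0
        · show (ll (1 : F) * g : S2 F) 0 1 ∈ BB L
          rw [mul01]
          simp only [ll_00, ll_01, one_mul, zero_mul, add_zero]
          exact hg 0 1
        · show (ll (1 : F) * g : S2 F) 1 0 ∈ BB L
          rw [mul10]
          simp only [ll_10, ll_11, one_mul]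
          exact (BB L).add_mem (hg 0 0) (hg 1 0)
        · show (ll (1 : F) * g : S2 F) 1 1 ∈ BB L
          rw [mul11]
          simp only [ll_10, ll_11, one_mul]
          exact (BB L).add_mem (hg 0 1) (hg 1 1)
      · rw [mul10]
        simp only [ll_10, ll_11, one_mul, h10, add_zero]
        exact h00
    have h1 : ll (-1) ∈ L := ll_mem p h c hc hn _ ((BB L).neg_mem h.h1)
    have e : g = ll (-1) * (ll 1 * g) := by
      rw [← mul_assoc, ll_mul, neg_add_cancel, ll_zero, one_mul]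
    rw [e]
    exact L.mul_mem h1 hmem
  · exact key g hg h10

/-- The subfield. -/
theorem exists_subfield (p : ℕ) [Fact p.Prime] [CharP F p] (h : NF L q') :
    ∃ Kf : Subfield F, ∀ y : F, y ∈ Kf ↔ y ∈ BB L := by
  obtain ⟨c, hc, hn⟩ := exists_nn h
  refine ⟨{ carrier := (BB L : Set F)
            mul_mem' := fun hx hy => mul_mem_bb p h c hc hn _ _ hx hy
            one_mem' := h.h1
            add_mem' := fun hx hy => (BB L).add_mem hx hy
            zero_mem' := (BB L).zero_mem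
            neg_mem' := fun hx => (BB L).neg_mem hx
            inv_mem' := fun x hx => by
              by_cases hx0 : x = 0
              · rw [hx0, _root_.inv_zero]; exact (BB L).zero_mem
              · exact inv_mem_bb p h c hc hn x hx hx0 }, fun y => Iff.rfl⟩

end Struct

end Cfsg.Agent.Lib.Helper19.Dk
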