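import Mathlib
import Cfsg.Agent.Lib.Helper19.DkH
import Cfsg.Agent.Lib.Helper19.DkI
import Cfsg.Agent.S0265
import Cfsg.Agent.S0805

set_option autoImplicit false

namespace Cfsg.Agent.Lib.Helper19.Dk

open Matrix Cfsg.Agent.S0809

section Iso

variable {F : Type*} [Field F] {K : Type*} [Field K]

theorem slmap_entry (ι : K →+* F) (g : S2 K) (i j : Fin 2) :
    (SpecialLinearGroup.map ι g) i j = ι (g i j) := rfl

theorem slmap_inj (ι : K →+* F) : Function.Injective (SpecialLinearGroup.map (n := Fin 2) ι) := by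
  intro a b hab
  apply ext2 <;> apply ι.injective <;> rw [← slmap_entry, ← slmap_entry, hab]

theorem isSc_slmap (ι : K →+* F) (g : S2 K) : IsSc (SpecialLinearGroup.map ι g) ↔ IsSc g := by
  unfold IsSc
  rw [slmap_entry, slmap_entry, slmap_entry, slmap_entry]
  constructor
  · rintro ⟨h1, h2, h3⟩
    exact ⟨ι.injective (by rw [h1, map_zero]), ι.injective (by rw [h2, map_zero]),
      ι.injective h3⟩
  · rintro ⟨h1, h2, h3⟩
    exact ⟨by rw [h1, map_zero], by rw [h2, map_zero], by rw [h3]⟩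

theorem card_S2 [Fintype K] :
    Nat.card (S2 K) = Fintype.card K * (Fintype.card K ^ 2 - 1) := by
  have h := Cfsg.Agent.S0243.card_sl (F := K) (q := Fintype.card K) rfl 2 (by norm_num)
  rw [Fin.prod_univ_two] at h
  have hq2 : 2 ≤ Fintype.card K := Fintype.one_lt_card
  obtain ⟨m, hm⟩ : ∃ m, Fintype.card K = m + 2 := ⟨Fintype.card K - 2, by omega⟩
  rw [hm] at h ⊢
  have e1 : (m + 2) ^ 2 - (m + 2) ^ ((0 : Fin 2) : ℕ) = (m + 1) * (m + 3) := by
    have : (m + 2) ^ 2 = (m + 1) * (m + 3) + 1 := by ring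
    simp only [Fin.val_zero, pow_zero]
    omega
  have e2 : (m + 2) ^ 2 - (m + 2) ^ ((1 : Fin 2) : ℕ) = (m + 1) * (m + 2) := by
    have : (m + 2) ^ 2 = (m + 1) * (m + 2) + (m + 2) := by ring
    simp only [Fin.val_one, pow_one]
    omega
  have e3 : m + 2 - 1 = m + 1 := by omega
  have e4 : (m + 2) ^ 2 - 1 = (m + 1) * (m + 3) := by
    have : (m + 2) ^ 2 = (m + 1) * (m + 3) + 1 := by ring
    omega
  rw [e1, e2, e3] at h
  rw [e4]
  have h5 : (m + 1) * Nat.card (S2 K) = (m + 1) * ((m + 2) * ((m + 1) * (m + 3))) := by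
    rw [h]; ring
  exact Nat.eq_of_mul_eq_mul_left (by omega) h5

theorem iso_psl [Finite F] [Fintype K] (ι : K →+* F) (L : Subgroup (S2 F))
    (hsub : ∀ g : S2 K, SpecialLinearGroup.map ι g ∈ L)
    (hcard : Nat.card L = Fintype.card K * (Fintype.card K ^ 2 - 1)) :
    Nonempty (↥(L.map (prj F)) ≃* Matrix.ProjectiveSpecialLinearGroup (Fin 2) K) := by
  have hle : (SpecialLinearGroup.map (n := Fin 2) ι).range ≤ L := by
    rintro _ ⟨g, rfl⟩
    exact hsub g
  have hrc : Nat.card (SpecialLinearGroup.map (n := Fin 2) ι).range = Nat.card (S2 K) :=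
    (Nat.card_congr (MonoidHom.ofInjective (slmap_inj ι)).toEquiv).symm
  have heq : (SpecialLinearGroup.map (n := Fin 2) ι).range = L :=
    Subgroup.eq_of_le_of_card_ge hle (by rw [hrc, card_S2, hcard])
  let ψ : S2 K →* P2 F := (prj F).comp (SpecialLinearGroup.map ι)
  have hrange : L.map (prj F) = ψ.range := by
    rw [← heq, MonoidHom.range_comp]
  have hker : ψ.ker = Subgroup.center (S2 K) := by
    ext g
    rw [MonoidHom.mem_ker, ← isSc_iff_center]
    change prj F (SpecialLinearGroup.map ι g) = 1 ↔ _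
    rw [prj_eq_one_iff, isSc_slmap]
  exact ⟨(MulEquiv.subgroupCongr hrange).trans
    ((QuotientGroup.quotientKerEquivRange ψ).symm.trans
      (QuotientGroup.quotientMulEquivOfEq hker))⟩

theorem iso_pgl [Finite F] [Fintype K] (ι : K →+* F) (L : Subgroup (S2 F))
    (hZ : Subgroup.center (S2 F) ≤ L)
    (hsc : ∀ g ∈ L, ∃ s : F, s ≠ 0 ∧ ∀ i j, ∃ a : K, ι a = g i j / s)
    (hcard : Nat.card L
      = Nat.card (Subgroup.center (S2 F)) * (Fintype.card K * (Fintype.card K ^ 2 - 1))) :
    Nonempty (↥(L.map (prj F)) ≃* Matrix.ProjGenLinGroup (Fin 2) K) := by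
  classical
  haveI : Finite (Matrix.ProjGenLinGroup (Fin 2) K) :=
    Finite.of_surjective _ ProjGenLinGroup.mk_surjective
  have hR : ∀ h ∈ L.map (prj F), ProjectiveSpecialLinearGroup.toPGL h
      ∈ (ProjGenLinGroup.map (n := Fin 2) ι).range := by
    rintro _ ⟨g, hg, rfl⟩
    obtain ⟨s, hs, ha⟩ := hsc g hg
    choose a ha using ha
    have hdet : (Matrix.of a).det ≠ 0 := by
      intro h0
      rw [Matrix.det_fin_two] at h0
      have h1 := congrArg ι h0
      simp only [map_sub, map_mul, map_zero, Matrix.of_apply, ha] at h1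
      have hd := det2 g
      have h2 : g 0 0 / s * (g 1 1 / s) - g 0 1 / s * (g 1 0 / s) = 1 / s ^ 2 := by
        field_simp
        linear_combination hd
      rw [h2] at h1
      have h3 : (1 : F) / s ^ 2 ≠ 0 := one_div_ne_zero (pow_ne_zero 2 hs)
      exact h3 h1
    refine ⟨ProjGenLinGroup.mk (GeneralLinearGroup.mkOfDetNeZero (Matrix.of a) hdet), ?_⟩
    rw [ProjGenLinGroup.map_mk]
    change _ = ProjGenLinGroup.mk (SpecialLinearGroup.toGL g)
    rw [ProjGenLinGroup.mk_eq_mk_iff]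
    refine ⟨Units.mk0 s hs, ?_⟩
    ext i j
    simp [GeneralLinearGroup.coe_scalar, GeneralLinearGroup.map_apply, Matrix.mul_apply,
      Matrix.diagonal_apply, GeneralLinearGroup.mkOfDetNeZero, ha]
    field_simp
  let f₁ : ↥(L.map (prj F)) →* ↥(ProjGenLinGroup.map (n := Fin 2) ι).range :=
    ((ProjectiveSpecialLinearGroup.toPGL).comp (L.map (prj F)).subtype).codRestrict _
      (fun x => hR x x.2)
  let e₂ := MonoidHom.ofInjective (Cfsg.Agent.S0805.pglmap_inj ι)
  let f : ↥(L.map (prj F)) →* Matrix.ProjGenLinGroup (Fin 2) K := e₂.symm.toMonoidHom.comp f₁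
  have hf : Function.Injective f := by
    intro x y hxy
    have h1 : f₁ x = f₁ y := e₂.symm.injective hxy
    have h2 : ProjectiveSpecialLinearGroup.toPGL (x : P2 F)
        = ProjectiveSpecialLinearGroup.toPGL (y : P2 F) := congrArg Subtype.val h1
    exact Subtype.ext (ProjectiveSpecialLinearGroup.toPGL_injective h2)
  have hbij : Function.Bijective f := by
    apply hf.bijective_of_nat_card_le
    rw [Cfsg.Agent.S0265.result 2, card_S2]
    have h3 := card_map_prj L hZ
    rw [hcard] at h3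
    exact le_of_eq (Nat.eq_of_mul_eq_mul_left Nat.card_pos h3)
  exact ⟨MulEquiv.ofBijective f hbij⟩

end Iso

section Field

variable {F : Type*} [Field F] {L : Subgroup (S2 F)} {q' : ℕ}

theorem nn_one_mem [Finite F] (p : ℕ) [Fact p.Prime] [CharP F p] (h : NF L q') :
    nn (1 : F) one_ne_zero ∈ L := by
  apply sl_sub p h
  intro i j
  fin_cases i <;> fin_cases j
  · exact (BB L).zero_mem
  · show -(1 : F)⁻¹ ∈ BB L
    rw [inv_one]
    exact (BB L).neg_mem h.h1
  · exact h.h1
  · exact (BB L).zero_mem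

theorem sq10_mem [Finite F] (p : ℕ) [Fact p.Prime] [CharP F p] (h : NF L q')
    (hsq : ∀ g ∈ L, ∀ i j, (g * g) i j ∈ BB L) (g : S2 F) (hg : g ∈ L) (h10 : g 1 0 ≠ 0) :
    (g 1 0) ^ 2 ∈ BB L := by
  have hτ := tt_mem h g hg h10
  have hτ' := tt_mem' h g hg h10
  have hn : nn (g 1 0) h10 ∈ L := by
    have e : nn (g 1 0) h10 = uu (-(g 0 0 / g 1 0)) * g * uu (-(g 1 1 / g 1 0)) := by
      have hd := det2 g
      apply ext2 <;> simp only [mul00, mul01, mul10, mul11, uu_00, uu_01, uu_10, uu_11, nn,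
        mk2_00, mk2_01, mk2_10, mk2_11]
      · field_simp
        ring
      · field_simp
        linear_combination hd
      · ring
      · field_simp
        ring
    rw [e]
    exact L.mul_mem (L.mul_mem ((BB L).neg_mem hτ) hg) ((BB L).neg_mem hτ')
  have hδ : nn (g 1 0) h10 * (nn 1 one_ne_zero)⁻¹ ∈ L :=
    L.mul_mem hn (L.inv_mem (nn_one_mem p h))
  have h5 := hsq _ hδ 1 1
  have e : ((nn (g 1 0) h10 * (nn 1 one_ne_zero)⁻¹) *
      (nn (g 1 0) h10 * (nn 1 one_ne_zero)⁻¹) : S2 F) 1 1 = (g 1 0) ^ 2 := by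
    simp only [mul00, mul01, mul10, mul11, inv00, inv01, inv10, inv11, nn, mk2_00, mk2_01,
      mk2_10, mk2_11]
    field_simp
    ring
  rw [e] at h5
  exact h5

theorem scaled_entries [Finite F] (p : ℕ) [Fact p.Prime] [CharP F p] (h : NF L q')
    (hsq : ∀ g ∈ L, ∀ i j, (g * g) i j ∈ BB L) (g : S2 F) (hg : g ∈ L) :
    ∃ s : F, s ≠ 0 ∧ ∀ i j, g i j / s ∈ BB L := by
  obtain ⟨Kf, hKf⟩ := exists_subfield p h
  by_cases h10 : g 1 0 = 0
  · have h00 := bor_00_ne g h10
    have hg' : nn 1 one_ne_zero * g ∈ L := L.mul_mem (nn_one_mem p h) hg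
    have e10 : (nn (1 : F) one_ne_zero * g) 1 0 = g 0 0 := by
      rw [mul10]
      simp only [nn, mk2_10, mk2_11, h10, one_mul, mul_zero, add_zero]
    have e11 : (nn (1 : F) one_ne_zero * g) 1 1 = g 0 1 := by
      rw [mul11]
      simp only [nn, mk2_10, mk2_11, one_mul, zero_mul, add_zero]
    have h1 := sq10_mem p h hsq _ hg' (by rw [e10]; exact h00)
    have h2 := tt_mem' h _ hg' (by rw [e10]; exact h00)
    rw [e10] at h1
    rw [e11, e10] at h2
    refine ⟨g 0 0, h00, ?_⟩
    intro i j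
    fin_cases i <;> fin_cases j
    · show g 0 0 / g 0 0 ∈ BB L
      rw [div_self h00]; exact h.h1
    · exact h2
    · show g 1 0 / g 0 0 ∈ BB L
      rw [h10, zero_div]; exact (BB L).zero_mem
    · show g 1 1 / g 0 0 ∈ BB L
      rw [bor_11 g h10]
      have e : (g 0 0)⁻¹ / g 0 0 = ((g 0 0) ^ 2)⁻¹ := by field_simp
      rw [e, ← hKf]
      exact Kf.inv_mem ((hKf _).2 h1)
  · refine ⟨g 1 0, h10, ?_⟩
    have hτ := tt_mem h g hg h10
    have hτ' := tt_mem' h g hg h10
    have hc := sq10_mem p h hsq g hg h10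
    intro i j
    fin_cases i <;> fin_cases j
    · exact hτ
    · show g 0 1 / g 1 0 ∈ BB L
      have hd := det2 g
      have e : g 0 1 / g 1 0 = (g 0 0 / g 1 0) * (g 1 1 / g 1 0) - ((g 1 0) ^ 2)⁻¹ := by
        field_simp
        linear_combination -hd
      rw [e, ← hKf]
      exact Kf.sub_mem (Kf.mul_mem ((hKf _).2 hτ) ((hKf _).2 hτ')) (Kf.inv_mem ((hKf _).2 hc))
    · show g 1 0 / g 1 0 ∈ BB L
      rw [div_self h10]; exact h.h1
    · exact hτ'

theorem field_std [Fintype F] (p : ℕ) [Fact p.Prime] [CharP F p] (L : Subgroup (S2 F))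
    (q' k : ℕ) (h : NF L q') (hq3 : 3 ≤ q')
    (hcard : Nat.card L = Nat.card (Subgroup.center (S2 F)) * k * q' * (1 + q'))
    (hk : k = q' - 1 ∨ 2 * k = q' - 1) :
    ∃ (K : Type) (_ : Field K) (_ : Fintype K) (m : ℕ), Fintype.card K ^ m = Fintype.card F ∧
      (Nonempty (↥(L.map (prj F)) ≃* Matrix.ProjectiveSpecialLinearGroup (Fin 2) K) ∨
       Nonempty (↥(L.map (prj F)) ≃* Matrix.ProjGenLinGroup (Fin 2) K)) := by
  classical
  obtain ⟨Kf, hKf⟩ := exists_subfield p h
  haveI : Fintype Kf := Fintype.ofFinite _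
  haveI : CharP Kf p := RingHom.charP Kf.subtype (fun a b hab => Subtype.ext hab) p
  obtain ⟨n, -, hn⟩ := FiniteField.card Kf p
  have hKfcard : Fintype.card Kf = q' := by
    rw [← Nat.card_eq_fintype_card, ← h.hB]
    exact Nat.card_congr (Equiv.subtypeEquivRight hKf)
  haveI : Fintype (GaloisField p n) := Fintype.ofFinite _
  have hGc : Fintype.card (GaloisField p n) = Fintype.card Kf := by
    rw [← Nat.card_eq_fintype_card, GaloisField.card p n n.ne_zero, hn]
  let e : GaloisField p n ≃+* Kf := FiniteField.ringEquivOfCardEq hGc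
  let ι : GaloisField p n →+* F := Kf.subtype.comp e.toRingHom
  have hι : ∀ y : F, y ∈ BB L ↔ ∃ a, ι a = y := by
    intro y
    rw [← hKf]
    constructor
    · intro hy
      refine ⟨e.symm ⟨y, hy⟩, ?_⟩
      show ((e (e.symm ⟨y, hy⟩) : Kf) : F) = y
      rw [RingEquiv.apply_symm_apply]
    · rintro ⟨a, rfl⟩
      exact (e a).2
  have hKcard : Fintype.card (GaloisField p n) = q' := hGc.trans hKfcard
  letI : Algebra (GaloisField p n) F := ι.toAlgebra
  refine ⟨GaloisField p n, inferInstance, inferInstance, Module.finrank (GaloisField p n) F,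
    (Module.card_eq_pow_finrank (K := GaloisField p n) (V := F)).symm, ?_⟩
  have hsub : ∀ g : S2 (GaloisField p n), SpecialLinearGroup.map ι g ∈ L := by
    intro g
    apply sl_sub p h
    intro i j
    rw [hι]
    exact ⟨g i j, (slmap_entry ι g i j).symm⟩
  have hcase : Nat.card (Subgroup.center (S2 F)) * k = q' - 1 ∨
      (Nat.card (Subgroup.center (S2 F)) = 2 ∧ k = q' - 1) := by
    by_cases h2 : (2 : F) = 0
    · left
      rw [center_card_one h2]
      have hp2 : p = 2 := by
        have hp2' : p ∣ 2 := (CharP.cast_eq_zero_iff F p 2).1 (by exact_mod_cast h2)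
        exact (Nat.prime_dvd_prime_iff_eq (Fact.out : p.Prime) Nat.prime_two).1 hp2'
      have hq_even : Even q' := by
        rw [← hKfcard, hn, hp2]
        exact (Nat.even_pow' n.ne_zero).2 even_two
      obtain ⟨m, hm⟩ := hq_even
      rcases hk with hk | hk
      · omega
      · exfalso; omega
    · rw [center_card_two h2]
      rcases hk with hk | hk
      · right; exact ⟨rfl, hk⟩
      · left; exact hk
  obtain ⟨m, hm⟩ : ∃ m, q' = m + 3 := ⟨q' - 3, by omega⟩
  have e4 : (m + 3) ^ 2 - 1 = (m + 2) * (m + 4) := by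
    have : (m + 3) ^ 2 = (m + 2) * (m + 4) + 1 := by ring
    omega
  rcases hcase with hc | ⟨hz2, hk1⟩
  · left
    apply iso_psl ι L hsub
    rw [hcard, hc, hKcard, hm, e4]
    have : m + 3 - 1 = m + 2 := by omega
    rw [this]
    ring
  · right
    have hS₀ : (SpecialLinearGroup.map (n := Fin 2) ι).range ≤ L := by
      rintro _ ⟨g, rfl⟩
      exact hsub g
    have hrc : Nat.card (SpecialLinearGroup.map (n := Fin 2) ι).range
        = Nat.card (S2 (GaloisField p n)) :=
      (Nat.card_congr (MonoidHom.ofInjective (slmap_inj ι)).toEquiv).symm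
    have hLc : Nat.card L = 2 * ((m + 3) * ((m + 2) * (m + 4))) := by
      rw [hcard, hz2, hk1, hm]
      have : m + 3 - 1 = m + 2 := by omega
      rw [this]
      ring
    have hidx : ((SpecialLinearGroup.map (n := Fin 2) ι).range.subgroupOf L).index = 2 := by
      have h1 := Subgroup.card_mul_index ((SpecialLinearGroup.map (n := Fin 2) ι).range.subgroupOf L)
      rw [Nat.card_congr (Subgroup.subgroupOfEquivOfLe hS₀).toEquiv, hrc, card_S2, hKcard, hm, e4,
        hLc] at h1
      have hpos : 0 < (m + 3) * ((m + 2) * (m + 4)) := by positivity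
      have h2 : (m + 3) * ((m + 2) * (m + 4)) *
          ((SpecialLinearGroup.map (n := Fin 2) ι).range.subgroupOf L).index
          = (m + 3) * ((m + 2) * (m + 4)) * 2 := by rw [h1]; ring
      exact Nat.eq_of_mul_eq_mul_left hpos h2
    have hsq : ∀ g ∈ L, ∀ i j, (g * g) i j ∈ BB L := by
      intro g hg i j
      have h1 := Subgroup.mul_self_mem_of_index_two hidx (⟨g, hg⟩ : L)
      rw [Subgroup.mem_subgroupOf] at h1
      obtain ⟨g₀, hg₀⟩ := h1
      have h2 : SpecialLinearGroup.map ι g₀ = g * g := hg₀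
      rw [← h2, hι]
      exact ⟨g₀ i j, (slmap_entry ι g₀ i j).symm⟩
    apply iso_pgl ι L h.hZ
    · intro g hg
      obtain ⟨s, hs, hent⟩ := scaled_entries p h hsq g hg
      exact ⟨s, hs, fun i j => by
        obtain ⟨a, ha⟩ := (hι _).1 (hent i j)
        exact ⟨a, ha⟩⟩
    · rw [hLc, hz2, hKcard, hm, e4]

end Field

end Cfsg.Agent.Lib.Helper19.Dk
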