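import Mathlib
import Cfsg.Agent.Lib.Helper19.DkJ

set_option autoImplicit false

namespace Cfsg.Agent.Lib.Helper19.Dk

open Matrix Cfsg.Agent.S0809

section Borel

variable {F : Type*} [Field F]

theorem center_le_Bor : Subgroup.center (S2 F) ≤ Bor F := by
  intro ζ hζ
  rw [mem_Bor]
  exact ((isSc_iff_center ζ).2 hζ).2.1

theorem card_Bor [Fintype F] : Nat.card (Bor F) = Fintype.card F * (Fintype.card F - 1) := by
  classical
  have h1 : Nat.card (F × Fˣ) = Fintype.card F * (Fintype.card F - 1) := by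
    rw [Nat.card_prod, Nat.card_units, Nat.card_eq_fintype_card]
  rw [← h1]
  symm
  apply Nat.card_congr
  refine Equiv.ofBijective (fun x => (⟨mk2 (x.2 : F) x.1 0 (x.2 : F)⁻¹ (by
    rw [mul_inv_cancel₀ x.2.ne_zero, mul_zero, sub_zero]), rfl⟩ : Bor F)) ⟨?_, ?_⟩
  · rintro ⟨b, a⟩ ⟨b', a'⟩ h
    have h1 := congrArg (fun g : Bor F => (g : S2 F) 0 0) h
    have h2 := congrArg (fun g : Bor F => (g : S2 F) 0 1) h
    simp only [mk2_00, mk2_01] at h1 h2
    rw [Prod.mk.injEq]
    exact ⟨h2, Units.ext h1⟩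
  · rintro ⟨g, hg⟩
    rw [mem_Bor] at hg
    refine ⟨(g 0 1, Units.mk0 (g 0 0) (bor_00_ne g hg)), ?_⟩
    apply Subtype.ext
    apply ext2
    · rfl
    · rfl
    · exact hg.symm
    · exact (bor_11 g hg).symm

theorem card_prjBor [Fintype F] :
    Nat.card (Subgroup.center (S2 F)) * Nat.card ((Bor F).map (prj F))
      = Fintype.card F * (Fintype.card F - 1) := by
  rw [← card_map_prj (Bor F) center_le_Bor, card_Bor]

theorem normalizer_PU_le [Finite F] :
    Subgroup.normalizer ((((UU F).map (prj F) : Subgroup (P2 F))) : Set (P2 F))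
      ≤ (Bor F).map (prj F) := by
  intro h hh
  obtain ⟨g, rfl⟩ := prj_surj h
  rw [mem_normalizer_fin] at hh
  have h1 := hh (prj F (uu 1)) (Subgroup.mem_map_of_mem _ ((mem_UU _).2 ⟨1, rfl⟩))
  rw [← map_inv, ← map_mul, ← map_mul] at h1
  obtain ⟨u, hu, hu2⟩ := h1
  have h2 : prj F (u⁻¹ * (g * uu 1 * g⁻¹)) = 1 := by
    rw [map_mul, map_inv, hu2, inv_mul_cancel]
  rw [prj_eq_one_iff] at h2
  have h3 : (g * uu (1 : F) * g⁻¹ : S2 F) 1 0 = 0 := by
    have e : g * uu 1 * g⁻¹ = u * (u⁻¹ * (g * uu 1 * g⁻¹)) := by group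
    rw [e, mul10, hu.1, h2.2.1]
    ring
  rw [conj_uu_10] at h3
  have h4 : g 1 0 = 0 := by
    have : g 1 0 ^ 2 = 0 := by linear_combination -h3
    exact pow_eq_zero_iff (two_ne_zero) |>.1 this
  exact Subgroup.mem_map_of_mem _ ((mem_Bor g).2 h4)

theorem exists_P0 [Fintype F] (p : ℕ) [Fact p.Prime] [CharP F p] :
    ∃ P₀ : Sylow p (P2 F), (P₀ : Subgroup (P2 F)) = (UU F).map (prj F) := by
  obtain ⟨n, hp, hq⟩ := FiniteField.card F p
  have hpg : IsPGroup p ((UU F).map (prj F)) :=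
    IsPGroup.of_card (n := n) (by rw [card_PU, hq])
  have hidx : ¬ p ∣ ((UU F).map (prj F)).index := by
    intro hdvd
    have h1 := Subgroup.card_mul_index ((UU F).map (prj F))
    rw [card_PU] at h1
    have h2 := card_P2 (F := F)
    rw [← h1] at h2
    have hq2 : 2 ≤ Fintype.card F := Fintype.one_lt_card
    have h3 : Nat.gcd 2 (Fintype.card F - 1) * ((UU F).map (prj F)).index
        = Fintype.card F ^ 2 - 1 := by
      have h4 : Fintype.card F * (Nat.gcd 2 (Fintype.card F - 1) * ((UU F).map (prj F)).index)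
          = Fintype.card F * (Fintype.card F ^ 2 - 1) := by
        rw [← h2]; ring
      exact Nat.eq_of_mul_eq_mul_left (by omega) h4
    have h5 : p ∣ Fintype.card F ^ 2 - 1 := by
      rw [← h3]; exact Dvd.dvd.mul_left hdvd _
    have h6 : p ∣ Fintype.card F ^ 2 := by
      rw [hq, ← pow_mul]
      exact dvd_pow_self p (by positivity)
    have h7 : 1 ≤ Fintype.card F ^ 2 := Nat.one_le_pow _ _ (by omega)
    have h8 : p ∣ 1 := by
      have := (Nat.dvd_sub h6 h5)
      rwa [Nat.sub_sub_self h7] at this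
    exact hp.one_lt.ne' (Nat.dvd_one.1 h8)
  exact ⟨hpg.toSylow hidx, rfl⟩

theorem card_normalizer_sylow_le [Fintype F] (p : ℕ) [Fact p.Prime] [CharP F p]
    (P : Sylow p (P2 F)) :
    Nat.card (Subgroup.center (S2 F)) *
      Nat.card (Subgroup.normalizer ((P : Subgroup (P2 F)) : Set (P2 F)))
      ≤ Fintype.card F * (Fintype.card F - 1) := by
  obtain ⟨P₀, hP₀⟩ := exists_P0 (F := F) p
  have h1 : Nat.card (Sylow p (P2 F))
      = (Subgroup.normalizer ((P : Subgroup (P2 F)) : Set (P2 F))).index :=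
    Sylow.card_eq_index_normalizer P
  have h2 : Nat.card (Sylow p (P2 F))
      = (Subgroup.normalizer ((P₀ : Subgroup (P2 F)) : Set (P2 F))).index :=
    Sylow.card_eq_index_normalizer P₀
  have h3 := Subgroup.card_mul_index (Subgroup.normalizer ((P : Subgroup (P2 F)) : Set (P2 F)))
  have h4 := Subgroup.card_mul_index (Subgroup.normalizer ((P₀ : Subgroup (P2 F)) : Set (P2 F)))
  rw [← h1] at h3
  rw [← h2] at h4
  have hpos : 0 < Nat.card (Sylow p (P2 F)) := Nat.card_pos
  have h5 : Nat.card (Subgroup.normalizer ((P : Subgroup (P2 F)) : Set (P2 F)))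
      = Nat.card (Subgroup.normalizer ((P₀ : Subgroup (P2 F)) : Set (P2 F))) := by
    have : Nat.card (Sylow p (P2 F)) *
        Nat.card (Subgroup.normalizer ((P : Subgroup (P2 F)) : Set (P2 F)))
        = Nat.card (Sylow p (P2 F)) *
          Nat.card (Subgroup.normalizer ((P₀ : Subgroup (P2 F)) : Set (P2 F))) := by
      rw [mul_comm, h3, mul_comm, h4]
    exact Nat.eq_of_mul_eq_mul_left hpos this
  rw [h5, hP₀, ← card_prjBor]
  exact Nat.mul_le_mul_left _ (Subgroup.card_le_of_le normalizer_PU_le)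

end Borel

end Cfsg.Agent.Lib.Helper19.Dk
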