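import Mathlib
import Cfsg.Agent.Lib.Helper19.DkK
import Cfsg.Agent.S0804

set_option autoImplicit false

/-!
# Tori of `SL₂(q)` and dihedral subgroups of `PSL₂(q)`
-/

namespace Cfsg.Agent.Lib.Helper19.Dk

open Matrix Cfsg.Agent.S0809

section Tori

variable {F : Type*} [Field F]

theorem sq_sub_one' (q : ℕ) (hq : 1 ≤ q) : q ^ 2 - 1 = (q - 1) * (q + 1) := by
  obtain ⟨t, rfl⟩ := Nat.exists_eq_add_of_le hq
  have h1 : 1 + t - 1 = t := by omega
  have h2 : (1 + t) ^ 2 = t * (1 + t + 1) + 1 := by ring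
  rw [h1, h2]
  omega

/-- the nonsplit torus: an element of order `q + 1` -/
theorem exists_order_add_one [Fintype F] (p : ℕ) [Fact p.Prime] [CharP F p] :
    ∃ t : S2 F, orderOf t = Fintype.card F + 1 := by
  classical
  let E := FiniteField.Extension F p 2
  have hfr : Module.finrank F E = 2 := FiniteField.finrank_extension F p 2
  let b : Module.Basis (Fin 2) F E := Module.finBasisOfFinrankEq F E hfr
  let ρ : Eˣ →* GL (Fin 2) F := Units.map
    ((Algebra.leftMulMatrix b : E →ₐ[F] Matrix (Fin 2) (Fin 2) F) : E →* Matrix (Fin 2) (Fin 2) F)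
  have hρ : Function.Injective ρ := Units.map_injective (Algebra.leftMulMatrix_injective b)
  let ν : Eˣ →* Fˣ := Matrix.GeneralLinearGroup.det.comp ρ
  have hq2 : 2 ≤ Fintype.card F := Fintype.one_lt_card
  have hcE : Nat.card Eˣ = Fintype.card F ^ 2 - 1 := by
    rw [Nat.card_units, FiniteField.natCard_extension, Nat.card_eq_fintype_card]
  have hcF : Nat.card Fˣ = Fintype.card F - 1 := by
    rw [Nat.card_units, Nat.card_eq_fintype_card]
  have h1 : Nat.card ν.ker * Nat.card ν.range = Fintype.card F ^ 2 - 1 := by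
    rw [← hcE, ← Subgroup.index_ker, Subgroup.card_mul_index]
  have h2 : Nat.card ν.range ∣ Fintype.card F - 1 := hcF ▸ Subgroup.card_subgroup_dvd_card ν.range
  obtain ⟨j, hj⟩ := h2
  have hpos : 0 < Nat.card ν.range := Nat.card_pos
  have h3 : Nat.card ν.ker = (Fintype.card F + 1) * j := by
    rw [sq_sub_one' _ (by omega), hj] at h1
    have : Nat.card ν.range * Nat.card ν.ker = Nat.card ν.range * ((Fintype.card F + 1) * j) := by
      rw [mul_comm, h1]; ring
    exact Nat.eq_of_mul_eq_mul_left hpos this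
  have hj0 : j ≠ 0 := by
    rintro rfl
    rw [mul_zero] at hj
    omega
  obtain ⟨y0, hy0⟩ := IsCyclic.exists_ofOrder_eq_natCard (α := ν.ker)
  have hyo : orderOf (y0 ^ j) = Fintype.card F + 1 := by
    rw [orderOf_pow_of_dvd hj0 (by rw [hy0, h3]; exact dvd_mul_left _ _), hy0, h3,
      Nat.mul_div_cancel _ (Nat.pos_of_ne_zero hj0)]
  obtain ⟨y, hy⟩ : ∃ y : Eˣ, y = ((y0 ^ j : ν.ker) : Eˣ) := ⟨_, rfl⟩
  have hyo' : orderOf y = Fintype.card F + 1 := by rw [hy, Subgroup.orderOf_coe, hyo]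
  have hyker : ν y = 1 := by rw [hy]; exact (y0 ^ j).2
  have hdet : ((ρ y : GL (Fin 2) F) : Matrix (Fin 2) (Fin 2) F).det = 1 := by
    have := congrArg Units.val hyker
    simpa [ν] using this
  obtain ⟨t, hGL⟩ : ∃ t : S2 F, Matrix.SpecialLinearGroup.toGL t = ρ y :=
    ⟨⟨((ρ y : GL (Fin 2) F) : Matrix (Fin 2) (Fin 2) F), hdet⟩, Units.ext rfl⟩
  refine ⟨t, ?_⟩
  rw [← orderOf_injective Matrix.SpecialLinearGroup.toGL Matrix.SpecialLinearGroup.toGL_injective,
    hGL, orderOf_injective ρ hρ, hyo']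

/-- the split torus: an element of order `q - 1` -/
theorem exists_order_sub_one [Fintype F] : ∃ t : S2 F, orderOf t = Fintype.card F - 1 := by
  obtain ⟨ζ, hζ⟩ := IsCyclic.exists_ofOrder_eq_natCard (α := Fˣ)
  rw [Nat.card_units, Nat.card_eq_fintype_card] at hζ
  let φ : Fˣ →* S2 F :=
    { toFun := fun u => mk2 (u : F) 0 0 ((u⁻¹ : Fˣ) : F) (by simp)
      map_one' := by apply ext2 <;> simp
      map_mul' := fun u v => by apply ext2 <;> simp [mul00, mul01, mul10, mul11, mul_comm] }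
  have hφ : Function.Injective φ := by
    intro u v h
    have := congrArg (fun g : S2 F => g 0 0) h
    exact Units.ext (by simpa [φ] using this)
  exact ⟨φ ζ, by rw [orderOf_injective φ hφ, hζ]⟩

theorem pow_two_p_of_tr (p : ℕ) [Fact p.Prime] [CharP F p] (x : S2 F) (h4 : tr x ^ 2 = 4) :
    x ^ (2 * p) = 1 := by
  have h22 : (tr x - 2) * (tr x + 2) = 0 := by linear_combination h4
  rcases mul_eq_zero.1 h22 with h | h
  · have := pow_char_of_tr p x (by linear_combination h)
    rw [mul_comm, pow_mul, this, one_pow]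
  · have htn : tr (negOne * x) = 2 := by
      unfold tr at h ⊢
      simp only [mul00, mul11, negOne, mk2_00, mk2_01, mk2_10, mk2_11]
      linear_combination -h
    have h1 := pow_char_of_tr p (negOne * x) htn
    have hcomm : Commute (negOne : S2 F) x := negOne_mul x
    have h2 : (negOne * x) ^ (2 * p) = 1 := by rw [mul_comm, pow_mul, h1, one_pow]
    rw [hcomm.mul_pow, pow_mul, pow_two, negOne_sq, one_pow, one_mul] at h2
    exact h2

theorem tr_ne_of_order (p : ℕ) [Fact p.Prime] [CharP F p] (t : S2 F) (n₀ : ℕ)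
    (ht : orderOf t = n₀) (hcop : Nat.Coprime n₀ p) (h3 : 2 < n₀) : tr t ^ 2 ≠ 4 := by
  intro h4
  have h := orderOf_dvd_of_pow_eq_one (pow_two_p_of_tr p t h4)
  rw [ht] at h
  have h2 : n₀ ∣ 2 := (Nat.Coprime.dvd_mul_right hcop).1 h
  have := Nat.le_of_dvd (by norm_num) h2
  omega

end Tori

section Inverting

variable {F : Type*} [Field F]

open Cfsg.Agent.S0804

theorem exists_w [Fintype F] (x : S2 F) (hx : tr x ^ 2 ≠ 4) (h10 : x 1 0 ≠ 0) :
    ∃ w : S2 F, tr w = 0 ∧ tr (w * x) = 0 := by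
  have hd := det2 x
  by_cases h2 : (2 : F) = 0
  · have hneg : (-1 : F) = 1 := by linear_combination -h2
    refine ⟨mk2 1 ((x 0 0 - x 1 1) / x 1 0) 0 (-1) (by rw [hneg]; ring), ?_, ?_⟩
    · unfold tr; simp
    · unfold tr
      simp only [mul00, mul11, mk2_00, mk2_01, mk2_10, mk2_11]
      field_simp
      linear_combination (x 0 0 - x 1 1) * h2
  · set r := x 1 0 with hr
    set δ := x 0 0 - x 1 1 with hδ
    set Δ := tr x ^ 2 - 4 with hΔ
    have hΔ0 : Δ ≠ 0 := sub_ne_zero.2 hx
    have hΔ' : Δ = δ ^ 2 + 4 * x 0 1 * r := by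
      rw [hΔ, hδ, hr]; unfold tr; linear_combination 4 * hd
    have hodd : Fintype.card F % 2 = 1 := by
      obtain ⟨p, hp⟩ := CharP.exists F
      haveI : Fact p.Prime := ⟨CharP.char_is_prime F p⟩
      exact Nat.odd_iff.1 (q_odd p h2)
    obtain ⟨A, γ, hAG⟩ := FiniteField.exists_root_sum_quadratic
      (f := Polynomial.C 1 * Polynomial.X ^ 2 + Polynomial.C 0 * Polynomial.X
        + Polynomial.C (4 * r ^ 2))
      (g := Polynomial.C (-Δ) * Polynomial.X ^ 2 + Polynomial.C 0 * Polynomial.X + Polynomial.C 0)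
      (Polynomial.degree_quadratic one_ne_zero) (Polynomial.degree_quadratic (neg_ne_zero.2 hΔ0))
      hodd
    simp only [Polynomial.eval_add, Polynomial.eval_mul, Polynomial.eval_C, Polynomial.eval_pow,
      Polynomial.eval_X] at hAG
    set α := (A + δ * γ) / (2 * r) with hα
    set β := -(α * δ + γ * x 0 1) / r with hβ
    have hAe : A = 2 * r * α - δ * γ := by rw [hα]; field_simp; ring
    have hβe : β * r = -(α * δ + γ * x 0 1) := by rw [hβ]; field_simp
    have hE : r * α ^ 2 - δ * α * γ - x 0 1 * γ ^ 2 + r = 0 := by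
      have h4 : (4 : F) ≠ 0 := by
        have : (4 : F) = 2 * 2 := by norm_num
        rw [this]; exact mul_ne_zero h2 h2
      have : 4 * r * (r * α ^ 2 - δ * α * γ - x 0 1 * γ ^ 2 + r) = 0 := by
        rw [hAe] at hAG
        linear_combination hAG + γ ^ 2 * hΔ'
      rcases mul_eq_zero.1 this with h | h
      · exact absurd h (mul_ne_zero h4 h10)
      · exact h
    have hdet : α * (-α) - β * γ = 1 := by
      have : r * (α * (-α) - β * γ - 1) = 0 := by
        linear_combination -hE - γ * hβe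
      rcases mul_eq_zero.1 this with h | h
      · exact absurd h h10
      · linear_combination h
    refine ⟨mk2 α β γ (-α) hdet, ?_, ?_⟩
    · unfold tr; simp
    · unfold tr
      simp only [mul00, mul11, mk2_00, mk2_01, mk2_10, mk2_11]
      linear_combination hβe

theorem inv_of_tr (w x : S2 F) (h1 : tr w = 0) (h2 : tr (w * x) = 0) : w * x * w⁻¹ = x⁻¹ := by
  rw [conj_eq_iff]
  unfold tr at h1 h2
  simp only [mul00, mul11] at h2
  have h11 : w 1 1 = - w 0 0 := by linear_combination h1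
  apply ext2 <;> simp only [mul00, mul01, mul10, mul11, inv00, inv01, inv10, inv11, h11]
  · linear_combination h2 - x 1 1 * h1
  · ring
  · ring
  · linear_combination h2 - x 1 1 * h1

/-- every regular semisimple element is inverted by an element of order `4` (trace `0`) -/
theorem exists_inverting [Fintype F] (t : S2 F) (ht : tr t ^ 2 ≠ 4) :
    ∃ w : S2 F, tr w = 0 ∧ w * t * w⁻¹ = t⁻¹ := by
  obtain ⟨g, hg⟩ := exists_conj_10 t (not_isSc_of_tr t ht)
  have ht' : tr (g * t * g⁻¹) ^ 2 ≠ 4 := by rw [tr_conj]; exact ht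
  obtain ⟨w, hw1, hw2⟩ := exists_w (g * t * g⁻¹) ht' hg
  have h := inv_of_tr w _ hw1 hw2
  refine ⟨g⁻¹ * w * g, ?_, ?_⟩
  · have := tr_conj g⁻¹ w
    rw [inv_inv] at this
    rw [this, hw1]
  · have h2 : g⁻¹ * w * g * t * (g⁻¹ * w * g)⁻¹ = g⁻¹ * (w * (g * t * g⁻¹) * w⁻¹) * g := by group
    rw [h2, h]
    group

end Inverting

section OrdPrj

variable {F : Type*} [Field F]

theorem prj_injective (h2 : (2 : F) = 0) : Function.Injective (prj F) := by
  rw [← MonoidHom.ker_eq_bot_iff, eq_bot_iff]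
  intro g hg
  rw [MonoidHom.mem_ker, prj_eq_one_iff] at hg
  rcases isSc_eq g hg with h | h
  · exact Subgroup.mem_bot.2 h
  · rw [h, negOne_eq_one h2]; exact Subgroup.mem_bot.2 rfl

theorem orderOf_prj_even (h2 : (2 : F) = 0) (t : S2 F) : orderOf (prj F t) = orderOf t :=
  orderOf_injective (prj F) (prj_injective h2) t

theorem orderOf_prj_odd (h2 : (2 : F) ≠ 0) (t : S2 F) (m : ℕ) (hm : orderOf t = 2 * m)
    (hm0 : 0 < m) : orderOf (prj F t) = m := by
  rw [orderOf_eq_iff hm0]
  constructor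
  · rw [← map_pow, prj_eq_one_iff]
    have h1 : t ^ m * t ^ m = 1 := by
      rw [← pow_add, ← two_mul, ← hm]; exact pow_orderOf_eq_one t
    rcases sq_eq_one h2 _ h1 with h | h
    · rw [h]; exact isSc_one
    · rw [h]; exact isSc_negOne
  · intro k hk hk0 hcon
    rw [← map_pow, prj_eq_one_iff] at hcon
    have h1 := isSc_mul_self _ hcon
    rw [← pow_add, ← two_mul] at h1
    have h3 := orderOf_dvd_of_pow_eq_one h1
    rw [hm] at h3
    have := Nat.le_of_dvd (by omega) h3
    omega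

end OrdPrj

section Dih

/-- a cyclic group extended by an inverting involution is dihedral -/
theorem dih_sub {G : Type*} [Group G] (c s : G) (n : ℕ) (hn : orderOf c = n) (hn0 : 0 < n)
    (hs : s * s = 1) (hcs : s * c * s⁻¹ = c⁻¹) (hsC : s ∉ Subgroup.zpowers c) :
    ∃ D : Subgroup G, Nonempty (D ≃* DihedralGroup n) := by
  classical
  obtain ⟨C, hC⟩ : ∃ C : Subgroup G, C = Subgroup.zpowers c := ⟨_, rfl⟩
  have hsinv : s⁻¹ = s := inv_eq_of_mul_eq_one_right hs
  have hinvC : ∀ x ∈ C, s * x * s⁻¹ = x⁻¹ := by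
    intro x hx
    rw [hC] at hx
    obtain ⟨k, rfl⟩ := Subgroup.mem_zpowers_iff.1 hx
    rw [← conj_zpow, hcs, _root_.inv_zpow]
  have hinvC' : ∀ x ∈ C, s * x * s ∈ C := by
    intro x hx
    have := hinvC x hx
    rw [hsinv] at this
    rw [this]
    exact inv_mem hx
  let D : Subgroup G :=
    { carrier := {g | g ∈ C ∨ g * s ∈ C}
      mul_mem' := by
        rintro g h (hg | hg) (hh | hh)
        · exact Or.inl (mul_mem hg hh)
        · exact Or.inr (by rw [mul_assoc]; exact mul_mem hg hh)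
        · right
          have : g * h * s = (g * s) * (s * h * s) := by
            calc g * h * s = g * (s * s) * h * s := by rw [hs, mul_one]
              _ = (g * s) * (s * h * s) := by simp only [mul_assoc]
          rw [this]
          exact mul_mem hg (hinvC' h hh)
        · left
          have : g * h = (g * s) * (s * (h * s) * s) := by
            calc g * h = g * (s * s) * h * (s * s) := by rw [hs, mul_one, mul_one]
              _ = (g * s) * (s * (h * s) * s) := by simp only [mul_assoc]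
          rw [this]
          exact mul_mem hg (hinvC' _ hh)
      one_mem' := Or.inl (one_mem C)
      inv_mem' := by
        rintro g (hg | hg)
        · exact Or.inl (inv_mem hg)
        · right
          have h1 := hinvC' _ (inv_mem hg)
          have : g⁻¹ * s = s * (g * s)⁻¹ * s := by
            rw [_root_.mul_inv_rev, hsinv]
            calc g⁻¹ * s = (s * s) * g⁻¹ * s := by rw [hs, one_mul]
              _ = s * (s * g⁻¹) * s := by simp only [mul_assoc]
          rw [this]
          exact h1 }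
  have hmemD : ∀ g : G, g ∈ D ↔ (g ∈ C ∨ g * s ∈ C) := fun g => Iff.rfl
  have hCD : C ≤ D := fun g hg => Or.inl hg
  have hsD : s ∈ D := Or.inr (by rw [hs]; exact one_mem C)
  have hsC' : s ∉ C := by rw [hC]; exact hsC
  -- involutions outside C
  have hinvol : ∀ g : G, g * s ∈ C → g * g = 1 := by
    intro g hg
    have h1 := hinvC _ hg
    rw [hsinv] at h1
    -- s * (g * s) * s = (g * s)⁻¹
    have h2 : s * g = (g * s)⁻¹ := by
      calc s * g = s * g * (s * s) := by rw [hs, mul_one]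
        _ = s * (g * s) * s := by simp only [mul_assoc]
        _ = (g * s)⁻¹ := h1
    rw [_root_.mul_inv_rev, hsinv] at h2
    -- s * g = s * g⁻¹
    have h3 : g = g⁻¹ := mul_left_cancel h2
    calc g * g = g * g⁻¹ := by rw [← h3]
      _ = 1 := mul_inv_cancel g
  have hidx : (C.subgroupOf D).index = 2 := by
    rw [Subgroup.index_eq_two_iff]
    refine ⟨⟨s, hsD⟩, ?_⟩
    rintro ⟨b, hb⟩
    simp only [Subgroup.mem_subgroupOf, Subgroup.coe_mul]
    rcases hb with hb | hb
    · refine Or.inr ⟨hb, ?_⟩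
      intro hbs
      apply hsC'
      have : s = b⁻¹ * (b * s) := by group
      rw [this]
      exact mul_mem (inv_mem hb) hbs
    · refine Or.inl ⟨hb, ?_⟩
      intro hbC
      apply hsC'
      have : s = b⁻¹ * (b * s) := by group
      rw [this]
      exact mul_mem (inv_mem hbC) hb
  have hcC : Nat.card C = n := by rw [hC, Nat.card_zpowers, hn]
  have hcC' : Nat.card (C.subgroupOf D) = n := by
    rw [Nat.card_congr (Subgroup.subgroupOfEquivOfLe hCD).toEquiv, hcC]
  have hcD : Nat.card D = 2 * n := by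
    rw [← Subgroup.card_mul_index (C.subgroupOf D), hidx, hcC', mul_comm]
  haveI : Finite D := Nat.finite_of_card_ne_zero (by rw [hcD]; omega)
  have hcyc : IsCyclic (C.subgroupOf D) := by
    haveI : IsCyclic C := by rw [hC]; infer_instance
    exact isCyclic_of_surjective (Subgroup.subgroupOfEquivOfLe hCD).symm.toMonoidHom
      (Subgroup.subgroupOfEquivOfLe hCD).symm.surjective
  refine ⟨D, recog_dih n (C.subgroupOf D) hcyc hcC' hcD ?_⟩
  rintro ⟨g, hg⟩ hgC
  rw [Subgroup.mem_subgroupOf] at hgC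
  apply Subtype.ext
  rcases hg with hg | hg
  · exact absurd hg hgC
  · exact hinvol g hg

variable {F : Type*} [Field F]

/-- the dihedral subgroup of `PSL₂(q)` attached to a torus element -/
theorem exists_dih [Fintype F] (p : ℕ) [Fact p.Prime] [CharP F p] (t : S2 F) (n₀ : ℕ)
    (ht : orderOf t = n₀) (htr : tr t ^ 2 ≠ 4) (heven : (2 : F) ≠ 0 → Even n₀) (hpos : 0 < n₀) :
    ∃ H : Subgroup (P2 F),
      Nonempty (H ≃* DihedralGroup (n₀ / Nat.gcd 2 (Fintype.card F - 1))) := by
  obtain ⟨w, hw0, hw⟩ := exists_inverting t htr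
  have hq2 : 2 ≤ Fintype.card F := Fintype.one_lt_card
  have hord : orderOf (prj F t) = n₀ / Nat.gcd 2 (Fintype.card F - 1) := by
    by_cases h2 : (2 : F) = 0
    · have he := q_even p h2
      have hg : Nat.gcd 2 (Fintype.card F - 1) = 1 := by
        rw [Nat.coprime_iff_gcd_eq_one.symm, Nat.coprime_two_left]
        obtain ⟨k, hk⟩ := he
        exact ⟨k - 1, by omega⟩
      rw [hg, Nat.div_one, orderOf_prj_even h2, ht]
    · have ho := q_odd p h2
      have hg : Nat.gcd 2 (Fintype.card F - 1) = 2 := by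
        apply Nat.gcd_eq_left
        obtain ⟨k, hk⟩ := ho
        exact ⟨k, by omega⟩
      obtain ⟨m, hm⟩ := heven h2
      have hm' : n₀ = 2 * m := by omega
      rw [hg, hm', Nat.mul_div_cancel_left _ (by norm_num)]
      exact orderOf_prj_odd h2 t m (by rw [ht, hm']) (by omega)
  have hnpos : 0 < n₀ / Nat.gcd 2 (Fintype.card F - 1) := by
    rw [← hord]
    exact orderOf_pos _
  apply dih_sub (prj F t) (prj F w) _ hord hnpos
  · rw [← map_mul, prj_eq_one_iff]
    exact Cfsg.Agent.S0804.isSc_sq_of_tr w hw0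
  · rw [← map_inv, ← map_mul, ← map_mul, hw, map_inv]
  · intro hmem
    obtain ⟨k, hk⟩ := Subgroup.mem_zpowers_iff.1 hmem
    rw [← map_zpow] at hk
    -- w = t^k * z
    have h1 : prj F ((t ^ k)⁻¹ * w) = 1 := by rw [map_mul, map_inv, hk, inv_mul_cancel]
    rw [prj_eq_one_iff] at h1
    have h2 := isSc_comm _ h1 t
    have h3 : w * t = t * w := by
      have hc : (t ^ k)⁻¹ * t = t * (t ^ k)⁻¹ :=
        ((Commute.refl t).zpow_left k).inv_left.eq
      calc w * t = t ^ k * ((t ^ k)⁻¹ * w * t) := by group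
        _ = t ^ k * (t * ((t ^ k)⁻¹ * w)) := by rw [h2]
        _ = t ^ k * (t * (t ^ k)⁻¹) * w := by simp only [mul_assoc]
        _ = t ^ k * ((t ^ k)⁻¹ * t) * w := by rw [hc]
        _ = t * w := by group
    have h4 : w * t * w⁻¹ = t := by rw [h3]; group
    rw [hw] at h4
    exact ne_inv_of_ss t htr h4.symm

end Dih

section MaxHelp

variable {F : Type*} [Field F]

theorem card_normalizer_sylow_dvd [Fintype F] (p : ℕ) [Fact p.Prime] [CharP F p]
    (P : Sylow p (P2 F)) :
    Nat.card (Subgroup.center (S2 F)) *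
      Nat.card (Subgroup.normalizer ((P : Subgroup (P2 F)) : Set (P2 F)))
      ∣ Fintype.card F * (Fintype.card F - 1) := by
  obtain ⟨P₀, hP₀⟩ := exists_P0 (F := F) p
  have h1 : Nat.card (Sylow p (P2 F))
      = (Subgroup.normalizer ((P : Subgroup (P2 F)) : Set (P2 F))).index :=
    Sylow.card_eq_index_normalizer P
  have h2 : Nat.card (Sylow p (P2 F))
      = (Subgroup.normalizer ((P₀ : Subgroup (P2 F)) : Set (P2 F))).index :=
    Sylow.card_eq_index_normalizer P₀
  have h3 := Subgroup.card_mul_index (Subgroup.normalizer ((P : Subgroup (P2 F)) : Set (P2 F)))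
  have h4 := Subgroup.card_mul_index (Subgroup.normalizer ((P₀ : Subgroup (P2 F)) : Set (P2 F)))
  rw [← h1] at h3
  rw [← h2] at h4
  have hpos : 0 < Nat.card (Sylow p (P2 F)) := Nat.card_pos
  have h5 : Nat.card (Subgroup.normalizer ((P : Subgroup (P2 F)) : Set (P2 F)))
      = Nat.card (Subgroup.normalizer ((P₀ : Subgroup (P2 F)) : Set (P2 F))) := by
    have : Nat.card (Sylow p (P2 F)) *
        Nat.card (Subgroup.normalizer ((P : Subgroup (P2 F)) : Set (P2 F)))
        = Nat.card (Sylow p (P2 F)) *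
          Nat.card (Subgroup.normalizer ((P₀ : Subgroup (P2 F)) : Set (P2 F))) := by
      rw [mul_comm, h3, mul_comm, h4]
    exact Nat.eq_of_mul_eq_mul_left hpos this
  rw [h5, hP₀, ← card_prjBor]
  exact Nat.mul_dvd_mul_left _ (Subgroup.card_dvd_of_le normalizer_PU_le)

theorem a4_inv_comm : ∀ g h : alternatingGroup (Fin 4), g * g = 1 → h * h = 1 → g * h = h * g := by
  decide

theorem s4_ord : ∀ g : Equiv.Perm (Fin 4), g ^ 2 = 1 ∨ g ^ 3 = 1 ∨ g ^ 4 = 1 := by
  decide +kernel

theorem a5_ord : ∀ g : alternatingGroup (Fin 5), g ^ 2 = 1 ∨ g ^ 3 = 1 ∨ g ^ 5 = 1 := by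
  decide +kernel

theorem dih_dvd_of_pow {X : Type*} [Group X] (n : ℕ) (ψ : DihedralGroup n →* X)
    (hψ : Function.Injective ψ) (k : ℕ) (h : ψ (DihedralGroup.r 1) ^ k = 1) : n ∣ k := by
  rw [← map_pow, ← map_one ψ] at h
  have h1 := hψ h
  have h2 := orderOf_dvd_of_pow_eq_one h1
  rwa [DihedralGroup.orderOf_r_one] at h2

theorem dih_in_A4 (n : ℕ) (ψ : DihedralGroup n →* alternatingGroup (Fin 4))
    (hψ : Function.Injective ψ) : n ∣ 2 := by
  have h0 : ψ (DihedralGroup.sr 0) * ψ (DihedralGroup.sr 0) = 1 := by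
    rw [← map_mul, DihedralGroup.sr_mul_self, map_one]
  have h1 : ψ (DihedralGroup.sr 1) * ψ (DihedralGroup.sr 1) = 1 := by
    rw [← map_mul, DihedralGroup.sr_mul_self, map_one]
  have h2 := a4_inv_comm _ _ h0 h1
  rw [← map_mul, ← map_mul] at h2
  have h3 := hψ h2
  rw [DihedralGroup.sr_mul_sr, DihedralGroup.sr_mul_sr] at h3
  have h4 : (1 : ZMod n) - 0 = 0 - 1 := by
    injection h3
  have h5 : ((2 : ℕ) : ZMod n) = 0 := by
    push_cast
    linear_combination h4
  exact (ZMod.natCast_eq_zero_iff 2 n).1 h5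

theorem dih_in_S4 (n : ℕ) (ψ : DihedralGroup n →* Equiv.Perm (Fin 4))
    (hψ : Function.Injective ψ) : n ∣ 2 ∨ n ∣ 3 ∨ n ∣ 4 := by
  rcases s4_ord (ψ (DihedralGroup.r 1)) with h | h | h
  · exact Or.inl (dih_dvd_of_pow n ψ hψ 2 h)
  · exact Or.inr (Or.inl (dih_dvd_of_pow n ψ hψ 3 h))
  · exact Or.inr (Or.inr (dih_dvd_of_pow n ψ hψ 4 h))

theorem dih_in_A5 (n : ℕ) (ψ : DihedralGroup n →* alternatingGroup (Fin 5))
    (hψ : Function.Injective ψ) : n ∣ 2 ∨ n ∣ 3 ∨ n ∣ 5 := by
  rcases a5_ord (ψ (DihedralGroup.r 1)) with h | h | h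
  · exact Or.inl (dih_dvd_of_pow n ψ hψ 2 h)
  · exact Or.inr (Or.inl (dih_dvd_of_pow n ψ hψ 3 h))
  · exact Or.inr (Or.inr (dih_dvd_of_pow n ψ hψ 5 h))

/-- a dihedral group of odd degree does not embed in the normaliser of a Sylow `2`-subgroup -/
theorem dih_in_normalizer {G : Type*} [Group G] [Finite G] (P : Sylow 2 G) (n : ℕ)
    (ψ : DihedralGroup n →* G) (hψ : Function.Injective ψ)
    (hr : ∀ x, ψ x ∈ Subgroup.normalizer ((P : Subgroup G) : Set G)) (hodd : Odd n) : n = 1 := by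
  have key : ∀ s : G, s * s = 1 → s ∈ Subgroup.normalizer ((P : Subgroup G) : Set G) →
      s ∈ (P : Subgroup G) := by
    intro s hs hsN
    have hZ : IsPGroup 2 (Subgroup.zpowers s) := by
      rintro ⟨g, hg⟩
      obtain ⟨k, rfl⟩ := Subgroup.mem_zpowers_iff.1 hg
      refine ⟨1, Subtype.ext ?_⟩
      show (s ^ k) ^ 2 ^ 1 = 1
      rw [pow_one, pow_two, ← _root_.zpow_add, ← two_mul, _root_.zpow_mul, zpow_ofNat, pow_two, hs,
        _root_.one_zpow]
    have hle : Subgroup.zpowers s ≤ Subgroup.normalizer ((P : Subgroup G) : Set G) := by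
      rw [Subgroup.zpowers_le]; exact hsN
    have hsup := IsPGroup.to_sup_of_normal_right' hZ P.isPGroup' hle
    have heq := P.is_maximal' hsup le_sup_right
    have : s ∈ Subgroup.zpowers s ⊔ (P : Subgroup G) :=
      (le_sup_left : Subgroup.zpowers s ≤ _) (Subgroup.mem_zpowers s)
    rw [heq] at this
    exact this
  have h0 : ψ (DihedralGroup.sr 0) ∈ (P : Subgroup G) :=
    key _ (by rw [← map_mul, DihedralGroup.sr_mul_self, map_one]) (hr _)
  have h1 : ψ (DihedralGroup.sr 1) ∈ (P : Subgroup G) :=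
    key _ (by rw [← map_mul, DihedralGroup.sr_mul_self, map_one]) (hr _)
  have h2 : ψ (DihedralGroup.r 1) ∈ (P : Subgroup G) := by
    have := mul_mem h0 h1
    rw [← map_mul, DihedralGroup.sr_mul_sr, sub_zero] at this
    exact this
  obtain ⟨k, hk⟩ := P.isPGroup' ⟨_, h2⟩
  have hk' : ψ (DihedralGroup.r 1) ^ 2 ^ k = 1 := congrArg Subtype.val hk
  have h3 := dih_dvd_of_pow n ψ hψ _ hk'
  have h4 : Nat.Coprime n (2 ^ k) := Nat.Coprime.pow_right k (Nat.coprime_two_right.2 hodd)
  exact Nat.Coprime.eq_one_of_dvd h4 h3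

end MaxHelp

section Orders

variable {K : Type*} [Field K]

theorem gcd_of_two_eq [Fintype K] (p : ℕ) [Fact p.Prime] [CharP K p] (h2 : (2 : K) = 0) :
    Nat.gcd 2 (Fintype.card K - 1) = 1 := by
  have hq2 : 2 ≤ Fintype.card K := Fintype.one_lt_card
  rw [Nat.coprime_iff_gcd_eq_one.symm, Nat.coprime_two_left]
  obtain ⟨k, hk⟩ := q_even p h2
  exact ⟨k - 1, by omega⟩

theorem gcd_of_two_ne [Fintype K] (p : ℕ) [Fact p.Prime] [CharP K p] (h2 : (2 : K) ≠ 0) :
    Nat.gcd 2 (Fintype.card K - 1) = 2 := by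
  apply Nat.gcd_eq_left
  obtain ⟨k, hk⟩ := q_odd p h2
  exact ⟨k, by omega⟩

theorem char_two_of [Fintype K] (p : ℕ) [Fact p.Prime] [CharP K p] (h2 : (2 : K) = 0) : p = 2 := by
  have hp2 : p ∣ 2 := (CharP.cast_eq_zero_iff K p 2).1 (by exact_mod_cast h2)
  exact (Nat.prime_dvd_prime_iff_eq (Fact.out : p.Prime) Nat.prime_two).1 hp2

theorem char_ne_two_of [Fintype K] (p : ℕ) [Fact p.Prime] [CharP K p] (h2 : (2 : K) ≠ 0) :
    p ≠ 2 := by
  intro hp2
  apply h2
  have := CharP.cast_eq_zero K p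
  rw [hp2] at this
  exact_mod_cast this

/-- orders of `p'`-elements of `PSL₂(r)` divide `(r ± 1)/d` -/
theorem psl_ord [Fintype K] (p : ℕ) [Fact p.Prime] [CharP K p] (h : P2 K)
    (hcop : (orderOf h).Coprime p) :
    Nat.gcd 2 (Fintype.card K - 1) * orderOf h ∣ Fintype.card K - 1 ∨
      Nat.gcd 2 (Fintype.card K - 1) * orderOf h ∣ Fintype.card K + 1 := by
  obtain ⟨g, rfl⟩ := prj_surj h
  have hq2 : 2 ≤ Fintype.card K := Fintype.one_lt_card
  by_cases h2 : (2 : K) = 0
  · rw [gcd_of_two_eq p h2, one_mul]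
    rw [orderOf_prj_even h2] at hcop ⊢
    exact Cfsg.Agent.S0800.result rfl p g hcop
  · have ho := q_odd p h2
    rw [gcd_of_two_ne p h2]
    obtain ⟨n', hn'⟩ : ∃ n', n' = orderOf (prj K g) := ⟨_, rfl⟩
    rw [← hn'] at hcop ⊢
    have hn'pos : 0 < n' := hn' ▸ orderOf_pos _
    obtain ⟨m, hm⟩ : ∃ m, m = orderOf g := ⟨_, rfl⟩
    have h1 : n' ∣ m := by
      rw [hn']
      exact orderOf_dvd_of_pow_eq_one (by rw [← map_pow, hm, pow_orderOf_eq_one, map_one])
    have h2' : m ∣ 2 * n' := by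
      rw [hm]
      apply orderOf_dvd_of_pow_eq_one
      have hsc : IsSc (g ^ n') := by rw [← prj_eq_one_iff, map_pow, hn', pow_orderOf_eq_one]
      have := isSc_mul_self _ hsc
      rw [two_mul, pow_add]; exact this
    have hp2 : p ≠ 2 := char_ne_two_of p h2
    have hcop2 : Nat.Coprime 2 p :=
      (Nat.coprime_primes Nat.prime_two (Fact.out : p.Prime)).2 (Ne.symm hp2)
    have hcm : Nat.Coprime m p :=
      Nat.Coprime.coprime_dvd_left h2' (Nat.Coprime.mul_left hcop2 hcop)
    have hS := Cfsg.Agent.S0800.result rfl p g (hm ▸ hcm)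
    rw [← hm] at hS
    have hmcase : m = n' ∨ m = 2 * n' := by
      obtain ⟨a, ha⟩ := h1
      obtain ⟨b, hb⟩ := h2'
      have hab : a * b = 2 := by
        have : n' * (a * b) = n' * 2 := by rw [← mul_assoc, ← ha, ← hb]; ring
        exact Nat.eq_of_mul_eq_mul_left hn'pos this
      have ha2 : a ∣ 2 := ⟨b, hab.symm⟩
      rcases (Nat.dvd_prime Nat.prime_two).1 ha2 with h | h
      · left; rw [ha, h, mul_one]
      · right; rw [ha, h, mul_comm]
    have key : ∀ e : ℕ, Even e → m ∣ e → 2 * n' ∣ e := by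
      intro e hev hme
      rcases hmcase with h | h
      · have hodd : Odd n' := by
          by_contra hne
          rw [Nat.not_odd_iff_even] at hne
          obtain ⟨k, hk⟩ := hne
          have h1' : g ^ k * g ^ k = 1 := by
            rw [← pow_add, ← hk, ← h, hm]; exact pow_orderOf_eq_one g
          have hsc : IsSc (g ^ k) := by
            rcases sq_eq_one h2 _ h1' with h' | h'
            · rw [h']; exact isSc_one
            · rw [h']; exact isSc_negOne
          have hk1 : (prj K g) ^ k = 1 := by rw [← map_pow]; exact (prj_eq_one_iff _).2 hsc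
          have hk2 := orderOf_dvd_of_pow_eq_one hk1
          rw [← hn'] at hk2
          have := Nat.le_of_dvd (by omega) hk2
          omega
        rw [h] at hme
        exact Nat.Coprime.mul_dvd_of_dvd_of_dvd (Nat.coprime_two_left.2 hodd) hev.two_dvd hme
      · rw [h] at hme; exact hme
    obtain ⟨k, hk⟩ := ho
    rcases hS with h | h
    · left; exact key _ ⟨k, by omega⟩ h
    · right; exact key _ ⟨k + 1, by omega⟩ h

theorem psl_ord_le [Fintype K] (p : ℕ) [Fact p.Prime] [CharP K p] (h : P2 K)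
    (hcop : (orderOf h).Coprime p) : orderOf h ≤ Fintype.card K + 1 := by
  have hq2 : 2 ≤ Fintype.card K := Fintype.one_lt_card
  have hpos : 0 < Nat.gcd 2 (Fintype.card K - 1) := Nat.gcd_pos_of_pos_left _ (by norm_num)
  have hle : orderOf h ≤ Nat.gcd 2 (Fintype.card K - 1) * orderOf h :=
    Nat.le_mul_of_pos_left _ hpos
  rcases psl_ord p h hcop with h' | h'
  · have := Nat.le_of_dvd (by omega) h'; omega
  · have := Nat.le_of_dvd (by omega) h'; omega

theorem pgl_ord_le [Fintype K] (p : ℕ) [Fact p.Prime] [CharP K p]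
    (g : Matrix.ProjGenLinGroup (Fin 2) K) (hcop : (orderOf g).Coprime p) :
    orderOf g ≤ Fintype.card K + 1 := by
  haveI : Finite (Matrix.ProjGenLinGroup (Fin 2) K) :=
    Finite.of_surjective _ Matrix.ProjGenLinGroup.mk_surjective
  obtain ⟨A, rfl⟩ := Matrix.ProjGenLinGroup.mk_surjective g
  obtain ⟨u, hu⟩ : ∃ u : Kˣ, u = Matrix.GeneralLinearGroup.det A := ⟨_, rfl⟩
  obtain ⟨B, hB⟩ : ∃ B : GL (Fin 2) K, B = A * A * Matrix.GeneralLinearGroup.scalar (Fin 2) u⁻¹ :=
    ⟨_, rfl⟩
  have hdetB : Matrix.GeneralLinearGroup.det B = 1 := by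
    rw [hB, map_mul, map_mul, Matrix.GeneralLinearGroup.det_scalar, ← hu, Fintype.card_fin,
      inv_pow, pow_two]
    exact mul_inv_cancel _
  have hdetB' : (B : Matrix (Fin 2) (Fin 2) K).det = 1 := by
    have := congrArg Units.val hdetB
    simpa using this
  obtain ⟨h, hh⟩ : ∃ h : S2 K, Matrix.SpecialLinearGroup.toGL h = B :=
    ⟨⟨(B : Matrix _ _ K), hdetB'⟩, Units.ext rfl⟩
  have hsq : (Matrix.ProjGenLinGroup.mk A) ^ 2
      = Matrix.ProjectiveSpecialLinearGroup.toPGL (prj K h) := by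
    have h1 : Matrix.ProjectiveSpecialLinearGroup.toPGL (prj K h)
        = Matrix.ProjGenLinGroup.mk (Matrix.SpecialLinearGroup.toGL h) := rfl
    rw [h1, hh, hB, map_mul, map_mul, Matrix.ProjGenLinGroup.mk_scalar, mul_one, pow_two]
  obtain ⟨n, hn⟩ : ∃ n, n = orderOf (Matrix.ProjGenLinGroup.mk A) := ⟨_, rfl⟩
  rw [← hn] at hcop ⊢
  have hn' : orderOf (prj K h) = n / Nat.gcd n 2 := by
    rw [← orderOf_injective _ Matrix.ProjectiveSpecialLinearGroup.toPGL_injective, ← hsq,
      orderOf_pow, hn]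
  have hcop' : (orderOf (prj K h)).Coprime p := by
    rw [hn']
    exact Nat.Coprime.coprime_dvd_left (Nat.div_dvd_of_dvd (Nat.gcd_dvd_left n 2)) hcop
  have hq2 : 2 ≤ Fintype.card K := Fintype.one_lt_card
  have hle : Nat.gcd 2 (Fintype.card K - 1) * orderOf (prj K h) ≤ Fintype.card K + 1 := by
    rcases psl_ord p (prj K h) hcop' with h' | h'
    · have := Nat.le_of_dvd (by omega) h'; omega
    · exact Nat.le_of_dvd (by omega) h'
  by_cases h2 : (2 : K) = 0
  · have hp2 : p = 2 := char_two_of p h2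
    have hg1 : Nat.gcd n 2 = 1 := by rw [hp2] at hcop; exact hcop
    rw [hn', hg1, Nat.div_one, gcd_of_two_eq p h2, one_mul] at hle
    exact hle
  · rw [hn', gcd_of_two_ne p h2] at hle
    have hgn : Nat.gcd n 2 ∣ n := Nat.gcd_dvd_left n 2
    have hg2 : Nat.gcd n 2 ≤ 2 := Nat.le_of_dvd (by norm_num) (Nat.gcd_dvd_right n 2)
    calc n = Nat.gcd n 2 * (n / Nat.gcd n 2) := (Nat.mul_div_cancel' hgn).symm
      _ ≤ 2 * (n / Nat.gcd n 2) := Nat.mul_le_mul_right _ hg2
      _ ≤ Fintype.card K + 1 := hle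

end Orders

end Cfsg.Agent.Lib.Helper19.Dk
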