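import Mathlib
import Cfsg.Agent.Lib.Helper19.DkL
import Cfsg.Agent.S0799

set_option autoImplicit false

/-!
# Proper overgroups of dihedral subgroups of `PSL₂(q)` (via Dickson's theorem)
-/

namespace Cfsg.Agent.Lib.Helper19.Dk

open Matrix Cfsg.Agent.S0809

variable {F : Type*} [Field F]

theorem card_A4 : Nat.card (alternatingGroup (Fin 4)) = 12 := by
  rw [nat_card_alternatingGroup]
  simp
  decide

theorem card_S4 : Nat.card (Equiv.Perm (Fin 4)) = 24 := by
  rw [Nat.card_perm, Nat.card_eq_fintype_card, Fintype.card_fin]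
  decide

theorem card_A5 : Nat.card (alternatingGroup (Fin 5)) = 60 := by
  rw [nat_card_alternatingGroup]
  simp
  decide

/-- what a proper overgroup `M` of a dihedral subgroup `H ≅ D_n` of `PSL₂(q)` looks like -/
theorem overgroup [Fintype F] (p : ℕ) [Fact p.Prime] [CharP F p] (H M : Subgroup (P2 F)) (n : ℕ)
    (hn : 0 < n) (e : H ≃* DihedralGroup n) (hHM : H < M) (hM : M ≠ ⊤) :
    (4 * n ≤ Nat.card M ∧ 2 * n ∣ Nat.card M ∧ Nat.card M ∣ Nat.card (P2 F) ∧
      Nat.card M < Nat.card (P2 F)) ∧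
    ((2 * n ≤ (Fintype.card F + 1) / Nat.gcd 2 (Fintype.card F - 1)) ∨
     (Nat.gcd 2 (Fintype.card F - 1) * (2 * n) ∣ Fintype.card F * (Fintype.card F - 1) ∧
        (p = 2 → Odd n → n = 1)) ∨
     (n ∣ 2 ∧ Nat.card M = 12) ∨
     ((n ∣ 2 ∨ n ∣ 3 ∨ n ∣ 4) ∧ Nat.card M = 24) ∨
     ((n ∣ 2 ∨ n ∣ 3 ∨ n ∣ 5) ∧ Nat.card M = 60) ∨
     (∃ r m : ℕ, 2 ≤ r ∧ r ^ m = Fintype.card F ∧ 2 ≤ m ∧ Nat.card M ∣ r * (r ^ 2 - 1) ∧
        (Nat.Coprime n (Fintype.card F) → n ≤ r + 1))) := by
  classical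
  have hq2 : 2 ≤ Fintype.card F := Fintype.one_lt_card
  have hz := z_gcd (F := F) p
  have hN := card_P2 (F := F)
  have hd12 : Nat.gcd 2 (Fintype.card F - 1) = 1 ∨ Nat.gcd 2 (Fintype.card F - 1) = 2 :=
    (Nat.dvd_prime Nat.prime_two).1 (Nat.gcd_dvd_left 2 (Fintype.card F - 1))
  have hdpos : 0 < Nat.gcd 2 (Fintype.card F - 1) := by rcases hd12 with h | h <;> omega
  have hle : H ≤ M := le_of_lt hHM
  have hcH : Nat.card H = 2 * n := by rw [Nat.card_congr e.toEquiv, DihedralGroup.nat_card]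
  have hdvd : Nat.card H ∣ Nat.card M := Subgroup.card_dvd_of_le hle
  have hne : Nat.card H ≠ Nat.card M := by
    intro h
    exact hHM.ne (Subgroup.eq_of_le_of_card_ge hle (le_of_eq h.symm))
  have hMpos : 0 < Nat.card M := Nat.card_pos
  have h4n : 4 * n ≤ Nat.card M := by
    obtain ⟨j, hj⟩ := hdvd
    rw [hcH] at hj hne
    have hj0 : j ≠ 0 := by rintro rfl; rw [mul_zero] at hj; omega
    have hj1 : j ≠ 1 := by rintro rfl; rw [mul_one] at hj; exact hne hj.symm
    have hj2 : 2 ≤ j := by omega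
    calc 4 * n = 2 * n * 2 := by ring
      _ ≤ 2 * n * j := Nat.mul_le_mul_left _ hj2
      _ = Nat.card M := hj.symm
  have hMG : Nat.card M < Nat.card (P2 F) := by
    have hle' := Subgroup.card_le_card_group M
    rcases Nat.lt_or_ge (Nat.card M) (Nat.card (P2 F)) with h | h
    · exact h
    · exact absurd ((Subgroup.card_eq_iff_eq_top M).1 (le_antisymm hle' h)) hM
  have hMdvd : Nat.card M ∣ Nat.card (P2 F) := Subgroup.card_subgroup_dvd_card M
  refine ⟨⟨h4n, hcH ▸ hdvd, hMdvd, hMG⟩, ?_⟩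
  let ψ₀ : DihedralGroup n →* M := (Subgroup.inclusion hle).comp e.symm.toMonoidHom
  have hψ₀ : Function.Injective ψ₀ := (Subgroup.inclusion_injective hle).comp e.symm.injective
  rcases Cfsg.Agent.S0799.result (F := F) (q := Fintype.card F) rfl p M with
    ⟨k, hk, hcd⟩ | ⟨P, K, hK, ⟨eK⟩⟩ | ⟨⟨eM⟩⟩ | ⟨⟨eM⟩⟩ | ⟨⟨eM⟩⟩ | ⟨K, iK, fK, m, hm, hiso⟩
  · left
    have hpos1 : 0 < (Fintype.card F + 1) / Nat.gcd 2 (Fintype.card F - 1) :=
      Nat.div_pos (by rcases hd12 with h | h <;> omega) hdpos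
    have hpos2 : 0 < (Fintype.card F - 1) / Nat.gcd 2 (Fintype.card F - 1) :=
      Nat.div_pos (Nat.le_of_dvd (by omega) (Nat.gcd_dvd_right 2 _)) hdpos
    have hk_le : k ≤ (Fintype.card F + 1) / Nat.gcd 2 (Fintype.card F - 1) := by
      rcases hk with hk | hk
      · exact Nat.le_of_dvd hpos1 hk
      · exact le_trans (Nat.le_of_dvd hpos2 hk) (Nat.div_le_div_right (by omega))
    have hcard : Nat.card M ≤ 2 * k := by
      rcases hcd with ⟨_, hc⟩ | ⟨⟨e'⟩⟩
      · rw [hc]; omega
      · rw [Nat.card_congr e'.toEquiv, DihedralGroup.nat_card]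
    omega
  · right; left
    constructor
    · have h1 := card_normalizer_sylow_dvd p P
      rw [hz] at h1
      have h2 : Nat.card M ∣
          Nat.card (Subgroup.normalizer ((P : Subgroup (P2 F)) : Set (P2 F))) := by
        rw [Nat.card_congr eK.toEquiv]
        exact Subgroup.card_dvd_of_le hK
      have h3 : 2 * n ∣ Nat.card (Subgroup.normalizer ((P : Subgroup (P2 F)) : Set (P2 F))) :=
        dvd_trans (hcH ▸ hdvd) h2
      exact dvd_trans (Nat.mul_dvd_mul_left _ h3) h1
    · intro hp2 hodd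
      subst hp2
      let ψ : DihedralGroup n →* P2 F := (Subgroup.subtype K).comp (eK.toMonoidHom.comp ψ₀)
      have hψ : Function.Injective ψ :=
        (Subgroup.subtype_injective K).comp (eK.injective.comp hψ₀)
      exact dih_in_normalizer P n ψ hψ (fun x => hK (eK (ψ₀ x)).2) hodd
  · right; right; left
    exact ⟨dih_in_A4 n (eM.toMonoidHom.comp ψ₀) (eM.injective.comp hψ₀),
      by rw [Nat.card_congr eM.toEquiv, card_A4]⟩
  · right; right; right; left
    exact ⟨dih_in_S4 n (eM.toMonoidHom.comp ψ₀) (eM.injective.comp hψ₀),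
      by rw [Nat.card_congr eM.toEquiv, card_S4]⟩
  · right; right; right; right; left
    exact ⟨dih_in_A5 n (eM.toMonoidHom.comp ψ₀) (eM.injective.comp hψ₀),
      by rw [Nat.card_congr eM.toEquiv, card_A5]⟩
  · right; right; right; right; right
    letI := iK
    letI := fK
    have hr2 : 2 ≤ Fintype.card K := Fintype.one_lt_card
    have hcardM : Nat.card M ∣ Fintype.card K * (Fintype.card K ^ 2 - 1) := by
      rcases hiso with ⟨⟨e'⟩⟩ | ⟨⟨e'⟩⟩
      · have h5 := card_P2 (F := K)
        rw [← Nat.card_congr e'.toEquiv] at h5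
        rw [← h5]
        exact Dvd.intro_left _ rfl
      · rw [Nat.card_congr e'.toEquiv, Cfsg.Agent.S0265.result 2, card_S2]
    refine ⟨Fintype.card K, m, hr2, hm, ?_, hcardM, ?_⟩
    · by_contra hm2
      have hm01 : m = 0 ∨ m = 1 := by omega
      rcases hm01 with rfl | rfl
      · simp at hm; omega
      · rw [pow_one] at hm
        rcases hiso with ⟨⟨e'⟩⟩ | ⟨⟨e'⟩⟩
        · have h5 := card_P2 (F := K)
          rw [hm, ← Nat.card_congr e'.toEquiv, ← hN] at h5
          have h6 := Nat.eq_of_mul_eq_mul_left hdpos h5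
          exact absurd h6 (ne_of_lt hMG)
        · have h5 : Nat.card M = Fintype.card F * (Fintype.card F ^ 2 - 1) := by
            rw [Nat.card_congr e'.toEquiv, Cfsg.Agent.S0265.result 2, card_S2, hm]
          rw [← hN] at h5
          have h6 : Nat.card (P2 F) ≤ Nat.gcd 2 (Fintype.card F - 1) * Nat.card (P2 F) :=
            Nat.le_mul_of_pos_left _ hdpos
          rw [← h5] at h6
          exact absurd hMG (not_lt.2 h6)
    · intro hcop
      obtain ⟨p', hp'⟩ := CharP.exists K
      haveI : Fact p'.Prime := ⟨CharP.char_is_prime K p'⟩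
      obtain ⟨a, _, ha⟩ := FiniteField.card K p'
      have hp'r : p' ∣ Fintype.card K := by
        rw [ha]; exact dvd_pow_self p' a.pos.ne'
      have hm0 : m ≠ 0 := by
        rintro rfl
        simp at hm; omega
      have hp'q : p' ∣ Fintype.card F := by
        rw [← hm]; exact dvd_trans hp'r (dvd_pow_self _ hm0)
      have hcop' : Nat.Coprime n p' := Nat.Coprime.coprime_dvd_right hp'q hcop
      rcases hiso with ⟨⟨e'⟩⟩ | ⟨⟨e'⟩⟩
      · have ho : orderOf (e' (ψ₀ (DihedralGroup.r 1))) = n := by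
          have := orderOf_injective (e'.toMonoidHom.comp ψ₀) (e'.injective.comp hψ₀)
            (DihedralGroup.r 1)
          rw [DihedralGroup.orderOf_r_one] at this
          exact this
        have := psl_ord_le p' (e' (ψ₀ (DihedralGroup.r 1))) (by rw [ho]; exact hcop')
        rwa [ho] at this
      · have ho : orderOf (e' (ψ₀ (DihedralGroup.r 1))) = n := by
          have := orderOf_injective (e'.toMonoidHom.comp ψ₀) (e'.injective.comp hψ₀)
            (DihedralGroup.r 1)
          rw [DihedralGroup.orderOf_r_one] at this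
          exact this
        have := pgl_ord_le p' (e' (ψ₀ (DihedralGroup.r 1))) (by rw [ho]; exact hcop')
        rwa [ho] at this

end Cfsg.Agent.Lib.Helper19.Dk
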