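import Mathlib
import Cfsg.Agent.Lib.Helper19.DkM
import Cfsg.Agent.S0250
import Cfsg.Agent.S0251

set_option autoImplicit false

/-!
# Solvability of the Dickson subgroups of `PSL₂(q)`
-/

namespace Cfsg.Agent.Lib.Helper19.Dk

open Matrix Cfsg.Agent.S0809 Group

section Solv

theorem solvable_of_index_two {G : Type*} [Group G] (N : Subgroup G) (hN : N.index = 2)
    [Group.IsSolvable N] : Group.IsSolvable G := by
  haveI := Subgroup.normal_of_index_eq_two hN
  have hc : Nat.card (G ⧸ N) = 2 := hN
  haveI : IsCyclic (G ⧸ N) := isCyclic_of_prime_card (p := 2) hc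
  haveI : Group.IsSolvable (G ⧸ N) := Group.isSolvable_of_comm (fun a b => IsCyclic.commGroup.mul_comm a b)
  exact Group.isSolvable_of_ker_le_range N.subtype (QuotientGroup.mk' N) (by simp)

theorem a4_comm_sq : ∀ a b : alternatingGroup (Fin 4),
    (a * b * a⁻¹ * b⁻¹) * (a * b * a⁻¹ * b⁻¹) = 1 := by decide +kernel

theorem a4_sq_mul : ∀ a b : alternatingGroup (Fin 4), a * a = 1 → b * b = 1 →
    (a * b) * (a * b) = 1 := by decide

theorem a4_sq_inv : ∀ a : alternatingGroup (Fin 4), a * a = 1 → a⁻¹ * a⁻¹ = 1 := by decide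

instance solvable_A4 : Group.IsSolvable (alternatingGroup (Fin 4)) := by
  let V : Subgroup (alternatingGroup (Fin 4)) :=
    { carrier := {g | g * g = 1}
      mul_mem' := fun ha hb => a4_sq_mul _ _ ha hb
      one_mem' := by simp
      inv_mem' := fun ha => a4_sq_inv _ ha }
  refine ⟨⟨2, ?_⟩⟩
  rw [eq_bot_iff, derivedSeries_succ, derivedSeries_succ, derivedSeries_zero]
  have h1 : ⁅(⊤ : Subgroup (alternatingGroup (Fin 4))), ⊤⁆ ≤ V :=
    Subgroup.commutator_le.2 (fun a _ b _ => by
      rw [commutatorElement_def]; exact a4_comm_sq a b)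
  refine le_trans (Subgroup.commutator_mono h1 h1) ?_
  rw [Subgroup.commutator_le]
  intro a ha b hb
  rw [Subgroup.mem_bot, commutatorElement_eq_one_iff_mul_comm]
  exact a4_inv_comm a b ha hb

instance solvable_S4 : Group.IsSolvable (Equiv.Perm (Fin 4)) :=
  solvable_of_index_two (alternatingGroup (Fin 4)) alternatingGroup.index_eq_two

instance solvable_S3 : Group.IsSolvable (Equiv.Perm (Fin 3)) := by
  have hc : Nat.card (alternatingGroup (Fin 3)) = 3 := by
    rw [nat_card_alternatingGroup]
    simp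
    decide
  haveI : Fact (Nat.Prime 3) := ⟨Nat.prime_three⟩
  haveI : IsCyclic (alternatingGroup (Fin 3)) := isCyclic_of_prime_card (p := 3) hc
  haveI : Group.IsSolvable (alternatingGroup (Fin 3)) :=
    Group.isSolvable_of_comm (fun a b => IsCyclic.commGroup.mul_comm a b)
  exact solvable_of_index_two (alternatingGroup (Fin 3)) alternatingGroup.index_eq_two

instance solvable_dih (n : ℕ) : Group.IsSolvable (DihedralGroup n) := by
  let f : Multiplicative (ZMod n) →* DihedralGroup n :=
    MonoidHom.mk' (fun i => DihedralGroup.r (Multiplicative.toAdd i))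
      (fun a b => (DihedralGroup.r_mul_r _ _).symm)
  let g : DihedralGroup n →* Multiplicative (ZMod 2) :=
    MonoidHom.mk' (fun x => match x with
      | DihedralGroup.r _ => 1
      | DihedralGroup.sr _ => Multiplicative.ofAdd 1) (by
        rintro (a | a) (b | b)
        · rfl
        · rfl
        · rfl
        · show (1 : Multiplicative (ZMod 2)) = Multiplicative.ofAdd 1 * Multiplicative.ofAdd 1
          decide)
  refine Group.isSolvable_of_ker_le_range f g ?_
  rintro (a | a) hx
  · exact ⟨Multiplicative.ofAdd a, rfl⟩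
  · exfalso
    rw [MonoidHom.mem_ker] at hx
    have : (Multiplicative.ofAdd 1 : Multiplicative (ZMod 2)) = 1 := hx
    revert this
    decide

variable {F : Type*} [Field F]

instance solvable_Bor : Group.IsSolvable (Bor F) := by
  let f : Multiplicative F →* Bor F :=
    MonoidHom.mk' (fun b => ⟨uu (Multiplicative.toAdd b), rfl⟩)
      (fun a b => Subtype.ext (uu_mul _ _).symm)
  refine Group.isSolvable_of_ker_le_range f (chi F) ?_
  intro g hg
  rw [MonoidHom.mem_ker] at hg
  have h00 : (g : S2 F) 0 0 = 1 := by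
    have := congrArg Units.val hg
    rw [chi_val] at this
    exact this
  exact ⟨Multiplicative.ofAdd ((g : S2 F) 0 1), Subtype.ext (eq_uu_of_bor g.1 g.2 h00).symm⟩

instance solvable_prjBor : Group.IsSolvable ((Bor F).map (prj F)) :=
  Group.isSolvable_of_surjective (f := (prj F).subgroupMap (Bor F))
    (MonoidHom.subgroupMap_surjective _ _)

/-- subgroups of a Sylow `p`-normaliser of `PSL₂(q)` are solvable -/
theorem solvable_of_le_normalizer [Fintype F] (p : ℕ) [Fact p.Prime] [CharP F p]
    (P : Sylow p (P2 F)) (K : Subgroup (P2 F))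
    (hK : K ≤ Subgroup.normalizer ((P : Subgroup (P2 F)) : Set (P2 F))) : Group.IsSolvable K := by
  obtain ⟨P₀, hP₀⟩ := exists_P0 (F := F) p
  obtain ⟨g, hg⟩ := MulAction.exists_smul_eq (P2 F) P₀ P
  have hmemP : ∀ t : P2 F, t ∈ (P : Subgroup (P2 F)) ↔ g⁻¹ * t * g ∈ (P₀ : Subgroup (P2 F)) := by
    intro t
    rw [← hg, Sylow.smul_def, Sylow.pointwise_smul_def, Subgroup.mem_pointwise_smul_iff_inv_smul_mem]
    simp [MulAut.smul_def]
  have hclaim : ∀ x ∈ Subgroup.normalizer ((P : Subgroup (P2 F)) : Set (P2 F)),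
      g⁻¹ * x * g ∈ Subgroup.normalizer ((P₀ : Subgroup (P2 F)) : Set (P2 F)) := by
    intro x hx
    rw [mem_normalizer_fin] at hx ⊢
    intro t ht
    have h1 : g * t * g⁻¹ ∈ (P : Subgroup (P2 F)) := by
      rw [hmemP]
      have : g⁻¹ * (g * t * g⁻¹) * g = t := by group
      rw [this]; exact ht
    have h2 := hx _ h1
    rw [hmemP] at h2
    have : g⁻¹ * x * g * t * (g⁻¹ * x * g)⁻¹ = g⁻¹ * (x * (g * t * g⁻¹) * x⁻¹) * g := by group
    rw [this]; exact h2
  let ψ : K →* ((Bor F).map (prj F) : Subgroup (P2 F)) :=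
    ((MulAut.conj g⁻¹).toMonoidHom.comp K.subtype).codRestrict _ (by
      intro x
      apply normalizer_PU_le
      rw [← hP₀]
      have := hclaim _ (hK x.2)
      simpa [MulAut.conj_apply] using this)
  have hψ : Function.Injective ψ := by
    intro x y hxy
    have h1 := congrArg Subtype.val hxy
    simp only [ψ, MonoidHom.codRestrict_apply, MonoidHom.coe_comp, Function.comp_apply,
      Subgroup.coe_subtype, MulEquiv.coe_toMonoidHom] at h1
    exact Subtype.ext ((MulAut.conj g⁻¹).injective h1)
  exact Group.isSolvable_of_isSolvable_injective hψ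

end Solv

section Small

variable {K : Type*} [Field K]

theorem solvable_P2_two [Fintype K] (hK : Fintype.card K = 2) : Group.IsSolvable (P2 K) := by
  obtain ⟨e⟩ := Cfsg.Agent.S0250.result hK
  haveI : Group.IsSolvable (S2 K) :=
    Group.isSolvable_of_isSolvable_injective (f := e.toMonoidHom) e.injective
  exact Group.isSolvable_of_surjective (f := prj K) prj_surj

theorem solvable_P2_three [Fintype K] (hK : Fintype.card K = 3) : Group.IsSolvable (P2 K) := by
  obtain ⟨e⟩ := Cfsg.Agent.S0251.result hK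
  exact Group.isSolvable_of_isSolvable_injective (f := e.toMonoidHom) e.injective

theorem solvable_pgl [Fintype K] (hs : Group.IsSolvable (P2 K)) :
    Group.IsSolvable (Matrix.ProjGenLinGroup (Fin 2) K) := by
  haveI := hs
  haveI : Finite (Matrix.ProjGenLinGroup (Fin 2) K) :=
    Finite.of_surjective _ Matrix.ProjGenLinGroup.mk_surjective
  obtain ⟨N, hN⟩ : ∃ N : Subgroup (Matrix.ProjGenLinGroup (Fin 2) K),
      N = (Matrix.ProjectiveSpecialLinearGroup.toPGL (n := Fin 2) (R := K)).range := ⟨_, rfl⟩
  haveI : Group.IsSolvable N := by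
    rw [hN]
    exact Group.isSolvable_of_surjective
      (f := (Matrix.ProjectiveSpecialLinearGroup.toPGL (n := Fin 2) (R := K)).rangeRestrict)
      (MonoidHom.rangeRestrict_surjective _)
  have hcN : Nat.card N = Nat.card (P2 K) := by
    rw [hN]
    exact (Nat.card_congr (MonoidHom.ofInjective
      (Matrix.ProjectiveSpecialLinearGroup.toPGL_injective (n := Fin 2) (R := K))).toEquiv).symm
  have hcG : Nat.card (Matrix.ProjGenLinGroup (Fin 2) K)
      = Nat.gcd 2 (Fintype.card K - 1) * Nat.card (P2 K) := by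
    rw [Cfsg.Agent.S0265.result 2, card_S2, card_P2]
  have hidx : N.index = Nat.gcd 2 (Fintype.card K - 1) := by
    have h1 := Subgroup.card_mul_index N
    rw [hcG, hcN] at h1
    have hpos : 0 < Nat.card (P2 K) := Nat.card_pos
    have h2 : Nat.card (P2 K) * N.index = Nat.card (P2 K) * Nat.gcd 2 (Fintype.card K - 1) := by
      rw [h1, mul_comm]
    exact Nat.eq_of_mul_eq_mul_left hpos h2
  rcases (Nat.dvd_prime Nat.prime_two).1 (Nat.gcd_dvd_left 2 (Fintype.card K - 1)) with h | h
  · rw [h] at hidx
    have htop : N = ⊤ := Subgroup.index_eq_one.1 hidx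
    exact Group.isSolvable_of_surjective (f := N.subtype) (by
      intro x
      exact ⟨⟨x, htop ▸ Subgroup.mem_top x⟩, rfl⟩)
  · rw [h] at hidx
    exact solvable_of_index_two N hidx

theorem not_comm_P2 : prj K (uu 1) * prj K (ll 1) ≠ prj K (ll 1) * prj K (uu 1) := by
  intro h
  have h1 : prj K ((uu 1 * ll 1)⁻¹ * (ll 1 * uu 1)) = 1 := by
    rw [map_mul, map_inv, map_mul, map_mul, h, inv_mul_cancel]
  rw [prj_eq_one_iff] at h1
  have h2 := h1.1
  simp only [mul00, mul01, mul10, mul11, inv00, inv01, uu_00, uu_01, uu_10, uu_11, ll_00, ll_01,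
    ll_10, ll_11] at h2
  norm_num at h2

theorem simple_P2 [Fintype K] (h4 : 4 ≤ Fintype.card K) : IsSimpleGroup (P2 K) := by
  classical
  apply Matrix.ProjectiveSpecialLinearGroup.rank_two_simple'
  by_contra hcon
  push Not at hcon
  have hsub : (Finset.univ : Finset K) ⊆ {0, 1, -1} := by
    intro a _
    by_cases ha : a = 0
    · simp [ha]
    · have h1 := hcon a ha
      have h2 : (a - 1) * (a + 1) = 0 := by linear_combination h1
      rcases mul_eq_zero.1 h2 with h | h
      · have : a = 1 := by linear_combination h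
        simp [this]
      · have : a = -1 := by linear_combination h
        simp [this]
  have h1 := Finset.card_le_card hsub
  have h2 : ({0, 1, -1} : Finset K).card ≤ 3 := Finset.card_le_three
  rw [Finset.card_univ] at h1
  omega

theorem not_solvable_P2 [Fintype K] (h4 : 4 ≤ Fintype.card K) : ¬ Group.IsSolvable (P2 K) := by
  haveI := simple_P2 h4
  intro hs
  exact not_comm_P2 (IsSimpleGroup.comm_iff_isSolvable.2 hs _ _)

theorem not_solvable_A5 : ¬ Group.IsSolvable (alternatingGroup (Fin 5)) := by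
  intro hs
  have h := IsSimpleGroup.comm_iff_isSolvable.2 hs Cfsg.Agent.Lib.Helper19.A5P.a0
    Cfsg.Agent.Lib.Helper19.A5P.x0
  revert h
  decide

theorem exists_psl_sub {F : Type*} [Field F] [Fintype F] [Fintype K] (m : ℕ) (hm : 1 ≤ m)
    (hK : Fintype.card K ^ m = Fintype.card F) :
    ∃ H : Subgroup (P2 F), Nonempty (H ≃* P2 K) := by
  obtain ⟨φ⟩ := Cfsg.Agent.S0805.exists_hom (F := F) (K := K) m hm hK
  exact Cfsg.Agent.S0805.exists_sub ((ProjGenLinGroup.map (n := Fin 2) φ).comp
    ProjectiveSpecialLinearGroup.toPGL) ProjectiveSpecialLinearGroup.toPGL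
    ((Cfsg.Agent.S0805.pglmap_inj φ).comp ProjectiveSpecialLinearGroup.toPGL_injective)
    ProjectiveSpecialLinearGroup.toPGL_injective (Cfsg.Agent.S0805.rangeA φ)

end Small

end Cfsg.Agent.Lib.Helper19.Dk
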