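import Mathlib
import Cfsg.Agent.Lib.Helper19.DkL

set_option autoImplicit false

namespace Cfsg.Agent.Lib.Helper19.Dk

open Matrix Cfsg.Agent.S0809

section NormTr

variable {F : Type*} [Field F]

theorem tr_dconj (d : F) (hd : d ≠ 0) (g : S2 F) : tr (dconj d hd g) = tr g := rfl

theorem tr_mulAut_conj (c g : S2 F) : tr (MulAut.conj c g) = tr g := by
  rw [MulAut.conj_apply, tr_conj]

theorem exists_nf_aux' [Finite F] (L : Subgroup (S2 F)) (hZ : Subgroup.center (S2 F) ≤ L)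
    (b₀ : F) (hb₀ : b₀ ≠ 0) (hL : uu b₀ ∈ L) (q' k : ℕ) (hq : 1 ≤ q') (hk : 1 ≤ k)
    (hcA : cA L (uu b₀) = Nat.card (Subgroup.center (S2 F)) * q')
    (hcN : cN L (uu b₀) = Nat.card (Subgroup.center (S2 F)) * k * q')
    (hcard : Nat.card L = Nat.card (Subgroup.center (S2 F)) * k * q' * (1 + q')) :
    ∃ θ : S2 F ≃* S2 F, NF (L.map θ.toMonoidHom) q' ∧ ∀ g, tr (θ g) = tr g := by
  obtain ⟨hB, hT⟩ := bb_tt_card L hZ b₀ hb₀ q' k hq hk hcA hcN hcard
  have hne : Nonempty (TT L) := (Nat.card_pos_iff.1 (by omega)).1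
  obtain ⟨⟨τ, w₁, hw₁L, hw₁10, hτ⟩⟩ := hne
  have hfix : (MulAut.conj (uu (-τ))) (uu b₀) = uu b₀ := by
    rw [MulAut.conj_apply, uu_inv, uu_mul, uu_mul]
    congr 1
    ring
  have hθ₃ : (dconj (1 / b₀) (one_div_ne_zero hb₀)) (uu b₀) = uu 1 := by
    rw [dconj_uu]
    congr 1
    field_simp
  refine ⟨(MulAut.conj (uu (-τ))).trans (dconj (1 / b₀) (one_div_ne_zero hb₀)), ?_, ?_⟩
  · rw [map_trans]
    have hZ₂ := center_le_map L hZ (MulAut.conj (uu (-τ)))
    have hZ₃ := center_le_map _ hZ₂ (dconj (1 / b₀) (one_div_ne_zero hb₀))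
    have huu₂ : uu b₀ ∈ L.map (MulAut.conj (uu (-τ))).toMonoidHom := by
      rw [← hfix]
      exact (mem_map_equiv' _ L _).2 hL
    obtain ⟨d1, d2, d3⟩ := data_map (MulAut.conj (uu (-τ))) L _ _ hfix _ _ _ hcA hcN hcard
    obtain ⟨e1, e2, e3⟩ := data_map (dconj (1 / b₀) (one_div_ne_zero hb₀)) _ _ _ hθ₃ _ _ _ d1 d2 d3
    obtain ⟨hB₃, hT₃⟩ := bb_tt_card _ hZ₃ 1 one_ne_zero q' k hq hk e1 e2 e3
    refine ⟨hZ₃, ?_, ⟨(dconj (1 / b₀) (one_div_ne_zero hb₀)) ((MulAut.conj (uu (-τ))) w₁),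
      (mem_map_equiv' _ _ _).2 ((mem_map_equiv' _ L _).2 hw₁L), ?_⟩, hB₃, hT₃⟩
    · rw [← hθ₃]
      exact (mem_map_equiv' _ _ _).2 huu₂
    · rw [dconj_00, MulAut.conj_apply, uu_inv, neg_neg, mul00, mul00, mul01]
      simp only [uu_00, uu_01, uu_10, uu_11]
      rw [hτ]
      field_simp
      ring
  · intro g
    show tr (dconj (1 / b₀) (one_div_ne_zero hb₀) (MulAut.conj (uu (-τ)) g)) = tr g
    rw [tr_dconj, tr_mulAut_conj]

theorem exists_nf' [Finite F] (L : Subgroup (S2 F)) (hZ : Subgroup.center (S2 F) ≤ L)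
    (x₀ : S2 F) (hx₀ : x₀ ∈ L) (hsc : ¬ IsSc x₀) (h4 : tr x₀ ^ 2 = 4) (q' k : ℕ) (hq : 1 ≤ q')
    (hk : 1 ≤ k)
    (hcA : cA L x₀ = Nat.card (Subgroup.center (S2 F)) * q')
    (hcN : cN L x₀ = Nat.card (Subgroup.center (S2 F)) * k * q')
    (hcard : Nat.card L = Nat.card (Subgroup.center (S2 F)) * k * q' * (1 + q')) :
    ∃ θ : S2 F ≃* S2 F, NF (L.map θ.toMonoidHom) q' ∧
      Nat.card (L.map θ.toMonoidHom)
        = Nat.card (Subgroup.center (S2 F)) * k * q' * (1 + q') ∧ ∀ g, tr (θ g) = tr g := by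
  obtain ⟨x₁, hx₁L, hsc₁, htr₁, hcomm⟩ := exists_tr_two L hZ x₀ hx₀ hsc h4
  have D := ctd L hZ
  have hn0 : x₀ ∉ Subgroup.center (S2 F) := fun h => hsc ((isSc_iff_center _).2 h)
  have hn1 : x₁ ∉ Subgroup.center (S2 F) := fun h => hsc₁ ((isSc_iff_center _).2 h)
  have hA : cA L x₀ = cA L x₁ := cA_of_comm D hn0 hn1 hcomm
  have hN : cN L x₀ = cN L x₁ := cN_of_comm D hn0 hn1 hcomm
  obtain ⟨g, b, hb, hgb⟩ := exists_conj_uu x₁ htr₁ hsc₁
  have hconj : (MulAut.conj g) x₁ = uu b := by rw [MulAut.conj_apply]; exact hgb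
  obtain ⟨d1, d2, d3⟩ := data_map (MulAut.conj g) L x₁ (uu b) hconj _ _ _
    (hA.symm.trans hcA) (hN.symm.trans hcN) hcard
  have hZ' := center_le_map L hZ (MulAut.conj g)
  have hL' : uu b ∈ L.map (MulAut.conj g).toMonoidHom := by
    rw [← hconj]
    exact (mem_map_equiv' _ L x₁).2 hx₁L
  obtain ⟨θ, hθ, hθtr⟩ := exists_nf_aux' (L.map (MulAut.conj g).toMonoidHom) hZ' b hb hL' q' k
    hq hk d1 d2 d3
  refine ⟨(MulAut.conj g).trans θ, ?_, ?_, ?_⟩
  · rw [map_trans]; exact hθ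
  · rw [map_trans, card_map, card_map, hcard]
  · intro y
    show tr (θ (MulAut.conj g y)) = tr y
    rw [hθtr, tr_mulAut_conj]

end NormTr

section FieldConc

variable {F : Type*} [Field F]

/-- The subgroup of matrices with entries in a subfield. -/
def SLsub (Kf : Subfield F) : Subgroup (S2 F) :=
  (SpecialLinearGroup.map (n := Fin 2) Kf.subtype).range

theorem mem_SLsub (Kf : Subfield F) (g : S2 F) : g ∈ SLsub Kf ↔ ∀ i j, g i j ∈ Kf := by
  constructor
  · rintro ⟨g₀, rfl⟩ i j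
    rw [slmap_entry]
    exact (g₀ i j).2
  · intro h
    refine ⟨mk2 ⟨g 0 0, h 0 0⟩ ⟨g 0 1, h 0 1⟩ ⟨g 1 0, h 1 0⟩ ⟨g 1 1, h 1 1⟩ ?_, ?_⟩
    · apply Subtype.ext
      push_cast
      exact det2 g
    · apply ext2 <;> rfl

theorem card_SLsub [Finite F] (Kf : Subfield F) :
    Nat.card (SLsub Kf) = Nat.card Kf * (Nat.card Kf ^ 2 - 1) := by
  classical
  haveI : Fintype Kf := Fintype.ofFinite _
  have hrc : Nat.card (SLsub Kf) = Nat.card (S2 Kf) :=
    (Nat.card_congr (MonoidHom.ofInjective (slmap_inj Kf.subtype)).toEquiv).symm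
  rw [hrc, card_S2, Nat.card_eq_fintype_card]

theorem field_conc [Fintype F] (p : ℕ) [Fact p.Prime] [CharP F p] (L : Subgroup (S2 F))
    (q' k : ℕ) (h : NF L q') (hq3 : 3 ≤ q')
    (hcard : Nat.card L = Nat.card (Subgroup.center (S2 F)) * k * q' * (1 + q'))
    (hk : k = q' - 1 ∨ 2 * k = q' - 1) :
    ∃ Kf : Subfield F, Nat.card Kf = q' ∧ SLsub Kf ≤ L ∧ ∀ g ∈ L, g * g ∈ SLsub Kf := by
  classical
  obtain ⟨Kf, hKf⟩ := exists_subfield p h
  have hKfcard : Nat.card Kf = q' := by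
    rw [← h.hB]
    exact Nat.card_congr (Equiv.subtypeEquivRight hKf)
  have hsub : SLsub Kf ≤ L := by
    intro g hg
    rw [mem_SLsub] at hg
    apply sl_sub p h
    intro i j
    rw [← hKf]
    exact hg i j
  refine ⟨Kf, hKfcard, hsub, ?_⟩
  have hcase : Nat.card (Subgroup.center (S2 F)) * k = q' - 1 ∨
      (Nat.card (Subgroup.center (S2 F)) = 2 ∧ k = q' - 1) := by
    by_cases h2 : (2 : F) = 0
    · left
      rw [center_card_one h2]
      have hp2 : p = 2 := by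
        have hp2' : p ∣ 2 := (CharP.cast_eq_zero_iff F p 2).1 (by exact_mod_cast h2)
        exact (Nat.prime_dvd_prime_iff_eq (Fact.out : p.Prime) Nat.prime_two).1 hp2'
      haveI : Fintype Kf := Fintype.ofFinite _
      haveI : CharP Kf p := RingHom.charP Kf.subtype (fun a b hab => Subtype.ext hab) p
      obtain ⟨n, -, hn⟩ := FiniteField.card Kf p
      have hq_even : Even q' := by
        rw [← hKfcard, Nat.card_eq_fintype_card, hn, hp2]
        exact (Nat.even_pow' n.ne_zero).2 even_two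
      obtain ⟨m, hm⟩ := hq_even
      rcases hk with hk | hk
      · omega
      · exfalso; omega
    · rw [center_card_two h2]
      rcases hk with hk | hk
      · right; exact ⟨rfl, hk⟩
      · left; exact hk
  obtain ⟨m, hm⟩ : ∃ m, q' = m + 3 := ⟨q' - 3, by omega⟩
  have e4 : (m + 3) ^ 2 - 1 = (m + 2) * (m + 4) := by
    have : (m + 3) ^ 2 = (m + 2) * (m + 4) + 1 := by ring
    omega
  have hNc := card_SLsub Kf
  rw [hKfcard, hm, e4] at hNc
  rcases hcase with hc | ⟨hz2, hk1⟩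
  · have heq : SLsub Kf = L := by
      apply Subgroup.eq_of_le_of_card_ge hsub
      rw [hNc, hcard, hc, hm]
      have : m + 3 - 1 = m + 2 := by omega
      rw [this]
      exact le_of_eq (by ring)
    intro g hg
    rw [heq]
    exact L.mul_mem hg hg
  · have hLc : Nat.card L = 2 * ((m + 3) * ((m + 2) * (m + 4))) := by
      rw [hcard, hz2, hk1, hm]
      have : m + 3 - 1 = m + 2 := by omega
      rw [this]
      ring
    have hidx : ((SLsub Kf).subgroupOf L).index = 2 := by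
      have h1 := Subgroup.card_mul_index ((SLsub Kf).subgroupOf L)
      rw [Nat.card_congr (Subgroup.subgroupOfEquivOfLe hsub).toEquiv, hNc, hLc] at h1
      have hpos : 0 < (m + 3) * ((m + 2) * (m + 4)) := by positivity
      have h2 : (m + 3) * ((m + 2) * (m + 4)) * ((SLsub Kf).subgroupOf L).index
          = (m + 3) * ((m + 2) * (m + 4)) * 2 := by rw [h1]; ring
      exact Nat.eq_of_mul_eq_mul_left hpos h2
    intro g hg
    have h1 := Subgroup.mul_self_mem_of_index_two hidx (⟨g, hg⟩ : L)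
    rw [Subgroup.mem_subgroupOf] at h1
    exact h1

end FieldConc

section Pow

variable {F : Type*} [Field F]

theorem rep_self (x : S2 F) : Rep x x (0, 1) := by
  refine ⟨?_, ?_, ?_, ?_⟩ <;> simp

theorem rep_isSc (x m : S2 F) (p : F × F) (hx : ¬ IsSc x) (h : Rep x m p) (hm : IsSc m) :
    p.2 = 0 := by
  obtain ⟨a1, a2, a3, a4⟩ := h
  obtain ⟨m1, m2, m3⟩ := hm
  rcases (not_isSc_iff x).1 hx with h | h | h
  · rw [m1] at a2; exact (mul_eq_zero.1 a2.symm).resolve_right h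
  · rw [m2] at a3; exact (mul_eq_zero.1 a3.symm).resolve_right h
  · have : p.2 * (x 0 0 - x 1 1) = 0 := by linear_combination -a1 + a4 + m3
    exact (mul_eq_zero.1 this).resolve_right h

theorem rep_pow2 (x : S2 F) : Rep x (x ^ 2) (-1, tr x) := by
  have h := rep_mul x x x _ _ (rep_self x) (rep_self x)
  rw [pow_two]
  convert h using 2 <;> ring

theorem rep_pow3 (x : S2 F) : Rep x (x ^ 3) (-tr x, tr x ^ 2 - 1) := by
  have h := rep_mul x _ x _ _ (rep_pow2 x) (rep_self x)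
  rw [pow_succ]
  convert h using 2 <;> ring

theorem rep_pow4 (x : S2 F) : Rep x (x ^ 4) (-(tr x ^ 2 - 1), tr x ^ 3 - 2 * tr x) := by
  have h := rep_mul x _ x _ _ (rep_pow3 x) (rep_self x)
  rw [pow_succ]
  convert h using 2 <;> ring

theorem rep_pow5 (x : S2 F) :
    Rep x (x ^ 5) (-(tr x ^ 3 - 2 * tr x), tr x ^ 4 - 3 * tr x ^ 2 + 1) := by
  have h := rep_mul x _ x _ _ (rep_pow4 x) (rep_self x)
  rw [pow_succ]
  convert h using 2 <;> ring

theorem isSc_pow2 (x : S2 F) (hx : ¬ IsSc x) (h : IsSc (x ^ 2)) : tr x = 0 :=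
  rep_isSc x _ _ hx (rep_pow2 x) h

theorem isSc_pow3 (x : S2 F) (hx : ¬ IsSc x) (h : IsSc (x ^ 3)) : tr x ^ 2 - 1 = 0 :=
  rep_isSc x _ _ hx (rep_pow3 x) h

theorem isSc_pow4 (x : S2 F) (hx : ¬ IsSc x) (h : IsSc (x ^ 4)) : tr x ^ 3 - 2 * tr x = 0 :=
  rep_isSc x _ _ hx (rep_pow4 x) h

theorem isSc_pow5 (x : S2 F) (hx : ¬ IsSc x) (h : IsSc (x ^ 5)) :
    tr x ^ 4 - 3 * tr x ^ 2 + 1 = 0 :=
  rep_isSc x _ _ hx (rep_pow5 x) h

theorem a4_ord : ∀ g : alternatingGroup (Fin 4), g ^ 2 = 1 ∨ g ^ 3 = 1 := by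
  decide +kernel

/-- a subgroup containing all elementary matrices is everything -/
theorem gen_top (L : Subgroup (S2 F)) (hu : ∀ b : F, uu b ∈ L) (hl : ∀ c : F, ll c ∈ L) :
    L = ⊤ := by
  rw [eq_top_iff]
  intro g _
  have key : ∀ g : S2 F, g 1 0 ≠ 0 → g ∈ L := by
    intro g h10
    rw [eq_uu_ll_uu g h10]
    exact L.mul_mem (L.mul_mem (hu _) (hl _)) (hu _)
  by_cases h10 : g 1 0 = 0
  · have h00 := bor_00_ne g h10
    have hmem : ll 1 * g ∈ L := by
      apply key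
      rw [mul10]
      simp only [ll_10, ll_11, one_mul, h10, add_zero]
      exact h00
    have e : g = ll (-1) * (ll 1 * g) := by
      rw [← mul_assoc, ll_mul, neg_add_cancel, ll_zero, one_mul]
    rw [e]
    exact L.mul_mem (hl _) hmem
  · exact key g h10

/-- if `λ` generates `F` and is fixed by the `n`-th power of Frobenius then `|F| ≤ p ^ n` -/
theorem card_le_of_frob [Fintype F] (p n : ℕ) [Fact p.Prime] [CharP F p] (lam : F)
    (hgen : Subfield.closure ({lam} : Set F) = ⊤) (h : lam ^ (p ^ n) = lam) (hn : 0 < n) :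
    Fintype.card F ≤ p ^ n := by
  have hle : Subfield.closure ({lam} : Set F)
      ≤ (iterateFrobenius F p n).eqLocusField (RingHom.id F) := by
    rw [Subfield.closure_le]
    intro y hy
    rw [Set.mem_singleton_iff] at hy
    subst hy
    show iterateFrobenius F p n y = y
    rw [iterateFrobenius_def]
    exact h
  rw [hgen] at hle
  have hall : ∀ y : F, y ^ (p ^ n) = y := by
    intro y
    have := hle (Subfield.mem_top y)
    rw [RingHom.mem_eqLocusField, iterateFrobenius_def] at this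
    exact this
  obtain ⟨ζ, hζ⟩ := IsCyclic.exists_ofOrder_eq_natCard (α := Fˣ)
  rw [Nat.card_units, Nat.card_eq_fintype_card] at hζ
  have hp : 2 ≤ p := (Fact.out : p.Prime).two_le
  have hpn : 2 ≤ p ^ n := by
    calc 2 ≤ p := hp
      _ = p ^ 1 := (pow_one p).symm
      _ ≤ p ^ n := Nat.pow_le_pow_right (by omega) hn
  have h1 : ζ ^ (p ^ n - 1) = 1 := by
    have h2 : ζ ^ (p ^ n) = ζ := Units.ext (by rw [Units.val_pow_eq_pow_val]; exact hall _)
    have h3 : ζ ^ (p ^ n - 1) * ζ = 1 * ζ := by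
      rw [← pow_succ, one_mul, Nat.sub_add_cancel (by omega)]
      exact h2
    exact mul_right_cancel h3
  have h4 := orderOf_dvd_of_pow_eq_one h1
  rw [hζ] at h4
  have h5 := Nat.le_of_dvd (by omega) h4
  have hq2 : 2 ≤ Fintype.card F := Fintype.one_lt_card
  omega

end Pow

end Cfsg.Agent.Lib.Helper19.Dk
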