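import Mathlib
import Cfsg.Agent.Lib.Helper22.HPDefs
import Cfsg.Agent.Lib.Helper83.IrrBasic
import Cfsg.Agent.Lib.Helper83.Linear
import Cfsg.Agent.Lib.Helper82.PQ
import Cfsg.Agent.Lib.Helper67.BFZCENT
import Cfsg.Agent.Lib.Helper35.BFFIXB
import Cfsg.Agent.Lib.Helper4.CharDecomp
import Cfsg.Agent.Lib.Helper4.BrSpan
import Cfsg.Agent.Lib.Helper4.CharDual
import Cfsg.Agent.Lib.Helper4.CharClosure

/-!
# S4504 (helper22's project HP), piece HP-CENTRAL: the core

`hp_central_of`: `C_G(z) = ⟨z⟩ Z(G)`, from the sub-pieces JOINT (`hjoint`), NOLIN (`hnolin`) and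
TYPES + LB (`hlb`) taken as hypotheses.
-/

set_option autoImplicit false
set_option linter.style.haveILetI false

namespace Cfsg.Agent.Lib.Helper19.HPC

open Cfsg Cfsg.Agent.Lib.Helper22.BFD Cfsg.Agent.Lib.Helper22.HPD
open scoped ComplexConjugate

universe u

/-- HP-CENTRAL, core. -/
theorem hp_central_of {G : Type u} [Group G] [Fintype G] (p : ℕ) [Fact p.Prime]
    (hsq : ¬ p ^ 2 ∣ Nat.card G)
    (χ : IrrCharacter G) (hfaith : ∀ g : G, χ.1 g = χ.1 1 → g = 1)
    (hdeg : 2 * charDegree χ.1 + 1 = p) (z : G) (ζ : ℂ) (hz : orderOf z = p)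
    (hval : ∀ t : ZMod p, χ.1 (z ^ t.val) = eta p ζ t)
    (hjoint : ∀ y ∈ Kf p z, ∑ t : ZMod p, χ.1 (z ^ t.val * y) * conj (χ.1 (z ^ t.val * y)) =
      ((p * (Sq p).card : ℕ) : ℂ))
    (hnolin : ∀ μ : IrrCharacter G, charDegree μ.1 = 1 →
      classInner (fun g => χ.1 g * conj (χ.1 g)) μ.1 ≠ 0 → μ.1 = fun _ => 1)
    (hlb : ∀ φ : IrrCharacter G, charDegree φ.1 ≠ 1 → ∃ s : ℝ,
      ∑ t ∈ Finset.univ.filter (fun t : ZMod p => t ≠ 0),
        ∑ y ∈ Kf p z, φ.1 (z ^ t.val * y) = (s : ℂ) ∧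
      ((charDegree χ.1 : ℝ) + 1) * s ≤
        (charDegree χ.1 : ℝ) * charDegree φ.1 * (Kf p z).card) :
    ∀ g : G, g * z = z * g → ∃ t : ZMod p, ∃ u ∈ Subgroup.center G, g = z ^ t.val * u := by
  classical
  have hp : p.Prime := Fact.out
  haveI : NeZero p := ⟨hp.ne_zero⟩
  haveI : Finite (IrrCharacter G) := Cfsg.Agent.Lib.Helper82.finite_irrCharacter G
  letI : Fintype (IrrCharacter G) := Fintype.ofFinite _
  obtain ⟨hepos, hχ1⟩ := Cfsg.Agent.Lib.Helper83.irr_degree χ.2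
  set e := charDegree χ.1 with he
  have hpe : (p : ℝ) = 2 * (e : ℝ) + 1 := by
    rw [← hdeg]
    push_cast
    ring
  -- `|Sq p| = e`
  have hSq : (Sq p).card = e := by
    have h0 := hval 0
    rw [ZMod.val_zero, pow_zero, hχ1] at h0
    unfold eta at h0
    simp only [mul_zero, ZMod.val_zero, pow_zero, Finset.sum_const, nsmul_eq_mul, mul_one] at h0
    exact_mod_cast h0.symm
  set K := Kf p z with hK
  -- the character `χ χ̄`
  have hχc : IsCharacter G χ.1 := Cfsg.Agent.Lib.Helper4.isCharacter_of_irr χ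
  have hPc : IsCharacter G (fun g => χ.1 g * conj (χ.1 g)) :=
    Cfsg.Agent.Lib.Helper4.isCharacter_mul _ _ hχc
      (Cfsg.Agent.Lib.Helper4.isCharacter_conj _ hχc)
  obtain ⟨m, hm⟩ := Cfsg.Agent.Lib.Helper4.exists_decomp_of_isCharacter _ hPc
  have hmv : ∀ g : G, χ.1 g * conj (χ.1 g) = ∑ φ : IrrCharacter G, (m φ : ℂ) * φ.1 g := by
    intro g
    have h := congrFun hm g
    simp only [Finset.sum_apply, Pi.smul_apply, smul_eq_mul] at h
    exact h
  have hinner : ∀ φ : IrrCharacter G,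
      classInner (fun g => χ.1 g * conj (χ.1 g)) φ.1 = (m φ : ℂ) := by
    intro φ
    rw [hm]
    exact Cfsg.Agent.Lib.Helper4.classInner_sum_irr _ φ
  -- the trivial character
  set τ : IrrCharacter G := Cfsg.Agent.Lib.Helper83.trivIrr G with hτ
  have hτ1 : ∀ g : G, τ.1 g = 1 := fun g => rfl
  have hmτ : m τ = 1 := by
    have h1 := hinner τ
    have h2 : classInner (fun g => χ.1 g * conj (χ.1 g)) τ.1 = classInner χ.1 χ.1 := by
      unfold classInner
      congr 1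
      apply Finset.sum_congr rfl
      intro g _
      rw [hτ1, map_one, mul_one]
    rw [h2, Cfsg.Agent.Lib.Helper83.irr_orthonormal, if_pos rfl] at h1
    exact_mod_cast h1.symm
  have hdegτ : charDegree τ.1 = 1 := by
    have h := (Cfsg.Agent.Lib.Helper83.irr_degree τ.2).2
    rw [hτ1] at h
    exact_mod_cast h.symm
  -- constituents other than the trivial one are not linear
  have hnl : ∀ φ : IrrCharacter G, φ ≠ τ → m φ ≠ 0 → charDegree φ.1 ≠ 1 := by
    intro φ hφτ hmφ hd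
    apply hφτ
    apply Subtype.ext
    exact hnolin φ hd (by rw [hinner φ]; exact_mod_cast hmφ)
  have hcard0 : ((Finset.univ.filter (fun t : ZMod p => t ≠ 0)).card : ℝ) = (p : ℝ) - 1 := by
    rw [Finset.filter_ne' Finset.univ (0 : ZMod p),
      Finset.card_erase_of_mem (Finset.mem_univ _), Finset.card_univ, ZMod.card,
      Nat.cast_pred hp.pos]
  -- the real numbers `r φ = m φ * ∑_{t ≠ 0} ∑_{y ∈ K} φ (z ^ t * y)`
  have hr : ∀ φ : IrrCharacter G, ∃ r : ℝ,
      (m φ : ℂ) * ∑ t ∈ Finset.univ.filter (fun t : ZMod p => t ≠ 0),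
        ∑ y ∈ K, φ.1 (z ^ t.val * y) = (r : ℂ) ∧
      ((e : ℝ) + 1) * r ≤ (m φ : ℝ) * ((e : ℝ) * charDegree φ.1 * K.card) +
        (if φ = τ then ((e : ℝ) + 1) * ((p : ℝ) - 1) * K.card - (e : ℝ) * K.card else 0) := by
    intro φ
    by_cases hφ : φ = τ
    · refine ⟨((p : ℝ) - 1) * K.card, ?_, ?_⟩
      · rw [hφ, hmτ]
        simp only [hτ1, Finset.sum_const, nsmul_eq_mul, mul_one, Nat.cast_one, one_mul]
        have h := hcard0
        have h' : (((Finset.univ.filter (fun t : ZMod p => t ≠ 0)).card : ℝ) : ℂ) =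
            (((p : ℝ) - 1 : ℝ) : ℂ) := by rw [h]
        push_cast at h' ⊢
        rw [h']
      · rw [if_pos hφ, hφ, hmτ, hdegτ]
        push_cast
        linarith
    · by_cases hmφ : m φ = 0
      · refine ⟨0, ?_, ?_⟩
        · rw [hmφ]
          simp
        · rw [if_neg hφ, hmφ]
          simp
      · obtain ⟨s, hs1, hs2⟩ := hlb φ (hnl φ hφ hmφ)
        refine ⟨(m φ : ℝ) * s, ?_, ?_⟩
        · rw [hs1]
          push_cast
          ring
        · rw [if_neg hφ, add_zero]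
          have h0 : (0 : ℝ) ≤ (m φ : ℝ) := Nat.cast_nonneg _
          calc ((e : ℝ) + 1) * ((m φ : ℝ) * s) = (m φ : ℝ) * (((e : ℝ) + 1) * s) := by ring
            _ ≤ (m φ : ℝ) * ((e : ℝ) * charDegree φ.1 * K.card) :=
              mul_le_mul_of_nonneg_left hs2 h0
  choose r hr1 hr2 using hr
  -- the sum `S` in terms of the `r φ`
  have hS1 : ∑ t ∈ Finset.univ.filter (fun t : ZMod p => t ≠ 0),
      ∑ y ∈ K, χ.1 (z ^ t.val * y) * conj (χ.1 (z ^ t.val * y)) =
      ((∑ φ : IrrCharacter G, r φ : ℝ) : ℂ) := by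
    simp only [hmv]
    rw [Finset.sum_congr rfl (fun t _ => Finset.sum_comm), Finset.sum_comm]
    push_cast
    apply Finset.sum_congr rfl
    intro φ _
    rw [← hr1 φ, Finset.mul_sum]
    apply Finset.sum_congr rfl
    intro t _
    rw [Finset.mul_sum]
  -- the degree equation
  have hdegsum : ∑ φ : IrrCharacter G, (m φ : ℝ) * (charDegree φ.1 : ℝ) = (e : ℝ) ^ 2 := by
    have h1 := hmv 1
    rw [hχ1] at h1
    have h3 : ∀ φ : IrrCharacter G, φ.1 1 = (charDegree φ.1 : ℂ) :=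
      fun φ => (Cfsg.Agent.Lib.Helper83.irr_degree φ.2).2
    simp only [h3, Complex.conj_natCast] at h1
    have h4 : ((∑ φ : IrrCharacter G, (m φ : ℝ) * (charDegree φ.1 : ℝ) : ℝ) : ℂ) =
        (((e : ℝ) ^ 2 : ℝ) : ℂ) := by
      push_cast
      rw [← h1]
      ring
    exact_mod_cast h4
  -- the upper bound for `∑ r φ`
  have hub : ((e : ℝ) + 1) * ∑ φ : IrrCharacter G, r φ ≤
      (e : ℝ) * ((e : ℝ) + 1) ^ 2 * K.card := by
    rw [Finset.mul_sum]
    refine (Finset.sum_le_sum (fun φ _ => hr2 φ)).trans (le_of_eq ?_)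
    rw [Finset.sum_add_distrib, Finset.sum_ite_eq' Finset.univ τ, if_pos (Finset.mem_univ _)]
    have h5 : ∑ φ : IrrCharacter G, (m φ : ℝ) * ((e : ℝ) * charDegree φ.1 * K.card) =
        (e : ℝ) * K.card * ∑ φ : IrrCharacter G, (m φ : ℝ) * (charDegree φ.1 : ℝ) := by
      rw [Finset.mul_sum]
      apply Finset.sum_congr rfl
      intro φ _
      ring
    rw [h5, hdegsum, hpe]
    ring
  -- JOINT: the sum `S` in terms of `∑_{y ∈ K} |χ y|²`
  have hS2 : ∑ t ∈ Finset.univ.filter (fun t : ZMod p => t ≠ 0),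
      ∑ y ∈ K, χ.1 (z ^ t.val * y) * conj (χ.1 (z ^ t.val * y)) =
      (((p : ℝ) * e * K.card - ∑ y ∈ K, ‖χ.1 y‖ ^ 2 : ℝ) : ℂ) := by
    rw [Finset.sum_comm]
    have h6 : ∀ y ∈ K, ∑ t ∈ Finset.univ.filter (fun t : ZMod p => t ≠ 0),
        χ.1 (z ^ t.val * y) * conj (χ.1 (z ^ t.val * y)) =
        (((p : ℝ) * e - ‖χ.1 y‖ ^ 2 : ℝ) : ℂ) := by
      intro y hy
      have hj := hjoint y hy
      rw [← Finset.sum_filter_add_sum_filter_not Finset.univ (fun t : ZMod p => t ≠ 0)] at hj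
      have h0 : Finset.univ.filter (fun t : ZMod p => ¬ t ≠ 0) = {0} := by
        ext t
        simp
      rw [h0, Finset.sum_singleton, ZMod.val_zero, pow_zero, one_mul, hSq, Complex.mul_conj,
        Complex.normSq_eq_norm_sq] at hj
      rw [eq_sub_iff_add_eq.mpr hj]
      push_cast
      ring
    rw [Finset.sum_congr rfl h6]
    push_cast
    rw [Finset.sum_sub_distrib, Finset.sum_const, nsmul_eq_mul]
    ring
  have hreal : ∑ φ : IrrCharacter G, r φ = (p : ℝ) * e * K.card - ∑ y ∈ K, ‖χ.1 y‖ ^ 2 := by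
    have h7 := hS1.symm.trans hS2
    exact_mod_cast h7
  have heR : (0 : ℝ) < (e : ℝ) := by exact_mod_cast hepos
  -- `∑_{y ∈ K} |χ y|² ≥ e² |K|`
  have hlow : (e : ℝ) ^ 2 * K.card ≤ ∑ y ∈ K, ‖χ.1 y‖ ^ 2 := by
    have h8 : ∑ φ : IrrCharacter G, r φ ≤ (e : ℝ) * ((e : ℝ) + 1) * K.card := by
      have h9 : ((e : ℝ) + 1) * ∑ φ : IrrCharacter G, r φ ≤
          ((e : ℝ) + 1) * ((e : ℝ) * ((e : ℝ) + 1) * K.card) := by
        refine hub.trans (le_of_eq ?_)
        ring
      exact le_of_mul_le_mul_left h9 (by linarith)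
    rw [hreal, hpe] at h8
    nlinarith
  have hle : ∀ y : G, ‖χ.1 y‖ ≤ (e : ℝ) := fun y => Cfsg.Agent.Lib.Helper83.irr_norm_le χ.2 y
  have hnorm : ∀ y ∈ K, ‖χ.1 y‖ = (e : ℝ) := by
    have h10 : ∑ y ∈ K, ((e : ℝ) ^ 2 - ‖χ.1 y‖ ^ 2) = 0 := by
      apply le_antisymm
      · rw [Finset.sum_sub_distrib, Finset.sum_const, nsmul_eq_mul]
        linarith
      · apply Finset.sum_nonneg
        intro y _
        have := hle y
        have h0 := norm_nonneg (χ.1 y)
        nlinarith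
    have h11 := (Finset.sum_eq_zero_iff_of_nonneg (fun y _ => by
      have := hle y
      have h0 := norm_nonneg (χ.1 y)
      nlinarith)).mp h10
    intro y hy
    have h12 := h11 y hy
    have h0 := norm_nonneg (χ.1 y)
    have := hle y
    nlinarith
  -- `K ⊆ Z(G)`
  have hKc : ∀ y ∈ K, y ∈ Subgroup.center G := by
    intro y hy
    have he0 : (e : ℂ) ≠ 0 := by exact_mod_cast hepos.ne'
    refine Cfsg.Agent.Lib.Helper67.BFT.central_of_norm χ hfaith y (χ.1 y / χ.1 1) ?_ ?_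
    · rw [norm_div, hχ1, Complex.norm_natCast, hnorm y hy]
      exact div_self heR.ne'
    · rw [hχ1]
      field_simp
  -- the decomposition of `C_G(z)`
  intro g hg
  have hgc : g ∈ Subgroup.centralizer ({z} : Set G) := by
    rw [Subgroup.mem_centralizer_iff]
    intro h hh
    rw [Set.mem_singleton_iff] at hh
    rw [hh]
    exact hg.symm
  have hc := (Cfsg.Agent.Lib.Helper35.BFT.cent_sum p hsq z hz
    (fun x => if x = g then (1 : ℂ) else 0)).2
  rw [Finset.sum_eq_single g (fun b _ hb => by simp [hb]) (fun h => absurd (Finset.mem_univ g) h)]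
    at hc
  by_contra hcon
  push Not at hcon
  have h13 : ∑ t : ZMod p, ∑ y ∈ Kf p z, (if z ^ t.val * y = g then (1 : ℂ) else 0) = 0 := by
    apply Finset.sum_eq_zero
    intro t _
    apply Finset.sum_eq_zero
    intro y hy
    rw [if_neg]
    intro h
    exact hcon t y (hKc y hy) h.symm
  rw [h13] at hc
  simp [hgc] at hc

end Cfsg.Agent.Lib.Helper19.HPC
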