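import Mathlib
import Cfsg.Agent.Lib.Helper19.HPCentralCore
import Cfsg.Agent.Lib.Helper77.HPJOINT
import Cfsg.Agent.Lib.Helper87.HPNOLIN
import Cfsg.Agent.Lib.Helper83.HPLB

/-!
# S4504 (helper22's project HP), piece HP-CENTRAL from the pieces IRR and TYPES

`hp_central_of2`: the statement of `hp_central` with the pieces IRR (`hirr`) and TYPES (`htypes`)
as hypotheses; JOINT (helper77), NOLIN (helper87) and LB (helper83) are imported.
-/

set_option autoImplicit false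
set_option linter.style.haveILetI false

namespace Cfsg.Agent.Lib.Helper19.HPC

open Cfsg Cfsg.Agent.Lib.Helper22.BFD Cfsg.Agent.Lib.Helper22.HPD
open scoped ComplexConjugate

universe u

/-- HP-CENTRAL with IRR and TYPES as hypotheses. -/
theorem hp_central_of2 {G : Type u} [Group G] [Fintype G] (p : ℕ) [Fact p.Prime]
    (hirr : ∀ (H : Type u) [Group H] [Finite H], p ∣ Nat.card H → ¬ p ^ 2 ∣ Nat.card H →
      (∀ L : Subgroup H, L.Normal → Nat.card L ≠ p) → ∀ ψ : H → ℂ, IsCharacter H ψ →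
      (∀ g : H, ψ g = ψ 1 → g = 1) → 2 * charDegree ψ + 1 = p → IsIrrCharacter H ψ)
    (hdiv : p ∣ Nat.card G) (hsq : ¬ p ^ 2 ∣ Nat.card G)
    (hnn : ∀ H : Subgroup G, H.Normal → Nat.card H ≠ p)
    (χ : IrrCharacter G) (hfaith : ∀ g : G, χ.1 g = χ.1 1 → g = 1)
    (hdeg : 2 * charDegree χ.1 + 1 = p) (z : G) (ζ : ℂ) (hz : orderOf z = p)
    (hζ : IsPrimitiveRoot ζ p) (hE : ∀ k : ZMod p, IsConj (z ^ k.val) z ↔ k ∈ Sq p)
    (hval : ∀ t : ZMod p, χ.1 (z ^ t.val) = eta p ζ t)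
    (htypes : ∀ φ : IrrCharacter G,
      (∀ t : ZMod p, t ≠ 0 → ∑ y ∈ Kf p z, φ.1 (z ^ t.val * y) = 0) ∨
      ((∀ t : ZMod p, t ≠ 0 → ∀ y ∈ Kf p z, φ.1 (z ^ t.val * y) = 1) ∧
        ∃ m : ℕ, 1 ≤ m ∧ charDegree φ.1 + (p - 1) = p * m) ∨
      ((∀ t : ZMod p, t ≠ 0 → ∀ y ∈ Kf p z, φ.1 (z ^ t.val * y) = -1) ∧
        ∃ m : ℕ, charDegree φ.1 = p * m + (p - 1)) ∨
      ((∀ t : ZMod p, t ≠ 0 → ∀ y ∈ Kf p z, φ.1 (z ^ t.val * y) = φ.1 (z ^ t.val)) ∧
        ∃ m : ℕ, 1 ≤ m ∧ charDegree φ.1 + (Ef p z).card = p * m ∧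
          ∑ t ∈ Finset.univ.filter (fun t : ZMod p => t ≠ 0), φ.1 (z ^ t.val) =
            ((Ef p z).card : ℂ)) ∨
      ((∀ t : ZMod p, t ≠ 0 → ∀ y ∈ Kf p z, φ.1 (z ^ t.val * y) = φ.1 (z ^ t.val)) ∧
        ∃ m : ℕ, charDegree φ.1 = p * m + (Ef p z).card ∧
          ∑ t ∈ Finset.univ.filter (fun t : ZMod p => t ≠ 0), φ.1 (z ^ t.val) =
            -((Ef p z).card : ℂ))) :
    ∀ g : G, g * z = z * g → ∃ t : ZMod p, ∃ u ∈ Subgroup.center G, g = z ^ t.val * u := by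
  classical
  have hEfSq : Ef p z = Sq p := by
    ext k
    unfold Ef
    rw [Finset.mem_filter]
    constructor
    · intro h
      exact (hE k).mp h.2
    · intro h
      exact ⟨Finset.mem_univ _, (hE k).mpr h⟩
  have hSq : (Sq p).card = charDegree χ.1 := by
    have h0 := hval 0
    rw [ZMod.val_zero, pow_zero, (Cfsg.Agent.Lib.Helper83.irr_degree χ.2).2] at h0
    unfold eta at h0
    simp only [mul_zero, ZMod.val_zero, pow_zero, Finset.sum_const, nsmul_eq_mul, mul_one] at h0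
    exact_mod_cast h0.symm
  refine hp_central_of p hsq χ hfaith hdeg z ζ hz hval ?_ ?_ ?_
  · intro y hy
    unfold Kf at hy
    have hy' := (Finset.mem_filter.mp hy).2
    exact hp_joint p χ.1 (Cfsg.Agent.Lib.Helper4.isCharacter_of_irr χ) z ζ hz hζ hval y hy'.1 hy'.2
  · intro μ hμ hne
    exact Cfsg.Agent.Lib.Helper87.HPT.hp_nolin p hirr hdiv hsq hnn χ hfaith hdeg μ hμ hne
  · intro φ hφ
    obtain ⟨s, h1, h2, -⟩ := Cfsg.Agent.Lib.Helper83.HPT.hp_lb p (charDegree χ.1) hdeg z hz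
      (by rw [hEfSq, hSq]) φ hφ (htypes φ)
    exact ⟨s, h1, h2⟩

end Cfsg.Agent.Lib.Helper19.HPC
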