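import Mathlib
import Cfsg.Agent.Lib.Helper22.HPDefs
import Cfsg.Agent.Lib.Helper22.HPTYPES
import Cfsg.Agent.Lib.Helper58.HPIRR
import Cfsg.Agent.Lib.Helper19.HPCentral2

/-!
# S4504 (helper22): TOP PIECE CENTRAL (`hp_central`), verbatim statement of the skeleton

Wrapper of `Cfsg.Agent.Lib.Helper19.HPC.hp_central_of2` with the pieces IRR (helper58) and
TYPES (helper22) plugged in.
-/

set_option autoImplicit false
set_option linter.style.haveILetI false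

namespace Cfsg.Agent.Lib.Helper19.HPT

open Cfsg Cfsg.Agent.Lib.Helper22.BFD Cfsg.Agent.Lib.Helper22.HPD
open scoped ComplexConjugate

universe u

/-- TOP PIECE CENTRAL -/
theorem hp_central {G : Type u} [Group G] [Fintype G] (p : ℕ) [Fact p.Prime]
    (hdiv : p ∣ Nat.card G) (hsq : ¬ p ^ 2 ∣ Nat.card G)
    (hnn : ∀ H : Subgroup G, H.Normal → Nat.card H ≠ p)
    (χ : IrrCharacter G) (hfaith : ∀ g : G, χ.1 g = χ.1 1 → g = 1)
    (hdeg : 2 * charDegree χ.1 + 1 = p) (z : G) (ζ : ℂ) (hz : orderOf z = p)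
    (hζ : IsPrimitiveRoot ζ p) (hE : ∀ k : ZMod p, IsConj (z ^ k.val) z ↔ k ∈ Sq p)
    (hval : ∀ t : ZMod p, χ.1 (z ^ t.val) = eta p ζ t) :
    ∀ g : G, g * z = z * g → ∃ t : ZMod p, ∃ u ∈ Subgroup.center G, g = z ^ t.val * u := by
  have hp : p.Prime := Fact.out
  exact Cfsg.Agent.Lib.Helper19.HPC.hp_central_of2 p
    (fun H _ _ hd hs hn ψ hψ hf hdg =>
      (Cfsg.Agent.Lib.Helper58.HPT.hp_irr p hp hd hs hn ψ hψ hf hdg).1)
    hdiv hsq hnn χ hfaith hdeg z ζ hz hζ hE hval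
    (fun φ => Cfsg.Agent.Lib.Helper22.HPT.hp_types p hdiv hsq z hz φ)

end Cfsg.Agent.Lib.Helper19.HPT
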