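import Mathlib
import Cfsg.Agent.Lib.Helper70.SchurTwoD

set_option autoImplicit false

open scoped commutatorElement

universe u v

/-!
# S2049, piece HeM-SEVEN (for helper70)

`seven_local`: the prime 7 for a group with an extraspecial subgroup `⟨a, b⟩` of order `7^3` and
exponent 7 on which an element `r` acts by `a ↦ a ^ 2`, `b ↦ b ^ 4` (adapted from helper37's
`three_local` and helper70's `three_local_extraspecial`).
-/

namespace Cfsg.Agent.Lib.Helper19.HeMSEVEN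

open Cfsg.Agent.Lib.Helper70

/-- `a b ^ n = z ^ n b ^ n a` when `z = [a, b]` commutes with `a` and `b` -/
theorem seven_swap_one {G : Type v} [Group G] (a b : G)
    (hca : ⁅a, b⁆ * a = a * ⁅a, b⁆) (hcb : ⁅a, b⁆ * b = b * ⁅a, b⁆) (n : ℕ) :
    a * b ^ n = ⁅a, b⁆ ^ n * (b ^ n * a) := by
  obtain ⟨c, hcdef⟩ : ∃ c : G, c = ⁅a, b⁆ := ⟨_, rfl⟩
  rw [← hcdef] at hca hcb ⊢
  have h1 : a * b = c * (b * a) := by rw [hcdef, commutatorElement_def]; group
  have hcb' : Commute c b := hcb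
  induction n with
  | zero => simp
  | succ n ih =>
    calc a * b ^ (n + 1) = (a * b ^ n) * b := by rw [pow_succ, mul_assoc]
      _ = c ^ n * (b ^ n * a) * b := by rw [ih]
      _ = c ^ n * (b ^ n * (a * b)) := by simp only [mul_assoc]
      _ = c ^ n * (b ^ n * (c * (b * a))) := by rw [h1]
      _ = c ^ n * ((b ^ n * c) * (b * a)) := by simp only [mul_assoc]
      _ = c ^ n * ((c * b ^ n) * (b * a)) := by rw [(hcb'.pow_right n).eq]
      _ = (c ^ n * c) * ((b ^ n * b) * a) := by simp only [mul_assoc]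
      _ = c ^ (n + 1) * (b ^ (n + 1) * a) := by rw [← pow_succ, ← pow_succ]

/-- `a ^ m b ^ n = z ^ (m n) b ^ n a ^ m` when `z = [a, b]` commutes with `a` and `b` -/
theorem seven_swap {G : Type v} [Group G] (a b : G)
    (hca : ⁅a, b⁆ * a = a * ⁅a, b⁆) (hcb : ⁅a, b⁆ * b = b * ⁅a, b⁆) (m n : ℕ) :
    a ^ m * b ^ n = ⁅a, b⁆ ^ (m * n) * (b ^ n * a ^ m) := by
  have h1 := seven_swap_one a b hca hcb n
  obtain ⟨c, hcdef⟩ : ∃ c : G, c = ⁅a, b⁆ := ⟨_, rfl⟩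
  rw [← hcdef] at hca hcb h1 ⊢
  have hca' : Commute c a := hca
  induction m with
  | zero => simp
  | succ m ih =>
    calc a ^ (m + 1) * b ^ n = a ^ m * (a * b ^ n) := by rw [pow_succ, mul_assoc]
      _ = a ^ m * (c ^ n * (b ^ n * a)) := by rw [h1]
      _ = (a ^ m * c ^ n) * (b ^ n * a) := by simp only [mul_assoc]
      _ = (c ^ n * a ^ m) * (b ^ n * a) := by rw [((hca'.pow_left n).pow_right m).eq]
      _ = c ^ n * ((a ^ m * b ^ n) * a) := by simp only [mul_assoc]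
      _ = c ^ n * ((c ^ (m * n) * (b ^ n * a ^ m)) * a) := by rw [ih]
      _ = (c ^ n * c ^ (m * n)) * (b ^ n * (a ^ m * a)) := by simp only [mul_assoc]
      _ = c ^ ((m + 1) * n) * (b ^ n * a ^ (m + 1)) := by
        rw [← pow_add, ← pow_succ]
        congr 2
        ring

/-- `[a ^ m, b ^ n] = z ^ (m n)` -/
theorem seven_comm_pow {G : Type v} [Group G] (a b : G)
    (hca : ⁅a, b⁆ * a = a * ⁅a, b⁆) (hcb : ⁅a, b⁆ * b = b * ⁅a, b⁆) (m n : ℕ) :
    ⁅a ^ m, b ^ n⁆ = ⁅a, b⁆ ^ (m * n) := by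
  have h := seven_swap a b hca hcb m n
  calc ⁅a ^ m, b ^ n⁆ = (a ^ m * b ^ n) * (a ^ m)⁻¹ * (b ^ n)⁻¹ := by
        rw [commutatorElement_def]
    _ = ⁅a, b⁆ ^ (m * n) * (b ^ n * a ^ m) * (a ^ m)⁻¹ * (b ^ n)⁻¹ := by rw [h]
    _ = ⁅a, b⁆ ^ (m * n) := by group

/-- `z ^ 7 = 1` -/
theorem seven_comm_pow_seven {G : Type v} [Group G] (a b : G) (ha7 : a ^ 7 = 1)
    (hca : ⁅a, b⁆ * a = a * ⁅a, b⁆) (hcb : ⁅a, b⁆ * b = b * ⁅a, b⁆) : ⁅a, b⁆ ^ 7 = 1 := by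
  have h := seven_comm_pow a b hca hcb 7 1
  rw [ha7, pow_one, commutatorElement_def] at h
  rw [← h]
  group

theorem seven_isPGroup_zpowers {G : Type v} [Group G] (x : G) (hx : x ^ 7 = 1) :
    IsPGroup 7 (Subgroup.zpowers x) := by
  rintro ⟨g, hg⟩
  obtain ⟨n, rfl⟩ := Subgroup.mem_zpowers_iff.mp hg
  refine ⟨1, Subtype.ext ?_⟩
  show (x ^ n) ^ 7 ^ 1 = 1
  rw [pow_one, ← zpow_natCast, ← zpow_mul, mul_comm, zpow_mul, zpow_natCast, hx, one_zpow]

theorem seven_isPGroup_closure {G : Type v} [Group G] (a b : G)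
    (ha7 : a ^ 7 = 1) (hb7 : b ^ 7 = 1)
    (hca : ⁅a, b⁆ * a = a * ⁅a, b⁆) (hcb : ⁅a, b⁆ * b = b * ⁅a, b⁆) :
    IsPGroup 7 (Subgroup.closure ({a, b} : Set G)) := by
  haveI : Fact (Nat.Prime 7) := ⟨by norm_num⟩
  have hc7 := seven_comm_pow_seven a b ha7 hca hcb
  obtain ⟨c, hcdef⟩ : ∃ c : G, c = ⁅a, b⁆ := ⟨_, rfl⟩
  rw [← hcdef] at hca hcb hc7
  have h1 : a * b * a⁻¹ = c * b := by rw [hcdef, commutatorElement_def]; group
  have hac : a * c * a⁻¹ = c := by rw [← hca, mul_inv_cancel_right]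
  -- B = ⟨b⟩⟨c⟩
  have hB : IsPGroup 7 (Subgroup.zpowers b ⊔ Subgroup.zpowers c : Subgroup G) := by
    refine IsPGroup.to_sup_of_normal_right' (seven_isPGroup_zpowers b hb7)
      (seven_isPGroup_zpowers c hc7) ?_
    refine le_trans ?_ (Subgroup.centralizer_le_normalizer _)
    rw [Subgroup.zpowers_le, Subgroup.mem_centralizer_iff]
    intro h hh
    obtain ⟨n, rfl⟩ := Subgroup.mem_zpowers_iff.mp hh
    exact ((show Commute c b from hcb).zpow_left n).eq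
  have hmap : ∀ h ∈ (Subgroup.zpowers b ⊔ Subgroup.zpowers c : Subgroup G),
      a * h * a⁻¹ ∈ (Subgroup.zpowers b ⊔ Subgroup.zpowers c : Subgroup G) := by
    have hle : (Subgroup.zpowers b ⊔ Subgroup.zpowers c : Subgroup G).map
        (MulAut.conj a).toMonoidHom ≤ Subgroup.zpowers b ⊔ Subgroup.zpowers c := by
      rw [Subgroup.map_sup, MonoidHom.map_zpowers, MonoidHom.map_zpowers]
      refine sup_le (Subgroup.zpowers_le.mpr ?_) (Subgroup.zpowers_le.mpr ?_)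
      · show a * b * a⁻¹ ∈ _
        rw [h1]
        exact Subgroup.mul_mem _ (Subgroup.mem_sup_right (Subgroup.mem_zpowers c))
          (Subgroup.mem_sup_left (Subgroup.mem_zpowers b))
      · show a * c * a⁻¹ ∈ _
        rw [hac]
        exact Subgroup.mem_sup_right (Subgroup.mem_zpowers c)
    intro h hh
    exact hle (Subgroup.mem_map_of_mem _ hh)
  have hpow : ∀ n : ℕ, ∀ h ∈ (Subgroup.zpowers b ⊔ Subgroup.zpowers c : Subgroup G),
      a ^ n * h * (a ^ n)⁻¹ ∈ (Subgroup.zpowers b ⊔ Subgroup.zpowers c : Subgroup G) := by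
    intro n
    induction n with
    | zero =>
      intro h hh
      simpa using hh
    | succ n ih =>
      intro h hh
      have e : a ^ (n + 1) * h * (a ^ (n + 1))⁻¹ = a ^ n * (a * h * a⁻¹) * (a ^ n)⁻¹ := by
        rw [pow_succ, mul_inv_rev]
        simp only [mul_assoc]
      rw [e]
      exact ih _ (hmap h hh)
  have hbig : IsPGroup 7 (Subgroup.zpowers a ⊔ (Subgroup.zpowers b ⊔ Subgroup.zpowers c) :
      Subgroup G) := by
    refine IsPGroup.to_sup_of_normal_right' (seven_isPGroup_zpowers a ha7) hB ?_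
    rw [Subgroup.zpowers_le, Subgroup.mem_normalizer_iff]
    intro h
    refine ⟨hmap h, fun hh => ?_⟩
    have h2 := hpow 6 _ hh
    have e : a ^ 6 * (a * h * a⁻¹) * (a ^ 6)⁻¹ = h := by
      have e' : a ^ 6 * (a * h * a⁻¹) * (a ^ 6)⁻¹ = a ^ 7 * h * (a ^ 7)⁻¹ := by
        rw [pow_succ a 6, mul_inv_rev]
        simp only [mul_assoc]
      rw [e', ha7, one_mul, inv_one, mul_one]
    rw [e] at h2
    exact h2
  refine hbig.to_le ?_
  rw [Subgroup.closure_le]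
  intro y hy
  rcases hy with rfl | rfl
  · exact Subgroup.mem_sup_left (Subgroup.mem_zpowers _)
  · exact Subgroup.mem_sup_right (Subgroup.mem_sup_left (Subgroup.mem_zpowers _))

theorem seven_dvd_card_closure {G : Type v} [Group G] [Finite G] (a b : G)
    (ha7 : a ^ 7 = 1) (hb7 : b ^ 7 = 1)
    (hca : ⁅a, b⁆ * a = a * ⁅a, b⁆) (hcb : ⁅a, b⁆ * b = b * ⁅a, b⁆) (hc1 : ⁅a, b⁆ ≠ 1) :
    7 ^ 3 ∣ Nat.card (Subgroup.closure ({a, b} : Set G)) := by
  have : Fact (Nat.Prime 7) := ⟨by norm_num⟩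
  have hP := seven_isPGroup_closure a b ha7 hb7 hca hcb
  obtain ⟨k, hk⟩ := IsPGroup.iff_card.mp hP
  have haU : a ∈ Subgroup.closure ({a, b} : Set G) := Subgroup.subset_closure (by simp)
  have hbU : b ∈ Subgroup.closure ({a, b} : Set G) := Subgroup.subset_closure (by simp)
  have hnc : ¬ ∀ x y : Subgroup.closure ({a, b} : Set G), x * y = y * x := by
    intro h
    apply hc1
    have h1 := congrArg Subtype.val (h ⟨a, haU⟩ ⟨b, hbU⟩)
    have h2 : a * b = b * a := h1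
    rw [commutatorElement_def, h2]; group
  have hk3 : 3 ≤ k := by
    by_contra hlt
    apply hnc
    have hk' : k = 0 ∨ k = 1 ∨ k = 2 := by omega
    rcases hk' with rfl | rfl | rfl
    · rw [pow_zero] at hk
      have : Subsingleton (Subgroup.closure ({a, b} : Set G)) :=
        (Nat.card_eq_one_iff_unique.mp hk).1
      intro x y
      exact Subsingleton.elim _ _
    · rw [pow_one] at hk
      have := isCyclic_of_prime_card hk
      intro x y
      exact (IsCyclic.commGroup).mul_comm x y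
    · have hcomm := IsPGroup.isMulCommutative_of_card_eq_prime_sq hk
      intro x y
      exact hcomm.is_comm.comm x y
  rw [hk]
  exact pow_dvd_pow 7 hk3

section seven

variable {Γ : Type u} {P : Type v} [Group Γ] [Group P] {σ : Γ →* P}

/-- `[x, y ^ n] = [x, y] ^ n` when `[x, y]` is central -/
theorem seven_comm_pow_right (x y : Γ) (hc : ⁅x, y⁆ ∈ Subgroup.center Γ) (n : ℕ) :
    ⁅x, y ^ n⁆ = ⁅x, y⁆ ^ n := by
  induction n with
  | zero => simp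
  | succ n ih =>
    rw [pow_succ, comm_mul_right_of_central hc, ih, pow_succ]

theorem seven_local_extraspecial (hc : σ.ker ≤ Subgroup.center Γ) {a b r : P}
    (har : a ∈ σ.range) (hbr : b ∈ σ.range) (hrr : r ∈ σ.range)
    (ha7 : a ^ 7 = 1) (hb7 : b ^ 7 = 1)
    (hca : ⁅a, b⁆ * a = a * ⁅a, b⁆) (hcb : ⁅a, b⁆ * b = b * ⁅a, b⁆) (hc1 : ⁅a, b⁆ ≠ 1)
    (hra : r * a * r⁻¹ = a ^ 2) (hrb : r * b * r⁻¹ = b ^ 4) :
    ∀ x ∈ ⁅(Subgroup.closure ({a, b} : Set P)).comap σ,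
        (Subgroup.closure ({a, b} : Set P)).comap σ⁆, x ∈ σ.ker → x = 1 := by
  obtain ⟨α, hα⟩ := MonoidHom.mem_range.mp har
  obtain ⟨β, hβ⟩ := MonoidHom.mem_range.mp hbr
  obtain ⟨ρ, hρ⟩ := MonoidHom.mem_range.mp hrr
  have hc7 : ⁅a, b⁆ ^ 7 = 1 := seven_comm_pow_seven a b ha7 hca hcb
  have hrc : r * ⁅a, b⁆ * r⁻¹ = ⁅a, b⁆ := by
    have e1 : r * ⁅a, b⁆ * r⁻¹ = ⁅r * a * r⁻¹, r * b * r⁻¹⁆ := (comm_conj r a b).symm
    rw [e1, hra, hrb, seven_comm_pow a b hca hcb 2 4]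
    have e2 : ⁅a, b⁆ ^ (2 * 4) = ⁅a, b⁆ ^ 7 * ⁅a, b⁆ := by
      rw [← pow_succ]
    rw [e2, hc7, one_mul]
  have hγ : σ ⁅α, β⁆ = ⁅a, b⁆ := by rw [map_commutatorElement, hα, hβ]
  have key : ∀ (δ : Γ) (d : P) (n : ℕ), σ δ = d → d ^ 7 = 1 → ⁅a, b⁆ * d = d * ⁅a, b⁆ →
      r * d * r⁻¹ = d ^ n → ⁅⁅α, β⁆, δ⁆ ^ n = ⁅⁅α, β⁆, δ⁆ ∧ ⁅⁅α, β⁆, δ⁆ ^ 7 = 1 := by
    intro δ d n hδ hd7 hcd hrd
    have hk : ⁅⁅α, β⁆, δ⁆ ∈ σ.ker := by
      rw [MonoidHom.mem_ker, map_commutatorElement, hγ, hδ, commutatorElement_eq_one_iff_mul_comm]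
      exact hcd
    have hkc := hc hk
    have hδ7 : δ ^ 7 ∈ Subgroup.center Γ := hc (by
      rw [MonoidHom.mem_ker, map_pow, hδ, hd7])
    have h7 : ⁅⁅α, β⁆, δ⁆ ^ 7 = 1 :=
      central_commutator_pow_eq_one ⁅α, β⁆ δ hkc 7 (Subgroup.mem_center_iff.mp hδ7 ⁅α, β⁆)
    have e1 : ⁅ρ * ⁅α, β⁆ * ρ⁻¹, ρ * δ * ρ⁻¹⁆ = ⁅⁅α, β⁆, δ⁆ := comm_conj_of_central hkc
    have e2 : ⁅ρ * ⁅α, β⁆ * ρ⁻¹, ρ * δ * ρ⁻¹⁆ = ⁅⁅α, β⁆, δ ^ n⁆ :=
      comm_congr_of_ker_central σ hc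
        (by rw [map_mul, map_mul, map_inv, hρ, hγ, hrc])
        (by rw [map_mul, map_mul, map_inv, map_pow, hρ, hδ, hrd])
    have e3 : ⁅⁅α, β⁆, δ ^ n⁆ = ⁅⁅α, β⁆, δ⁆ ^ n := seven_comm_pow_right _ _ hkc n
    exact ⟨(e1.symm.trans (e2.trans e3)).symm, h7⟩
  have hγα : ⁅α, β⁆ * α = α * ⁅α, β⁆ := by
    obtain ⟨h2, -⟩ := key α a 2 hα ha7 hca hra
    apply commutatorElement_eq_one_iff_mul_comm.mp
    rw [pow_two] at h2
    exact mul_left_cancel (h2.trans (mul_one _).symm)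
  have hγβ : ⁅α, β⁆ * β = β * ⁅α, β⁆ := by
    obtain ⟨h4, h7⟩ := key β b 4 hβ hb7 hcb hrb
    apply commutatorElement_eq_one_iff_mul_comm.mp
    have e : ⁅⁅α, β⁆, β⁆ ^ 7 = ⁅⁅α, β⁆, β⁆ ^ 4 * ⁅⁅α, β⁆, β⁆ ^ 3 := by rw [← pow_add]
    rw [h4, ← pow_succ', h4] at e
    rw [← e]
    exact h7
  have hγ7 : ⁅α, β⁆ ^ 7 = 1 := by
    have h1 : α * β * α⁻¹ = ⁅α, β⁆ * β := by rw [commutatorElement_def]; group
    have hβ7 : β ^ 7 ∈ Subgroup.center Γ := hc (by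
      rw [MonoidHom.mem_ker, map_pow, hβ, hb7])
    have h2 : (α * β * α⁻¹) ^ 7 = β ^ 7 := by
      rw [conj_pow, Subgroup.mem_center_iff.mp hβ7 α]; group
    rw [h1, (show Commute ⁅α, β⁆ β from hγβ).mul_pow] at h2
    exact mul_eq_right.mp h2
  -- the subgroup generated by the lifts and the kernel
  have hT : ∀ x ∈ Subgroup.closure (({α, β} : Set Γ) ∪ (σ.ker : Set Γ)),
      x * ⁅α, β⁆ = ⁅α, β⁆ * x := by
    intro x hx
    have h1 : Subgroup.closure (({α, β} : Set Γ) ∪ (σ.ker : Set Γ)) ≤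
        Subgroup.centralizer {⁅α, β⁆} := by
      rw [Subgroup.closure_le]
      intro z hz
      rw [SetLike.mem_coe, Subgroup.mem_centralizer_iff]
      intro w hw
      rw [Set.mem_singleton_iff.mp hw]
      rcases hz with hz | hz
      · rcases hz with rfl | rfl
        · exact hγα
        · exact hγβ
      · exact (Subgroup.mem_center_iff.mp (hc hz) _)
    have h2 := h1 hx
    rw [Subgroup.mem_centralizer_iff] at h2
    exact (h2 _ rfl).symm
  have hcomm : ∀ x ∈ Subgroup.closure (({α, β} : Set Γ) ∪ (σ.ker : Set Γ)),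
      ∀ y ∈ Subgroup.closure (({α, β} : Set Γ) ∪ (σ.ker : Set Γ)),
      ⁅x, y⁆ ∈ Subgroup.zpowers ⁅α, β⁆ := by
    set T := Subgroup.closure (({α, β} : Set Γ) ∪ (σ.ker : Set Γ)) with hTdef
    have hαT : α ∈ T := Subgroup.subset_closure (Or.inl (by simp))
    have hβT : β ∈ T := Subgroup.subset_closure (Or.inl (by simp))
    have hK' : (σ.ker.subgroupOf T) ≤ Subgroup.center T := by
      intro k hk
      rw [Subgroup.mem_center_iff]
      intro g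
      apply Subtype.ext
      exact Subgroup.mem_center_iff.mp (hc (Subgroup.mem_subgroupOf.mp hk)) g
    have hN' : ((Subgroup.zpowers ⁅α, β⁆).subgroupOf T).Normal := by
      constructor
      intro n hn g
      rw [Subgroup.mem_subgroupOf] at hn ⊢
      obtain ⟨k, hk⟩ := Subgroup.mem_zpowers_iff.mp hn
      have hcm : Commute (g : Γ) (⁅α, β⁆ ^ k) :=
        (show Commute (g : Γ) ⁅α, β⁆ from hT g g.2).zpow_right k
      have : ((g * n * g⁻¹ : T) : Γ) = ⁅α, β⁆ ^ k := by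
        show (g : Γ) * (n : Γ) * (g : Γ)⁻¹ = _
        rw [← hk, hcm.eq, mul_inv_cancel_right]
      rw [this]
      exact Subgroup.zpow_mem _ (Subgroup.mem_zpowers _) k
    have hgen : Subgroup.closure ((({⟨α, hαT⟩, ⟨β, hβT⟩} : Set T)) ∪
        ((σ.ker.subgroupOf T : Subgroup T) : Set T)) = ⊤ := by
      have h := Subgroup.closure_closure_coe_preimage
        (k := (({α, β} : Set Γ) ∪ (σ.ker : Set Γ)))
      have hset : (((↑) : T → Γ) ⁻¹' (({α, β} : Set Γ) ∪ (σ.ker : Set Γ))) =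
          (({⟨α, hαT⟩, ⟨β, hβT⟩} : Set T)) ∪ ((σ.ker.subgroupOf T : Subgroup T) : Set T) := by
        ext ⟨x, hx⟩
        simp only [Set.mem_preimage, Set.mem_union, Set.mem_insert_iff, Set.mem_singleton_iff,
          SetLike.mem_coe, Subgroup.mem_subgroupOf, Subtype.mk.injEq]
      rw [hset] at h
      exact h
    have hxy : ⁅(⟨α, hαT⟩ : T), ⟨β, hβT⟩⁆ ∈ (Subgroup.zpowers ⁅α, β⁆).subgroupOf T := by
      rw [Subgroup.mem_subgroupOf]
      exact Subgroup.mem_zpowers _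
    have hle := commutator_le_of_gen (σ.ker.subgroupOf T) hK' ⟨α, hαT⟩ ⟨β, hβT⟩ hgen
      ((Subgroup.zpowers ⁅α, β⁆).subgroupOf T) hxy
    intro x hx y hy
    have h1 : ⁅(⟨x, hx⟩ : T), ⟨y, hy⟩⁆ ∈ commutator T := by
      rw [commutator_def]
      exact Subgroup.commutator_mem_commutator (Subgroup.mem_top _) (Subgroup.mem_top _)
    have h2 := hle h1
    rw [Subgroup.mem_subgroupOf] at h2
    exact h2
  have hle : ⁅(Subgroup.closure ({a, b} : Set P)).comap σ,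
      (Subgroup.closure ({a, b} : Set P)).comap σ⁆ ≤ Subgroup.zpowers ⁅α, β⁆ := by
    rw [Subgroup.commutator_le]
    intro x hx y hy
    exact hcomm x (comap_closure_pair_le hα hβ hx) y (comap_closure_pair_le hα hβ hy)
  intro x hx hxk
  obtain ⟨k, rfl⟩ := Subgroup.mem_zpowers_iff.mp (hle hx)
  have hck : ⁅a, b⁆ ^ k = 1 := by
    rw [← hγ, ← map_zpow]
    exact MonoidHom.mem_ker.mp hxk
  have : Fact (Nat.Prime 7) := ⟨by norm_num⟩
  have hord : orderOf ⁅a, b⁆ = 7 := orderOf_eq_prime hc7 hc1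
  have hdvd : ((7 : ℕ) : ℤ) ∣ k := by
    rw [← hord]
    exact orderOf_dvd_iff_zpow_eq_one.mpr hck
  obtain ⟨m, rfl⟩ := hdvd
  rw [zpow_mul, zpow_natCast, hγ7, one_zpow]

end seven

theorem seven_local {Γ : Type u} {G : Type v} [Group Γ] [Group G] [Finite G] (σ : Γ →* G)
    (hσ : Function.Surjective σ) (hc : σ.ker ≤ Subgroup.center Γ) (h7 : ¬ 7 ^ 4 ∣ Nat.card G)
    (a b r : G) (ha7 : a ^ 7 = 1) (hb7 : b ^ 7 = 1)
    (hca : ⁅a, b⁆ * a = a * ⁅a, b⁆) (hcb : ⁅a, b⁆ * b = b * ⁅a, b⁆) (hc1 : ⁅a, b⁆ ≠ 1)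
    (hra : r * a * r⁻¹ = a ^ 2) (hrb : r * b * r⁻¹ = b ^ 4) :
    ∃ U : Subgroup G, ¬ 7 ∣ U.index ∧ ∀ y ∈ ⁅U.comap σ, U.comap σ⁆, y ∈ σ.ker → y = 1 := by
  have hr : ∀ g : G, g ∈ σ.range := fun g => MonoidHom.mem_range.mpr (hσ g)
  refine ⟨Subgroup.closure {a, b}, ?_,
    seven_local_extraspecial hc (hr a) (hr b) (hr r) ha7 hb7 hca hcb hc1 hra hrb⟩
  intro h3
  apply h7
  have h343 := seven_dvd_card_closure a b ha7 hb7 hca hcb hc1
  rw [← Subgroup.card_mul_index (Subgroup.closure ({a, b} : Set G))]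
  have h := Nat.mul_dvd_mul h343 h3
  rwa [← pow_succ] at h

end Cfsg.Agent.Lib.Helper19.HeMSEVEN
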