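import Mathlib
import Cfsg.Agent.Lib.Helper25.InvDefs

/-!
# Involutions in a group with a `(B, N)`-pair, piece ID (helper19 for helper25, S2175/S2174):
a commuting ascent `s` of the maximal cell conjugates `u` into `U`.
-/

set_option autoImplicit false

namespace Cfsg.Agent.Lib.Helper25

open Cfsg Cfsg.Agent.Lib.Helper8

section Abstract

variable {G : Type*} [Group G]

/-- ID -/
theorem inv_conj_ascent (P : BNPair G) (U : Subgroup G) (hUB : U ≤ P.B)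
    (hUc : ∀ u ∈ U, ∀ g : G, g * u * g⁻¹ ∈ P.B → g * u * g⁻¹ ∈ U)
    (t : G) (n : P.N) (hmax : MaxCell P t n)
    (g u : G) (hu : u ∈ U) (hg : g * t * g⁻¹ = u * (n : G))
    (σ : G) (hσ : σ ∈ P.S)
    (hasc : len (SW P) (cl P n) < len (SW P) (cl P (sN P hσ) * cl P n))
    (hcomm : cl P (sN P hσ) * cl P n = cl P n * cl P (sN P hσ)) :
    σ * u * σ⁻¹ ∈ U := by
  apply hUc u hu σ
  by_contra hnot
  have h1 := P.mul_mem_union σ hσ σ⁻¹ (S_inv_mem_N P hσ) u (hUB hu)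
  have hdc1 : dc P (σ * σ⁻¹) = (P.B : Set G) := by rw [mul_inv_cancel, dc_one]
  have hdc2 : dc P σ⁻¹ = dc P σ := by
    have h := dc_mul_right (S_sq_inv_mem P hσ) σ
    have e : σ * (σ * σ)⁻¹ = σ⁻¹ := by group
    rwa [e] at h
  have h2 : σ * u * σ⁻¹ ∈ dc P σ := by
    rcases h1 with h1 | h1
    · exfalso
      apply hnot
      have h1' : σ * u * σ⁻¹ ∈ dc P (σ * σ⁻¹) := h1
      rw [hdc1] at h1'
      exact h1'
    · have h1' : σ * u * σ⁻¹ ∈ dc P σ⁻¹ := h1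
      rw [hdc2] at h1'
      exact h1'
  obtain ⟨b1, hb1, b2, hb2, heq⟩ := mem_dc.1 h2
  obtain ⟨n2, hn2⟩ : ∃ n2 : P.N, n2 = sN P hσ * n * (sN P hσ)⁻¹ := ⟨_, rfl⟩
  have hn2G : (n2 : G) = σ * (n : G) * σ⁻¹ := by rw [hn2]; rfl
  have hcl2 : cl P n2 = cl P n := by
    rw [hn2, cl_mul, cl_mul, cl_inv, hcomm, mul_assoc, mul_inv_cancel, mul_one]
  have hle : len (SW P) (cl P n2) ≤ len (SW P) (cl P (sN P hσ * n2)) := by
    rw [cl_mul, hcl2]
    exact hasc.le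
  have h3 := dc_mul_of_le P hσ n2 hle hb2
  have h4 := dc_mul_left_mem hb1 h3
  have h5 : (σ * g) * t * (σ * g)⁻¹ = b1 * (σ * b2 * (n2 : G)) := by
    calc (σ * g) * t * (σ * g)⁻¹ = σ * (g * t * g⁻¹) * σ⁻¹ := by group
      _ = (σ * u * σ⁻¹) * (σ * (n : G) * σ⁻¹) := by rw [hg]; group
      _ = b1 * (σ * b2 * (n2 : G)) := by rw [heq, hn2G]; group
  have h6 := hmax (σ * g) (sN P hσ * n2) (by rw [h5]; exact h4)
  rw [cl_mul, hcl2] at h6
  exact absurd h6 (not_le.2 hasc)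

end Abstract

end Cfsg.Agent.Lib.Helper25
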