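import Mathlib
import Cfsg.Agent.Lib.Helper88.OutA

/-!
# S2080 (helper38, Out(Fi23) = 1), piece KZERO

The statement `kzero` of `tools/helper38/OutSkel2.lean.txt` is not provable as written (the element
`x0` has to commute with `z` and `j`; there is a counterexample in `S₃ ≀ C₂` otherwise).  Here:

* `kzero_core`: no `hone`, no extra hypothesis: some `m` with `φ k q0 = φ (x0 ^ m) q0` such that
  `(x0 ^ m)⁻¹ * k` commutes with `y` (and with `x0`);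
* `kzero_of`: the statement of the skeleton with the two extra hypotheses `hxz`, `hxj`.
-/

set_option autoImplicit false

namespace Cfsg.Agent.Lib.Helper19.OutKZero

open Cfsg.Agent.Lib.Helper88.OutA

/-- The core of `kzero`: for `k` commuting with `x0`, `z`, `j` there is `m` such that
`k' = (x0 ^ m)⁻¹ * k` fixes the point `q0 = φ gY 0` of `y`, hence commutes with `y`
(and with `x0`). -/
theorem kzero_core {G : Type} [Group G] (φ : G →* Equiv.Perm ℕ) (z : G)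
    (hst : ∀ g : G, φ g 0 = 0 ↔ g * z = z * g)
    (x0 j y gY : G) (hy : y = gY * z * gY⁻¹)
    (hyz : φ z (φ gY 0) = φ gY 0) (hyj : φ j (φ gY 0) = φ gY 0)
    (hE : ∀ g : G, φ z (φ g 0) = φ g 0 → φ j (φ g 0) = φ g 0 →
      (∃ m : ℕ, φ g 0 = φ (x0 ^ m) (φ gY 0)) ∨
      ∃ (W : G) (m : ℕ), φ W 0 = φ g 0 ∧
        ¬ (φ y (φ (x0 ^ m) (φ gY 0)) = φ (x0 ^ m) (φ gY 0) ↔
           φ (W * z * W⁻¹) (φ (x0 ^ m) (φ g 0)) = φ (x0 ^ m) (φ g 0)))
    (k : G) (hkx : k * x0 = x0 * k) (hkz : k * z = z * k) (hkj : k * j = j * k) :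
    ∃ m : ℕ, φ k (φ gY 0) = φ (x0 ^ m) (φ gY 0) ∧
      (x0 ^ m)⁻¹ * k * x0 = x0 * ((x0 ^ m)⁻¹ * k) ∧
      (x0 ^ m)⁻¹ * k * y = y * ((x0 ^ m)⁻¹ * k) := by
  have hq : φ (k * gY) 0 = φ k (φ gY 0) := by rw [map_mul, Equiv.Perm.mul_apply]
  have hz' : φ z (φ (k * gY) 0) = φ (k * gY) 0 := by
    rw [hq, ← Equiv.Perm.mul_apply, ← map_mul, ← hkz, map_mul, Equiv.Perm.mul_apply, hyz]
  have hj' : φ j (φ (k * gY) 0) = φ (k * gY) 0 := by
    rw [hq, ← Equiv.Perm.mul_apply, ← map_mul, ← hkj, map_mul, Equiv.Perm.mul_apply, hyj]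
  rcases hE (k * gY) hz' hj' with ⟨m, hm⟩ | ⟨W, m, hW, hne⟩
  · refine ⟨m, ?_, ?_, ?_⟩
    · rw [← hq, hm]
    · have hc : Commute ((x0 ^ m)⁻¹ * k) x0 :=
        (((Commute.refl x0).pow_left m).inv_left).mul_left hkx
      exact hc.eq
    · have hfix : φ ((x0 ^ m)⁻¹ * k) (φ gY 0) = φ gY 0 := by
        rw [map_mul, Equiv.Perm.mul_apply, ← hq, hm, ← Equiv.Perm.mul_apply, ← map_mul,
          inv_mul_cancel, map_one, Equiv.Perm.one_apply]
      rw [hy]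
      exact (comm_iff_fix φ z hst gY _).2 hfix
  · exfalso
    apply hne
    have hWk : W * z * W⁻¹ = k * y * k⁻¹ := by
      have h1 : W * z * W⁻¹ = (k * gY) * z * (k * gY)⁻¹ := (conj_eq_iff φ z hst W (k * gY)).2 hW
      rw [h1, hy]
      group
    have hkm : Commute k (x0 ^ m) := (show Commute k x0 from hkx).pow_right m
    have e1 : φ (x0 ^ m) (φ k (φ gY 0)) = φ k (φ (x0 ^ m) (φ gY 0)) := by
      rw [← Equiv.Perm.mul_apply, ← map_mul, ← hkm.eq, map_mul, Equiv.Perm.mul_apply]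
    have e2 : ∀ a : ℕ, φ (k * y * k⁻¹) (φ k a) = φ k (φ y a) := by
      intro a
      rw [← Equiv.Perm.mul_apply, ← map_mul]
      have h2 : k * y * k⁻¹ * k = k * y := by group
      rw [h2, map_mul, Equiv.Perm.mul_apply]
    rw [hWk, hq, e1, e2]
    exact ((φ k).injective.eq_iff).symm

/-- `kzero` of the skeleton, with the extra hypotheses that `x0` commutes with `z` and `j`:
an element `k` commuting with `x0`, `z`, `j` is a power of `x0`. -/
theorem kzero_of {G : Type} [Group G] (φ : G →* Equiv.Perm ℕ) (z : G)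
    (hst : ∀ g : G, φ g 0 = 0 ↔ g * z = z * g)
    (x0 j y gY : G) (hy : y = gY * z * gY⁻¹)
    (hyz : φ z (φ gY 0) = φ gY 0) (hyj : φ j (φ gY 0) = φ gY 0)
    (hxz : x0 * z = z * x0) (hxj : x0 * j = j * x0)
    (hE : ∀ g : G, φ z (φ g 0) = φ g 0 → φ j (φ g 0) = φ g 0 →
      (∃ m : ℕ, φ g 0 = φ (x0 ^ m) (φ gY 0)) ∨
      ∃ (W : G) (m : ℕ), φ W 0 = φ g 0 ∧
        ¬ (φ y (φ (x0 ^ m) (φ gY 0)) = φ (x0 ^ m) (φ gY 0) ↔
           φ (W * z * W⁻¹) (φ (x0 ^ m) (φ g 0)) = φ (x0 ^ m) (φ g 0)))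
    (hone : ∀ k : G, k * x0 = x0 * k → k * z = z * k → k * j = j * k → k * y = y * k → k = 1)
    (k : G) (hkx : k * x0 = x0 * k) (hkz : k * z = z * k) (hkj : k * j = j * k) :
    ∃ m : ℕ, k = x0 ^ m := by
  obtain ⟨m, -, hcx, hcy⟩ := kzero_core φ z hst x0 j y gY hy hyz hyj hE k hkx hkz hkj
  refine ⟨m, ?_⟩
  have hcz : (x0 ^ m)⁻¹ * k * z = z * ((x0 ^ m)⁻¹ * k) :=
    ((((show Commute x0 z from hxz).pow_left m).inv_left).mul_left hkz).eq
  have hcj : (x0 ^ m)⁻¹ * k * j = j * ((x0 ^ m)⁻¹ * k) :=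
    ((((show Commute x0 j from hxj).pow_left m).inv_left).mul_left hkj).eq
  have h1 := hone ((x0 ^ m)⁻¹ * k) hcx hcz hcj hcy
  calc k = x0 ^ m * ((x0 ^ m)⁻¹ * k) := by group
    _ = x0 ^ m := by rw [h1, mul_one]

end Cfsg.Agent.Lib.Helper19.OutKZero
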