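import Mathlib

/-! Project QB (helper48, S2359), piece CF5 (backup copy b, helper19). -/

set_option autoImplicit false

namespace Cfsg.Agent.Lib.Helper48.QB

theorem cf5b_mem_sylow {C : Type*} [Group C] [Finite C] (V : Sylow 2 C) (z : C) (hz2 : z * z = 1)
    (hzc : z ∈ Subgroup.centralizer ((V : Subgroup C) : Set C)) : z ∈ V := by
  have hP : IsPGroup 2 (Subgroup.zpowers z) := by
    intro g
    refine ⟨1, ?_⟩
    obtain ⟨g, hg⟩ := g
    obtain ⟨j, rfl⟩ := Subgroup.mem_zpowers_iff.mp hg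
    apply Subtype.ext
    have h1 : (z ^ j) ^ 2 = 1 := by
      rw [pow_two, ← zpow_add, ← two_mul, zpow_mul, zpow_ofNat, pow_two, hz2, one_zpow]
    simpa using h1
  have h1 := IsPGroup.inf_normalizer_sylow hP V
  have h2 : z ∈ Subgroup.zpowers z ⊓ Subgroup.normalizer ((V : Subgroup C) : Set C) :=
    ⟨Subgroup.mem_zpowers z,
      Subgroup.centralizer_le_normalizer ((V : Subgroup C) : Set C) hzc⟩
  have h3 : z ∈ Subgroup.zpowers z ⊓ (V : Subgroup C) := by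
    rw [← h1]
    exact h2
  exact h3.2

-- QB-CF5
theorem cf_kernel {C : Type*} [Group C] [Finite C] (V : Sylow 2 C) (hV4 : Nat.card V = 4)
    (hE : ∀ x ∈ V, x * x = 1)
    (hcent : ∀ v ∈ V, v ≠ 1 →
      Subgroup.centralizer {v} = Subgroup.centralizer ((V : Subgroup C) : Set C))
    (K : Subgroup C) (hKn : K.Normal) (hKV : K ⊓ (V : Subgroup C) = ⊥)
    (hKV' : ∀ c : C, ∃ k ∈ K, ∃ v ∈ V, c = k * v)
    (hdih : ∀ a b : C, a * a = 1 → b * b = 1 → (∃ g : C, g * a * g⁻¹ = b) ∨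
      ∃ z : C, z ≠ 1 ∧ z * z = 1 ∧ z * a = a * z ∧ z * b = b * z) :
    ∀ k ∈ K, k ∈ Subgroup.centralizer ((V : Subgroup C) : Set C) := by
  classical
  -- `V` is abelian
  have hab : ∀ x ∈ V, ∀ y ∈ V, x * y = y * x := by
    intro x hx y hy
    have h1 := hE (x * y) ((V : Subgroup C).mul_mem hx hy)
    have h2 := hE x hx
    have h3 := hE y hy
    have hxy : x * y = (x * y)⁻¹ := eq_inv_of_mul_eq_one_left h1
    rw [hxy, mul_inv_rev, inv_eq_of_mul_eq_one_left h2, inv_eq_of_mul_eq_one_left h3]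
  -- two distinct non-identity elements
  obtain ⟨v₁, hv₁V, hv₁1, v₂, hv₂V, hv₂1, hne⟩ :
      ∃ v₁ ∈ V, v₁ ≠ 1 ∧ ∃ v₂ ∈ V, v₂ ≠ 1 ∧ v₁ ≠ v₂ := by
    haveI : Fintype ↥V := Fintype.ofFinite _
    have hc : Fintype.card ↥V = 4 := by
      rw [← Nat.card_eq_fintype_card]
      exact hV4
    obtain ⟨a, ha⟩ : ∃ a : ↥V, a ≠ 1 := by
      by_contra hcon
      push Not at hcon
      have h1 : Fintype.card ↥V ≤ 1 :=
        Fintype.card_le_one_iff.mpr (fun x y => by rw [hcon x, hcon y])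
      omega
    obtain ⟨b, hb1, hba⟩ : ∃ b : ↥V, b ≠ 1 ∧ b ≠ a := by
      by_contra hcon
      push Not at hcon
      have hsub : (Finset.univ : Finset ↥V) ⊆ {1, a} := by
        intro x _
        by_cases hx : x = 1
        · simp [hx]
        · simp [hcon x hx]
      have h1 := Finset.card_le_card hsub
      rw [Finset.card_univ, hc] at h1
      have h2 : ({1, a} : Finset ↥V).card ≤ 2 := Finset.card_le_two
      omega
    exact ⟨a.1, a.2, fun h => ha (Subtype.ext h), b.1, b.2, fun h => hb1 (Subtype.ext h),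
      fun h => hba (Subtype.ext h.symm)⟩
  intro k hk
  have hb2 : (k * v₂ * k⁻¹) * (k * v₂ * k⁻¹) = 1 := by
    have h1 := hE v₂ hv₂V
    calc (k * v₂ * k⁻¹) * (k * v₂ * k⁻¹) = k * (v₂ * v₂) * k⁻¹ := by group
      _ = 1 := by rw [h1]; group
  rcases hdih v₁ (k * v₂ * k⁻¹) (hE v₁ hv₁V) hb2 with ⟨g, hg⟩ | ⟨z, hz1, hz2, hza, hzb⟩
  · exfalso
    obtain ⟨k', hk', v', hv', rfl⟩ := hKV' g
    have h1 : v' * v₁ = v₁ * v' := hab v' hv' v₁ hv₁V
    have h2 : k' * v₁ * k'⁻¹ = k * v₂ * k⁻¹ := by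
      rw [← hg]
      calc k' * v₁ * k'⁻¹ = k' * (v₁ * v') * v'⁻¹ * k'⁻¹ := by group
        _ = k' * (v' * v₁) * v'⁻¹ * k'⁻¹ := by rw [h1]
        _ = k' * v' * v₁ * (k' * v')⁻¹ := by group
    have h3 : v₁⁻¹ * v₂ = (v₁⁻¹ * (k⁻¹ * k') * v₁⁻¹⁻¹) * (k⁻¹ * k')⁻¹ := by
      have h0 : v₂ = k⁻¹ * (k * v₂ * k⁻¹) * k := by group
      rw [h0, ← h2]
      group
    have h4 : v₁⁻¹ * v₂ ∈ K := by
      rw [h3]
      exact K.mul_mem (hKn.conj_mem _ (K.mul_mem (K.inv_mem hk) hk') _)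
        (K.inv_mem (K.mul_mem (K.inv_mem hk) hk'))
    have h5 : v₁⁻¹ * v₂ ∈ (V : Subgroup C) :=
      (V : Subgroup C).mul_mem ((V : Subgroup C).inv_mem hv₁V) hv₂V
    have h6 : v₁⁻¹ * v₂ ∈ K ⊓ (V : Subgroup C) := ⟨h4, h5⟩
    rw [hKV, Subgroup.mem_bot] at h6
    exact hne (inv_mul_eq_one.mp h6)
  · have hzc : z ∈ Subgroup.centralizer ((V : Subgroup C) : Set C) := by
      rw [← hcent v₁ hv₁V hv₁1, Subgroup.mem_centralizer_iff]
      intro h hh
      rw [Set.mem_singleton_iff] at hh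
      rw [hh]
      exact hza.symm
    have hzV := cf5b_mem_sylow V z hz2 hzc
    have hz'2 : (k⁻¹ * z * k) * (k⁻¹ * z * k) = 1 := by
      calc (k⁻¹ * z * k) * (k⁻¹ * z * k) = k⁻¹ * (z * z) * k := by group
        _ = 1 := by rw [hz2]; group
    have hz'c : (k⁻¹ * z * k) ∈ Subgroup.centralizer ((V : Subgroup C) : Set C) := by
      rw [← hcent v₂ hv₂V hv₂1, Subgroup.mem_centralizer_iff]
      intro h hh
      rw [Set.mem_singleton_iff] at hh
      rw [hh]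
      calc v₂ * (k⁻¹ * z * k) = k⁻¹ * ((k * v₂ * k⁻¹) * z) * k := by group
        _ = k⁻¹ * (z * (k * v₂ * k⁻¹)) * k := by rw [hzb]
        _ = (k⁻¹ * z * k) * v₂ := by group
    have hz'V := cf5b_mem_sylow V (k⁻¹ * z * k) hz'2 hz'c
    have h7 : (k⁻¹ * z * k) * z⁻¹ ∈ K := by
      have h0 : (k⁻¹ * z * k) * z⁻¹ = k⁻¹ * (z * k * z⁻¹) := by group
      rw [h0]
      exact K.mul_mem (K.inv_mem hk) (hKn.conj_mem k hk z)
    have h8 : (k⁻¹ * z * k) * z⁻¹ ∈ (V : Subgroup C) :=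
      (V : Subgroup C).mul_mem hz'V ((V : Subgroup C).inv_mem hzV)
    have h9 : (k⁻¹ * z * k) * z⁻¹ ∈ K ⊓ (V : Subgroup C) := ⟨h7, h8⟩
    rw [hKV, Subgroup.mem_bot] at h9
    have h10 : k⁻¹ * z * k = z := mul_inv_eq_one.mp h9
    have h11 : z * k = k * z := by
      calc z * k = k * (k⁻¹ * z * k) := by group
        _ = k * z := by rw [h10]
    rw [← hcent z hzV hz1, Subgroup.mem_centralizer_iff]
    intro h hh
    rw [Set.mem_singleton_iff] at hh
    rw [hh]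
    exact h11

end Cfsg.Agent.Lib.Helper48.QB
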