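import Mathlib

/-!
# S6002 piece SM-HALF (for helper98): an index-two lemma

NOTE: the statement of the skeleton is false for an empty index type `n` (then `GL n F` is trivial
and `1 ≠ 2 * 1`), so the hypothesis `[Nonempty n]` is added.
-/

set_option autoImplicit false

namespace Cfsg.Agent.Lib.Helper98.SM

open Matrix

theorem half_card_neg_ne {F : Type*} [Field F] {n : Type*} [Fintype n] [DecidableEq n]
    [Nonempty n] (h2 : (2 : F) ≠ 0) (x : GL n F) : -x ≠ x := by
  intro hx
  have h3 : -(x : Matrix n n F) = (x : Matrix n n F) := by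
    have h := congrArg Units.val hx
    rwa [Units.val_neg] at h
  have h1 : (x : Matrix n n F) = 0 := by
    ext i j
    have h4 := congrFun (congrFun h3 i) j
    rw [Matrix.neg_apply] at h4
    have h5 : (2 : F) * (x : Matrix n n F) i j = 0 := by linear_combination (-1 : F) * h4
    rcases mul_eq_zero.mp h5 with h6 | h6
    · exact absurd h6 h2
    · simpa using h6
  exact x.ne_zero h1

theorem half_card {F : Type*} [Field F] {n : Type*} [Fintype n] [DecidableEq n] [Nonempty n]
    (h2 : (2 : F) ≠ 0) (H : Subgroup (GL n F)) [Finite H] (t s : GL n F)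
    (hH : ∀ ρ ∈ H, ρ * t = t * ρ ∨ ρ * t = -(t * ρ)) (hs : s ∈ H) (hst : s * t = -(t * s)) :
    Nat.card H = 2 * Nat.card (H ⊓ Subgroup.centralizer {t} : Subgroup (GL n F)) := by
  have hmem : ∀ b : ↥H, b ∈ (H ⊓ Subgroup.centralizer {t}).subgroupOf H ↔
      (b : GL n F) * t = t * (b : GL n F) := by
    intro b
    rw [Subgroup.mem_subgroupOf, Subgroup.mem_inf, Subgroup.mem_centralizer_iff]
    constructor
    · rintro ⟨-, h⟩
      exact (h t rfl).symm
    · intro h
      refine ⟨b.2, ?_⟩
      intro x hx
      rw [Set.mem_singleton_iff.mp hx]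
      exact h.symm
  have hidx : ((H ⊓ Subgroup.centralizer {t}).subgroupOf H).index = 2 := by
    rw [Subgroup.index_eq_two_iff]
    refine ⟨⟨s, hs⟩, fun b => ?_⟩
    rw [hmem, hmem]
    show Xor' ((b : GL n F) * s * t = t * ((b : GL n F) * s)) ((b : GL n F) * t = t * (b : GL n F))
    rcases hH b.1 b.2 with hb | hb
    · right
      refine ⟨hb, ?_⟩
      intro hbs
      have e : (b : GL n F) * s * t = -(t * ((b : GL n F) * s)) := by
        rw [mul_assoc, hst, mul_neg, ← mul_assoc, hb, mul_assoc]
      rw [hbs] at e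
      exact half_card_neg_ne h2 _ e.symm
    · left
      refine ⟨?_, ?_⟩
      · rw [mul_assoc, hst, mul_neg, ← mul_assoc, hb, neg_mul, neg_neg, mul_assoc]
      · intro hb'
        rw [hb'] at hb
        exact half_card_neg_ne h2 _ hb.symm
  have hcard := Subgroup.card_mul_index ((H ⊓ Subgroup.centralizer {t}).subgroupOf H)
  rw [hidx] at hcard
  have hK : Nat.card ((H ⊓ Subgroup.centralizer {t}).subgroupOf H) =
      Nat.card (H ⊓ Subgroup.centralizer {t} : Subgroup (GL n F)) :=
    Nat.card_congr (Subgroup.subgroupOfEquivOfLe inf_le_left).toEquiv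
  rw [hK] at hcard
  rw [← hcard, mul_comm]

end Cfsg.Agent.Lib.Helper98.SM
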